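import Cfsg.Agent.Mrg.Omega.NO3S.PB.Geom
import Cfsg.Agent.Mrg.Omega.NO3S.OneLine.Abs
import Mathlib
import Cfsg.Agent.Lib.Cores
import Cfsg.Agent.ZN.Block
import Cfsg.Agent.Involutions.BaerSuzuki

-- merged: Cfsg.Agent.Mrg.Omega.NO3S.OneQ.Base
section

/-!
# NO-3S, natural lines, critical distance 1 (`OneQ`): the K-free base

Points: conjugates of `Z`; lines: conjugates of `V`; `W_X = ws V X`, `K_X = kx V X` (`PointTI.lean`, `PointFTwo.lean`);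
`I = IV V Z = W_X ∩ W_Y`, `XV V Z = ⟨K_X⟩` (`X`, `Y` points of `V`, `X ≠ Y`).

* `One S B P V Z` : `PB`, (F1), `Ω₁(Z(C_B(V))) ≤ V`, and `[W_Z, W_Y] ≠ 1` for some point `Y` of `V`;
* `Pnt V Z X` : `X` is a point of `V`; `One.pt` : every point of `V` is as good as `Z`;
* `ee V Z X` = `E_X = W_X ∩ K_Y`, `dd V Z X` = `D_X = C_{W_X}(W_Y)`, `w1 V Z X = C_{W_X}(E_Y)`,
  `n0 V Z X = {w ∈ W_X | [w, W_Y] ≤ V}`; they do not depend on `Y ≠ X` (`One.ee_eq`, ..);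
* `One.comm_mem` : `[W_X, W_Y] ≤ I`; `One.ee_comm` : `[E_X, E_Y] = 1`; `One.kx_ee` : `[K_Y ∩ C_G(V), W_X] ≤ E_X`;
  `One.kx_dd` : `[K_Y ∩ C_G(V), E_X] ≤ D_X`;
* `One.mem_V_of_kx` : `C_I(⟨K_X ∩ C_G(V)⟩) = V`;
* `One.w1_comm` (III.a) : `[w1 X, w1 Y] ≤ V`;
* `One.relIndex_ee` : `|W_X : E_X| = |W_Y : E_Y|`; `One.card_cent` (III.b) : `|W_X : C_{W_X}(b)| ≤ q |W_X : E_X|` for
  `b ∈ W_Y`.
-/

set_option autoImplicit false
set_option linter.unusedSectionVars false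

namespace Cfsg.Agent.Omega.NO3S.OneQ

open Subgroup Cfsg.Agent.Omega.NO3S.PT Cfsg.Agent.Omega.NoFF.Basic
open scoped Pointwise

variable {G : Type*} [Group G]

/-- `X` is a point of `V` -/
structure Pnt (V Z X : Subgroup G) : Prop where
  cj : IsCj Z X
  le : X ≤ V

theorem pnt_iff {V Z X Y : Subgroup G} (hX : IsCj Z X) : Pnt V X Y ↔ Pnt V Z Y := by
  obtain ⟨g, rfl⟩ := hX
  constructor
  · rintro ⟨h1, h2⟩
    exact ⟨isCj_cj.1 h1, h2⟩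
  · rintro ⟨h1, h2⟩
    exact ⟨isCj_cj.2 h1, h2⟩

theorem IV_of {V Z X : Subgroup G} (hX : IsCj Z X) : IV V X = IV V Z := by
  unfold IV
  congr 1
  ext W
  constructor
  · rintro ⟨Y, h1, h2, rfl⟩
    exact ⟨Y, ((pnt_iff hX).1 ⟨h1, h2⟩).cj, h2, rfl⟩
  · rintro ⟨Y, h1, h2, rfl⟩
    exact ⟨Y, ((pnt_iff hX).2 ⟨h1, h2⟩).cj, h2, rfl⟩

theorem XV_of {V Z X : Subgroup G} (hX : IsCj Z X) : XV V X = XV V Z := by
  unfold XV
  congr 1
  ext W
  constructor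
  · rintro ⟨Y, h1, h2, rfl⟩
    exact ⟨Y, ((pnt_iff hX).1 ⟨h1, h2⟩).cj, h2, rfl⟩
  · rintro ⟨Y, h1, h2, rfl⟩
    exact ⟨Y, ((pnt_iff hX).2 ⟨h1, h2⟩).cj, h2, rfl⟩

/-- `E_X = W_X ∩ ⋂ K_Y`, `Y ≠ X` a point of `V` -/
def ee (V Z X : Subgroup G) : Subgroup G := ws V X ⊓ sInf {K | ∃ Y, Pnt V Z Y ∧ Y ≠ X ∧ K = kx V Y}

/-- `D_X = C_{W_X}(W_Y)` for all points `Y ≠ X` of `V` -/
def dd (V Z X : Subgroup G) : Subgroup G :=
  ws V X ⊓ sInf {K | ∃ Y, Pnt V Z Y ∧ Y ≠ X ∧ K = centralizer ((ws V Y : Subgroup G) : Set G)}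

/-- `C_{W_X}(E_Y)` for all points `Y ≠ X` of `V` -/
def w1 (V Z X : Subgroup G) : Subgroup G :=
  ws V X ⊓ sInf {K | ∃ Y, Pnt V Z Y ∧ Y ≠ X ∧ K = centralizer ((ee V Z Y : Subgroup G) : Set G)}

/-- `{w ∈ W_X | [w, W_Y] ≤ V}` for all points `Y` of `V` -/
def n0 (V Z X : Subgroup G) : Subgroup G where
  carrier := {w | w ∈ ws V X ∧ w ∈ centralizer (V : Set G) ∧
    ∀ Y, Pnt V Z Y → ∀ u ∈ ws V Y, w * u * w⁻¹ * u⁻¹ ∈ V}
  one_mem' := ⟨one_mem _, one_mem _, fun Y _ u _ => by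
    have : (1 : G) * u * 1⁻¹ * u⁻¹ = 1 := by group
    rw [this]; exact one_mem _⟩
  mul_mem' := by
    rintro a b ⟨ha, ha1, ha2⟩ ⟨hb, hb1, hb2⟩
    refine ⟨mul_mem ha hb, mul_mem ha1 hb1, fun Y hY u hu => ?_⟩
    have e : a * b * u * (a * b)⁻¹ * u⁻¹ = a * (b * u * b⁻¹ * u⁻¹) * a⁻¹ * (a * u * a⁻¹ * u⁻¹) := by group
    have h1 := mem_centralizer_iff.1 ha1 _ (hb2 Y hY u hu)
    rw [e, ← h1, mul_inv_cancel_right]
    exact mul_mem (hb2 Y hY u hu) (ha2 Y hY u hu)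
  inv_mem' := by
    rintro a ⟨ha, ha1, ha2⟩
    refine ⟨inv_mem ha, inv_mem ha1, fun Y hY u hu => ?_⟩
    have e : a⁻¹ * u * a⁻¹⁻¹ * u⁻¹ = a⁻¹ * ((a * u * a⁻¹ * u⁻¹)⁻¹ * a) := by group
    have h1 := mem_centralizer_iff.1 ha1 _ (inv_mem (ha2 Y hY u hu))
    rw [e, h1, inv_mul_cancel_left]
    exact inv_mem (ha2 Y hY u hu)

theorem ee_le {V Z X : Subgroup G} : ee V Z X ≤ ws V X := inf_le_left

theorem dd_le {V Z X : Subgroup G} : dd V Z X ≤ ws V X := inf_le_left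

theorem w1_le {V Z X : Subgroup G} : w1 V Z X ≤ ws V X := inf_le_left

theorem n0_le {V Z X : Subgroup G} : n0 V Z X ≤ ws V X := fun _ hw => hw.1

theorem mem_ee {V Z X : Subgroup G} {w : G} :
    w ∈ ee V Z X ↔ w ∈ ws V X ∧ ∀ Y, Pnt V Z Y → Y ≠ X → w ∈ kx V Y := by
  unfold ee
  rw [mem_inf, mem_sInf]
  refine and_congr_right fun _ => ⟨fun h Y hY hne => h _ ⟨Y, hY, hne, rfl⟩, ?_⟩
  rintro h _ ⟨Y, hY, hne, rfl⟩
  exact h Y hY hne

theorem mem_dd {V Z X : Subgroup G} {w : G} :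
    w ∈ dd V Z X ↔ w ∈ ws V X ∧ ∀ Y, Pnt V Z Y → Y ≠ X → w ∈ centralizer ((ws V Y : Subgroup G) : Set G) := by
  unfold dd
  rw [mem_inf, mem_sInf]
  refine and_congr_right fun _ => ⟨fun h Y hY hne => h _ ⟨Y, hY, hne, rfl⟩, ?_⟩
  rintro h _ ⟨Y, hY, hne, rfl⟩
  exact h Y hY hne

theorem mem_w1 {V Z X : Subgroup G} {w : G} :
    w ∈ w1 V Z X ↔ w ∈ ws V X ∧ ∀ Y, Pnt V Z Y → Y ≠ X → w ∈ centralizer ((ee V Z Y : Subgroup G) : Set G) := by
  unfold w1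
  rw [mem_inf, mem_sInf]
  refine and_congr_right fun _ => ⟨fun h Y hY hne => h _ ⟨Y, hY, hne, rfl⟩, ?_⟩
  rintro h _ ⟨Y, hY, hne, rfl⟩
  exact h Y hY hne

theorem mem_n0 {V Z X : Subgroup G} {w : G} : w ∈ n0 V Z X ↔ w ∈ ws V X ∧ w ∈ centralizer (V : Set G) ∧
    ∀ Y, Pnt V Z Y → ∀ u ∈ ws V Y, w * u * w⁻¹ * u⁻¹ ∈ V := Iff.rfl

/-- **The hypotheses** of the case `n = 1`. -/
structure One [Finite G] (S : Sylow 2 G) (B P V Z : Subgroup G) : Prop where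
  pl : PB S B P V Z
  hf : ¬ kx V Z ≤ centralizer (V : Set G)
  hO : OmB B V
  nc : ∃ Y, Pnt V Z Y ∧ ¬ ws V Z ≤ centralizer ((ws V Y : Subgroup G) : Set G)

/-! ### conjugation of the subgroups -/

section conj

variable {V Z X : Subgroup G} {g : G}

theorem Pnt.conj {Y : Subgroup G} (h : Pnt V Z Y) (hg : g ∈ normalizer (V : Set G)) : Pnt V Z (PT.cj g Y) := by
  refine ⟨h.cj.cj g, ?_⟩
  have h1 := cj_le_cj (g := g).2 h.le
  rwa [cj_eq_iff.2 hg] at h1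

theorem cj_ee (hg : g ∈ normalizer (V : Set G)) : PT.cj g (ee V Z X) = ee V Z (PT.cj g X) := by
  have key : ∀ g ∈ normalizer (V : Set G), ∀ X, PT.cj g (ee V Z X) ≤ ee V Z (PT.cj g X) := by
    intro g hg X w hw
    rw [mem_cj, mem_ee] at hw
    refine mem_ee.2 ⟨?_, fun Y hY hne => ?_⟩
    · rw [ws_cj, mem_cj]; exact hw.1
    · have h1 := hw.2 _ (hY.conj (inv_mem hg)) (fun e => hne (by
        rw [← e, cj_cj, mul_inv_cancel, cj_one]))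
      rw [kx_cj, mem_cj, inv_inv] at h1
      have e : g * (g⁻¹ * w * g) * g⁻¹ = w := by group
      rwa [e] at h1
  refine le_antisymm (key g hg X) ?_
  have h1 := key g⁻¹ (inv_mem hg) (PT.cj g X)
  rw [cj_cj, inv_mul_cancel, cj_one, cj_le_iff, inv_inv] at h1
  exact h1

theorem cj_dd (hg : g ∈ normalizer (V : Set G)) : PT.cj g (dd V Z X) = dd V Z (PT.cj g X) := by
  have key : ∀ g ∈ normalizer (V : Set G), ∀ X, PT.cj g (dd V Z X) ≤ dd V Z (PT.cj g X) := by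
    intro g hg X w hw
    rw [mem_cj, mem_dd] at hw
    refine mem_dd.2 ⟨?_, fun Y hY hne => ?_⟩
    · rw [ws_cj, mem_cj]; exact hw.1
    · have h1 := hw.2 _ (hY.conj (inv_mem hg)) (fun e => hne (by
        rw [← e, cj_cj, mul_inv_cancel, cj_one]))
      rw [ws_cj, ← cj_centralizer, mem_cj, inv_inv] at h1
      have e : g * (g⁻¹ * w * g) * g⁻¹ = w := by group
      rwa [e] at h1
  refine le_antisymm (key g hg X) ?_
  have h1 := key g⁻¹ (inv_mem hg) (PT.cj g X)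
  rw [cj_cj, inv_mul_cancel, cj_one, cj_le_iff, inv_inv] at h1
  exact h1

theorem cj_w1 (hg : g ∈ normalizer (V : Set G)) : PT.cj g (w1 V Z X) = w1 V Z (PT.cj g X) := by
  have key : ∀ g ∈ normalizer (V : Set G), ∀ X, PT.cj g (w1 V Z X) ≤ w1 V Z (PT.cj g X) := by
    intro g hg X w hw
    rw [mem_cj, mem_w1] at hw
    refine mem_w1.2 ⟨?_, fun Y hY hne => ?_⟩
    · rw [ws_cj, mem_cj]; exact hw.1
    · have h1 := hw.2 _ (hY.conj (inv_mem hg)) (fun e => hne (by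
        rw [← e, cj_cj, mul_inv_cancel, cj_one]))
      rw [← cj_ee (inv_mem hg), ← cj_centralizer, mem_cj, inv_inv] at h1
      have e : g * (g⁻¹ * w * g) * g⁻¹ = w := by group
      rwa [e] at h1
  refine le_antisymm (key g hg X) ?_
  have h1 := key g⁻¹ (inv_mem hg) (PT.cj g X)
  rw [cj_cj, inv_mul_cancel, cj_one, cj_le_iff, inv_inv] at h1
  exact h1

theorem cj_n0 (hg : g ∈ normalizer (V : Set G)) : PT.cj g (n0 V Z X) = n0 V Z (PT.cj g X) := by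
  have key : ∀ g ∈ normalizer (V : Set G), ∀ X, PT.cj g (n0 V Z X) ≤ n0 V Z (PT.cj g X) := by
    intro g hg X w hw
    rw [mem_cj, mem_n0] at hw
    refine mem_n0.2 ⟨?_, ?_, fun Y hY u hu => ?_⟩
    · rw [ws_cj, mem_cj]; exact hw.1
    · rw [← cj_eq_iff.2 hg, ← cj_centralizer, mem_cj]; exact hw.2.1
    · have hu' : g⁻¹ * u * g ∈ ws V (PT.cj g⁻¹ Y) := by
        rw [ws_cj, mem_cj, inv_inv]
        have e : g * (g⁻¹ * u * g) * g⁻¹ = u := by group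
        rwa [e]
      have h1 := hw.2.2 _ (hY.conj (inv_mem hg)) _ hu'
      have h2 := (mem_normalizer_iff.1 hg _).1 h1
      have e : g * (g⁻¹ * w * g * (g⁻¹ * u * g) * (g⁻¹ * w * g)⁻¹ * (g⁻¹ * u * g)⁻¹) * g⁻¹ =
        w * u * w⁻¹ * u⁻¹ := by group
      rwa [e] at h2
  refine le_antisymm (key g hg X) ?_
  have h1 := key g⁻¹ (inv_mem hg) (PT.cj g X)
  rw [cj_cj, inv_mul_cancel, cj_one, cj_le_iff, inv_inv] at h1
  exact h1

theorem ee_of (hX : IsCj Z X) (Y : Subgroup G) : ee V X Y = ee V Z Y := by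
  ext w
  rw [mem_ee, mem_ee]
  exact and_congr_right fun _ => forall_congr' fun T => by rw [pnt_iff hX]

theorem dd_of (hX : IsCj Z X) (Y : Subgroup G) : dd V X Y = dd V Z Y := by
  ext w
  rw [mem_dd, mem_dd]
  exact and_congr_right fun _ => forall_congr' fun T => by rw [pnt_iff hX]

theorem w1_of (hX : IsCj Z X) (Y : Subgroup G) : w1 V X Y = w1 V Z Y := by
  ext w
  rw [mem_w1, mem_w1]
  exact and_congr_right fun _ => forall_congr' fun T => by rw [pnt_iff hX, ee_of hX]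

theorem n0_of (hX : IsCj Z X) (Y : Subgroup G) : n0 V X Y = n0 V Z Y := by
  ext w
  rw [mem_n0, mem_n0]
  exact and_congr_right fun _ => and_congr_right fun _ => forall_congr' fun T => by rw [pnt_iff hX]

end conj

namespace One

variable [Finite G] {S : Sylow 2 G} {B P V Z : Subgroup G} (h : One S B P V Z)
include h

theorem self : Pnt V Z Z := ⟨h.pl.isCj_self, h.pl.ZV⟩

/-- every point of `V` is as good as `Z` -/
theorem pt {X : Subgroup G} (hX : Pnt V Z X) : ∃ (T : Sylow 2 G) (C : Subgroup G), One T C P V X := by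
  obtain ⟨p, hp, rfl⟩ := h.pl.exists_pt hX.cj hX.le
  have hpV := h.pl.PN hp
  have hV : cj p V = V := cj_eq_iff.2 hpV
  refine ⟨p • S, cj p B, h.pl.pt hp, h.pl.hf_pt h.hf hX.cj hX.le, ?_, ?_⟩
  · intro y hy hy1 hy2 hy3
    have h1 : p⁻¹ * y * p ∈ V := by
      refine h.hO _ (mem_cj.1 hy) ?_ ?_ fun s hs hs1 => ?_
      · rw [← mem_cj (g := p), cj_centralizer, hV]
        exact hy1
      · calc p⁻¹ * y * p * (p⁻¹ * y * p) = p⁻¹ * (y * y) * p := by group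
          _ = 1 := by rw [hy2]; group
      · have h1 := hy3 _ (conj_mem_cj (g := p) hs) (by
          have h2 := conj_mem_cj (g := p) hs1
          rwa [cj_centralizer, hV] at h2)
        have h2 := congrArg (fun t => p⁻¹ * t * p) h1
        simpa [mul_assoc] using h2
    rw [← mem_cj (g := p), hV] at h1
    exact h1
  · obtain ⟨Y, hY, hne⟩ := h.nc
    refine ⟨cj p Y, (pnt_iff hX.cj).2 (hY.conj hpV), fun e => hne ?_⟩
    rw [ws_cj, ws_cj, ← cj_centralizer, cj_le_cj] at e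
    exact e

theorem exists_ne {X : Subgroup G} (hX : Pnt V Z X) : ∃ Y, Pnt V Z Y ∧ Y ≠ X := by
  obtain ⟨Y, h1, h2, h3⟩ := h.pl.exists_second hX.cj hX.le
  exact ⟨Y, ⟨h1, h2⟩, h3⟩

theorem comm_W {X : Subgroup G} (hX : IsCj Z X) {a b : G} (ha : a ∈ ws V X) (hb : b ∈ ws V X) : a * b = b * a :=
  (mem_centralizer_iff.1 (h.pl.ws_comm hX ha) b hb).symm

theorem sq_W {X : Subgroup G} (hX : Pnt V Z X) {a : G} (ha : a ∈ ws V X) : a * a = 1 := by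
  obtain ⟨T, C, h'⟩ := h.pt hX
  exact h'.pl.ws_sq a ha

theorem V_le_W {X : Subgroup G} (hX : Pnt V Z X) : V ≤ ws V X := h.pl.V_le_ws hX.le

theorem W_le_cent {X : Subgroup G} (hX : Pnt V Z X) : ws V X ≤ centralizer (V : Set G) := by
  intro a ha
  rw [mem_centralizer_iff]
  exact fun v hv => h.comm_W hX.cj (h.V_le_W hX hv) ha

theorem cent_norm_W {X : Subgroup G} (hX : Pnt V Z X) :
    centralizer (V : Set G) ≤ normalizer ((ws V X : Subgroup G) : Set G) :=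
  ((centralizer_le (show (X : Set G) ⊆ V from hX.le)).trans (centralizer_le_normalizer _)).trans (normalizer_le_ws V X)

theorem cent_norm_K {X : Subgroup G} (hX : Pnt V Z X) :
    centralizer (V : Set G) ≤ normalizer ((kx V X : Subgroup G) : Set G) :=
  ((centralizer_le (show (X : Set G) ⊆ V from hX.le)).trans (centralizer_le_normalizer _)).trans (normalizer_le_kx V X)

theorem cent_fix {X : Subgroup G} (hX : Pnt V Z X) {c : G} (hc : c ∈ centralizer (V : Set G)) : cj c X = X :=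
  cj_eq_iff.2 (centralizer_le_normalizer _ (centralizer_le hX.le hc))

theorem cent_V {c v : G} (hc : c ∈ centralizer (V : Set G)) (hv : v ∈ V) : c * v = v * c :=
  (mem_centralizer_iff.1 hc v hv).symm

/-- `[W_X, W_Y] ≤ I` -/
theorem comm_mem {X Y : Subgroup G} (hX : Pnt V Z X) (hY : Pnt V Z Y) (hne : X ≠ Y) {a b : G} (ha : a ∈ ws V X)
    (hb : b ∈ ws V Y) : a * b * a⁻¹ * b⁻¹ ∈ IV V Z := by
  rw [← h.pl.IV_eq h.hf hX.cj hX.le hY.cj hY.le hne]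
  have h1 := (mem_normalizer_iff.1 (h.cent_norm_W hY (h.W_le_cent hX ha)) b).1 hb
  have h2 := (mem_normalizer_iff.1 (h.cent_norm_W hX (h.W_le_cent hY hb)) a⁻¹).1 (inv_mem ha)
  refine ⟨?_, (ws V Y).mul_mem h1 ((ws V Y).inv_mem hb)⟩
  have e : a * b * a⁻¹ * b⁻¹ = a * (b * a⁻¹ * b⁻¹) := by group
  rw [e]
  exact (ws V X).mul_mem ha h2

theorem I_le_W {X : Subgroup G} (hX : Pnt V Z X) : IV V Z ≤ ws V X := IV_le hX.cj hX.le

theorem I_le_cent : IV V Z ≤ centralizer (V : Set G) := (h.I_le_W h.self).trans (h.W_le_cent h.self)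

/-- `I` centralises `W_X` -/
theorem I_comm_W {X : Subgroup G} (hX : Pnt V Z X) {a b : G} (ha : a ∈ IV V Z) (hb : b ∈ ws V X) : a * b = b * a :=
  h.comm_W hX.cj (h.I_le_W hX ha) hb

theorem I_sq {a : G} (ha : a ∈ IV V Z) : a * a = 1 := h.pl.IV_sq ha

theorem inv_eq_W {X : Subgroup G} (hX : Pnt V Z X) {a : G} (ha : a ∈ ws V X) : a⁻¹ = a :=
  inv_eq_of_mul_eq_one_left (h.sq_W hX ha)

/-- conjugation by `K_X` in `V`: transitive on the other points -/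
theorem move {X A B : Subgroup G} (hX : Pnt V Z X) (hA : Pnt V Z A) (hB : Pnt V Z B) (hAX : A ≠ X) (hBX : B ≠ X) :
    ∃ k ∈ kx V X, cj k A = B := by
  obtain ⟨T, C, h'⟩ := h.pt hX
  obtain ⟨k, hk, -, hk2⟩ := h'.pl.K_trans h'.hf ((pnt_iff hX.cj).2 hA).cj hA.le ((pnt_iff hX.cj).2 hB).cj hB.le hAX hBX
  exact ⟨k, hk, hk2⟩

theorem K_norm {X : Subgroup G} (hX : Pnt V Z X) : kx V X ≤ normalizer (V : Set G) := h.pl.kx_norm_V' hX.le

theorem K_fix {X : Subgroup G} {k : G} (hk : k ∈ kx V X) : cj k X = X := by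
  rw [cj_eq_iff]
  refine centralizer_le_normalizer _ (kx_le_cent hk)

/-- `K_X` normalises every subgroup `X ≤ U ≤ W_X` -/
theorem K_stab {X U : Subgroup G} (h1 : X ≤ U) (h2 : U ≤ ws V X) {k : G} (hk : k ∈ kx V X) :
    cj k U = U := cj_eq_iff.2 (kx_normalizes h1 h2 hk)

/-- a property of `(X, Y)`, stable under `K_X`, does not depend on `Y ≠ X` -/
theorem ee_eq {X Y : Subgroup G} (hX : Pnt V Z X) (hY : Pnt V Z Y) (hne : Y ≠ X) : ee V Z X = ws V X ⊓ kx V Y := by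
  apply le_antisymm
  · intro w hw
    exact ⟨hw.1, (mem_ee.1 hw).2 Y hY hne⟩
  · rintro w ⟨hw, hwY⟩
    refine mem_ee.2 ⟨hw, fun T hT hTX => ?_⟩
    obtain ⟨k, hk, rfl⟩ := h.move hX hY hT hne hTX
    have h1 : X ≤ ws V X ⊓ kx V Y := by
      refine le_inf (hX.le.trans (h.V_le_W hX)) fun x hx => mem_kx.2 ⟨fun y hy => ?_, fun u hu => ?_⟩
      · exact h.pl.Vcomm (hX.le hx) (hY.le hy)
      · have : x * u * x⁻¹ * u⁻¹ = 1 := by
          rw [h.comm_W hY.cj (h.V_le_W hY (hX.le hx)) hu]; group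
        rw [this]; exact one_mem _
    have h2 := h.K_stab h1 inf_le_left hk
    have h3 : w ∈ cj k (ws V X ⊓ kx V Y) := by rw [h2]; exact ⟨hw, hwY⟩
    rw [cj_inf, ← kx_cj] at h3
    exact h3.2

theorem dd_eq {X Y : Subgroup G} (hX : Pnt V Z X) (hY : Pnt V Z Y) (hne : Y ≠ X) :
    dd V Z X = ws V X ⊓ centralizer ((ws V Y : Subgroup G) : Set G) := by
  apply le_antisymm
  · intro w hw
    exact ⟨hw.1, (mem_dd.1 hw).2 Y hY hne⟩
  · rintro w ⟨hw, hwY⟩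
    refine mem_dd.2 ⟨hw, fun T hT hTX => ?_⟩
    obtain ⟨k, hk, rfl⟩ := h.move hX hY hT hne hTX
    have h1 : X ≤ ws V X ⊓ centralizer ((ws V Y : Subgroup G) : Set G) := by
      refine le_inf (hX.le.trans (h.V_le_W hX)) fun x hx => mem_centralizer_iff.2 fun u hu => ?_
      exact (h.comm_W hY.cj (h.V_le_W hY (hX.le hx)) hu).symm
    have h2 := h.K_stab h1 inf_le_left hk
    have h3 : w ∈ cj k (ws V X ⊓ centralizer ((ws V Y : Subgroup G) : Set G)) := by rw [h2]; exact ⟨hw, hwY⟩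
    rw [cj_inf, cj_centralizer] at h3
    have h4 := h3.2
    rwa [← ws_cj] at h4

theorem w1_eq {X Y : Subgroup G} (hX : Pnt V Z X) (hY : Pnt V Z Y) (hne : Y ≠ X) :
    w1 V Z X = ws V X ⊓ centralizer ((ee V Z Y : Subgroup G) : Set G) := by
  apply le_antisymm
  · intro w hw
    exact ⟨hw.1, (mem_w1.1 hw).2 Y hY hne⟩
  · rintro w ⟨hw, hwY⟩
    refine mem_w1.2 ⟨hw, fun T hT hTX => ?_⟩
    obtain ⟨k, hk, rfl⟩ := h.move hX hY hT hne hTX
    have h1 : X ≤ ws V X ⊓ centralizer ((ee V Z Y : Subgroup G) : Set G) := by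
      refine le_inf (hX.le.trans (h.V_le_W hX)) fun x hx => mem_centralizer_iff.2 fun u hu => ?_
      exact (h.comm_W hY.cj (h.V_le_W hY (hX.le hx)) (ee_le hu)).symm
    have h2 := h.K_stab h1 inf_le_left hk
    have h3 : w ∈ cj k (ws V X ⊓ centralizer ((ee V Z Y : Subgroup G) : Set G)) := by rw [h2]; exact ⟨hw, hwY⟩
    rw [cj_inf, cj_centralizer, cj_ee (h.K_norm hX hk)] at h3
    exact h3.2

/-- one point `Y ≠ X` is enough -/
theorem n0_eq {X Y : Subgroup G} (hX : Pnt V Z X) (hY : Pnt V Z Y) (hne : Y ≠ X) {w : G} (hw : w ∈ ws V X)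
    (hwY : ∀ u ∈ ws V Y, w * u * w⁻¹ * u⁻¹ ∈ V) : w ∈ n0 V Z X := by
  refine mem_n0.2 ⟨hw, h.W_le_cent hX hw, fun T hT u hu => ?_⟩
  by_cases hTX : T = X
  · subst hTX
    have : w * u * w⁻¹ * u⁻¹ = 1 := by rw [h.comm_W hT.cj hw hu]; group
    rw [this]; exact one_mem _
  obtain ⟨k, hk, rfl⟩ := h.move hX hY hT hne hTX
  have hkV := h.K_norm hX hk
  -- `k⁻¹ w k = x w`
  have hu' : k⁻¹ * u * k ∈ ws V Y := by rw [ws_cj, mem_cj] at hu; exact hu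
  obtain ⟨x, hx, hxw⟩ : ∃ x ∈ X, k⁻¹ * w * k = x * w :=
    ⟨k⁻¹ * w * k⁻¹⁻¹ * w⁻¹, (mem_kx.1 (inv_mem hk)).2 w hw, by group⟩
  have h1 : x * w * (k⁻¹ * u * k) * (x * w)⁻¹ * (k⁻¹ * u * k)⁻¹ ∈ V := by
    have hxu : x * (w * (k⁻¹ * u * k) * w⁻¹) = (w * (k⁻¹ * u * k) * w⁻¹) * x := by
      have h2 : w * (k⁻¹ * u * k) * w⁻¹ ∈ ws V Y :=
        (mem_normalizer_iff.1 (h.cent_norm_W hY (h.W_le_cent hX hw)) _).1 hu'
      exact h.comm_W hY.cj (h.V_le_W hY (hX.le hx)) h2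
    have e : x * w * (k⁻¹ * u * k) * (x * w)⁻¹ * (k⁻¹ * u * k)⁻¹ = w * (k⁻¹ * u * k) * w⁻¹ * (k⁻¹ * u * k)⁻¹ := by
      calc x * w * (k⁻¹ * u * k) * (x * w)⁻¹ * (k⁻¹ * u * k)⁻¹
          = (x * (w * (k⁻¹ * u * k) * w⁻¹)) * x⁻¹ * (k⁻¹ * u * k)⁻¹ := by group
        _ = ((w * (k⁻¹ * u * k) * w⁻¹) * x) * x⁻¹ * (k⁻¹ * u * k)⁻¹ := by rw [hxu]
        _ = _ := by group
    rw [e]
    exact hwY _ hu'
  rw [← hxw] at h1
  have h2 := (mem_normalizer_iff.1 hkV _).1 h1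
  have e : k * (k⁻¹ * w * k * (k⁻¹ * u * k) * (k⁻¹ * w * k)⁻¹ * (k⁻¹ * u * k)⁻¹) * k⁻¹ = w * u * w⁻¹ * u⁻¹ := by
    group
  rwa [e] at h2


/-! ### commutators -/

/-- `w ∈ W_X` lies in `E_X` if `[w, W_Y] ≤ Y` for one point `Y ≠ X` -/
theorem mem_ee_of {X Y : Subgroup G} (hX : Pnt V Z X) (hY : Pnt V Z Y) (hne : Y ≠ X) {w : G} (hw : w ∈ ws V X)
    (hwY : ∀ u ∈ ws V Y, w * u * w⁻¹ * u⁻¹ ∈ Y) : w ∈ ee V Z X := by
  rw [h.ee_eq hX hY hne]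
  exact ⟨hw, mem_kx.2 ⟨fun y hy => h.cent_V (h.W_le_cent hX hw) (hY.le hy), hwY⟩⟩

theorem ee_act {X Y : Subgroup G} (hY : Pnt V Z Y) (hne : Y ≠ X) {w u : G} (hw : w ∈ ee V Z X) (hu : u ∈ ws V Y) :
    w * u * w⁻¹ * u⁻¹ ∈ Y := (mem_kx.1 ((mem_ee.1 hw).2 Y hY hne)).2 u hu

theorem ee_act' {X Y : Subgroup G} (hY : Pnt V Z Y) (hne : Y ≠ X) {w u : G} (hw : w ∈ ee V Z X) (hu : u ∈ ws V Y) :
    u * w * u⁻¹ * w⁻¹ ∈ Y := by
  have h1 := inv_mem (h.ee_act hY hne hw hu)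
  have e : (w * u * w⁻¹ * u⁻¹)⁻¹ = u * w * u⁻¹ * w⁻¹ := by group
  rwa [e] at h1

theorem dd_comm {X Y : Subgroup G} (hY : Pnt V Z Y) (hne : Y ≠ X) {w u : G} (hw : w ∈ dd V Z X) (hu : u ∈ ws V Y) :
    w * u = u * w := (mem_centralizer_iff.1 ((mem_dd.1 hw).2 Y hY hne) u hu).symm

theorem mem_dd_of {X Y : Subgroup G} (hX : Pnt V Z X) (hY : Pnt V Z Y) (hne : Y ≠ X) {w : G} (hw : w ∈ ws V X)
    (hwY : ∀ u ∈ ws V Y, w * u = u * w) : w ∈ dd V Z X := by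
  rw [h.dd_eq hX hY hne]
  exact ⟨hw, mem_centralizer_iff.2 fun u hu => (hwY u hu).symm⟩

theorem I_le_dd {X : Subgroup G} (hX : Pnt V Z X) : IV V Z ≤ dd V Z X := by
  intro w hw
  refine mem_dd.2 ⟨h.I_le_W hX hw, fun Y hY _ => mem_centralizer_iff.2 fun u hu => ?_⟩
  exact (h.I_comm_W hY hw hu).symm

theorem dd_le_ee {X : Subgroup G} (hX : Pnt V Z X) : dd V Z X ≤ ee V Z X := by
  intro w hw
  refine mem_ee.2 ⟨hw.1, fun Y hY hne => mem_kx.2 ⟨fun y hy => ?_, fun u hu => ?_⟩⟩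
  · exact h.cent_V (h.W_le_cent hX hw.1) (hY.le hy)
  · have : w * u * w⁻¹ * u⁻¹ = 1 := by rw [h.dd_comm hY hne hw hu]; group
    rw [this]; exact one_mem _

theorem X_le_dd {X : Subgroup G} (hX : Pnt V Z X) : X ≤ dd V Z X :=
  (hX.le.trans h.pl.V_le_IV).trans (h.I_le_dd hX)

theorem ee_le_n0 {X : Subgroup G} (hX : Pnt V Z X) : ee V Z X ≤ n0 V Z X := by
  obtain ⟨Y, hY, hne⟩ := h.exists_ne hX
  exact fun w hw => h.n0_eq hX hY hne hw.1 fun u hu => hY.le (h.ee_act hY hne hw hu)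

/-- `[E_X, E_Y] = 1` -/
theorem ee_comm {X Y : Subgroup G} (hX : Pnt V Z X) (hY : Pnt V Z Y) (hne : X ≠ Y) {a b : G} (ha : a ∈ ee V Z X)
    (hb : b ∈ ee V Z Y) : a * b = b * a := by
  have h1 := h.ee_act hY hne.symm ha hb.1
  have h2 := h.ee_act' hX hne hb ha.1
  have h3 : a * b * a⁻¹ * b⁻¹ ∈ X ⊓ Y := ⟨h2, h1⟩
  rw [h.pl.pts_inf hX.cj hY.cj hne, mem_bot, mul_inv_eq_one, mul_inv_eq_iff_eq_mul] at h3
  exact h3

theorem ee_le_w1 {X : Subgroup G} (hX : Pnt V Z X) : ee V Z X ≤ w1 V Z X := by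
  intro w hw
  refine mem_w1.2 ⟨hw.1, fun Y hY hne => mem_centralizer_iff.2 fun u hu => ?_⟩
  exact (h.ee_comm hX hY hne.symm hw hu).symm

/-- `[K_T ∩ C_G(V), W_X] ≤ E_X` -/
theorem kx_ee {X T : Subgroup G} (hX : Pnt V Z X) (hT : Pnt V Z T) {k w : G} (hk : k ∈ kx V T)
    (hkV : k ∈ centralizer (V : Set G)) (hw : w ∈ ws V X) : k * w * k⁻¹ * w⁻¹ ∈ ee V Z X := by
  by_cases hTX : T = X
  · subst hTX
    exact h.dd_le_ee hX (h.X_le_dd hX ((mem_kx.1 hk).2 w hw))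
  have hkw : k * w * k⁻¹ ∈ ws V X := (mem_normalizer_iff.1 (h.cent_norm_W hX hkV) w).1 hw
  refine h.mem_ee_of hX hT hTX (mul_mem hkw (inv_mem hw)) fun u hu => ?_
  -- `k u k⁻¹ = t u`
  obtain ⟨t, ht, htu⟩ : ∃ t ∈ T, k⁻¹ * u * k = t * u :=
    ⟨k⁻¹ * u * k⁻¹⁻¹ * u⁻¹, (mem_kx.1 (inv_mem hk)).2 u hu, by group⟩
  have hc := h.comm_mem hX hT (Ne.symm hTX) hw hu
  set c := w * u * w⁻¹ * u⁻¹ with hcdef
  have hcT : c ∈ ws V T := h.I_le_W hT hc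
  -- `[k w k⁻¹, u] = k [w, t u] k⁻¹ = k c k⁻¹`
  have htw : t * w = w * t := (h.cent_V (h.W_le_cent hX hw) (hT.le ht)).symm
  have h1 : w * (t * u) * w⁻¹ * (t * u)⁻¹ = c := by
    have h2 : t * c = c * t := h.comm_W hT.cj (h.V_le_W hT (hT.le ht)) hcT
    calc w * (t * u) * w⁻¹ * (t * u)⁻¹ = (w * t) * u * w⁻¹ * u⁻¹ * t⁻¹ := by group
      _ = (t * w) * u * w⁻¹ * u⁻¹ * t⁻¹ := by rw [htw]
      _ = t * c * t⁻¹ := by rw [hcdef]; group
      _ = c := by rw [h2, mul_inv_cancel_right]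
  have h2 : (k * w * k⁻¹) * u * (k * w * k⁻¹)⁻¹ * u⁻¹ = k * c * k⁻¹ := by
    rw [← h1, ← htu]; group
  have h3 : k * c * k⁻¹ * c⁻¹ ∈ T := (mem_kx.1 hk).2 c hcT
  -- `[k w k⁻¹ w⁻¹, u] = [k w k⁻¹, u]^.. [w⁻¹, u]`
  have hwi : w⁻¹ = w := h.inv_eq_W hX hw
  have h4 : (k * w * k⁻¹ * w⁻¹) * u * (k * w * k⁻¹ * w⁻¹)⁻¹ * u⁻¹ = k * c * k⁻¹ * c⁻¹ := by
    have h5 : (k * w * k⁻¹) * (w * u * w⁻¹) * (k * w * k⁻¹)⁻¹ = (k * w * k⁻¹) * c * (k * w * k⁻¹)⁻¹ *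
        ((k * w * k⁻¹) * u * (k * w * k⁻¹)⁻¹) := by rw [hcdef]; group
    have h6 : (k * w * k⁻¹) * c * (k * w * k⁻¹)⁻¹ = c := by
      rw [mul_inv_eq_iff_eq_mul]
      exact (h.I_comm_W hX hc hkw).symm
    have h7 : (k * w * k⁻¹) * u * (k * w * k⁻¹)⁻¹ = k * c * k⁻¹ * u := by
      rw [← h2]; group
    have h8 : k * c * k⁻¹ ∈ IV V Z := by
      exact (mem_normalizer_iff.1 (normalizer_le_IV V Z (centralizer_le_normalizer _ hkV)) c).1 hc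
    calc (k * w * k⁻¹ * w⁻¹) * u * (k * w * k⁻¹ * w⁻¹)⁻¹ * u⁻¹
        = (k * w * k⁻¹) * (w⁻¹ * u * w⁻¹⁻¹) * (k * w * k⁻¹)⁻¹ * u⁻¹ := by group
      _ = (k * w * k⁻¹) * (w * u * w⁻¹) * (k * w * k⁻¹)⁻¹ * u⁻¹ := by rw [hwi]; rw [hwi]
      _ = c * (k * c * k⁻¹ * u) * u⁻¹ := by rw [h5, h6, h7]
      _ = c * (k * c * k⁻¹) := by group
      _ = (k * c * k⁻¹) * c := h.pl.IV_comm hc h8
      _ = (k * c * k⁻¹) * c⁻¹ := by rw [inv_eq_of_mul_eq_one_left (h.I_sq hc)]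
  rw [h4]
  exact h3

/-- `[K_T ∩ C_G(V), E_X] ≤ D_X` for points `T ≠ X` -/
theorem kx_dd {X T : Subgroup G} (hX : Pnt V Z X) (hT : Pnt V Z T) {k w : G} (hk : k ∈ kx V T)
    (hkV : k ∈ centralizer (V : Set G)) (hw : w ∈ ee V Z X) : k * w * k⁻¹ * w⁻¹ ∈ dd V Z X := by
  by_cases hTX : T = X
  · subst hTX
    exact h.X_le_dd hX ((mem_kx.1 hk).2 w hw.1)
  have hkw : k * w * k⁻¹ ∈ ws V X := (mem_normalizer_iff.1 (h.cent_norm_W hX hkV) w).1 hw.1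
  refine h.mem_dd_of hX hT hTX (mul_mem hkw (inv_mem hw.1)) fun u hu => ?_
  obtain ⟨t, ht, htu⟩ : ∃ t ∈ T, k⁻¹ * u * k = t * u :=
    ⟨k⁻¹ * u * k⁻¹⁻¹ * u⁻¹, (mem_kx.1 (inv_mem hk)).2 u hu, by group⟩
  have hc := h.ee_act hT hTX hw hu
  set c := w * u * w⁻¹ * u⁻¹ with hcdef
  have hcT : c ∈ ws V T := h.V_le_W hT (hT.le hc)
  have htw : t * w = w * t := (h.cent_V (h.W_le_cent hX hw.1) (hT.le ht)).symm
  have h1 : w * (t * u) * w⁻¹ * (t * u)⁻¹ = c := by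
    have h2 : t * c = c * t := h.comm_W hT.cj (h.V_le_W hT (hT.le ht)) hcT
    calc w * (t * u) * w⁻¹ * (t * u)⁻¹ = (w * t) * u * w⁻¹ * u⁻¹ * t⁻¹ := by group
      _ = (t * w) * u * w⁻¹ * u⁻¹ * t⁻¹ := by rw [htw]
      _ = t * c * t⁻¹ := by rw [hcdef]; group
      _ = c := by rw [h2, mul_inv_cancel_right]
  have hkc : k * c * k⁻¹ = c := by
    rw [mul_inv_eq_iff_eq_mul]
    exact (mem_kx.1 hk).1 c hc
  have h2 : (k * w * k⁻¹) * u * (k * w * k⁻¹)⁻¹ * u⁻¹ = c := by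
    have h3 : (k * w * k⁻¹) * u * (k * w * k⁻¹)⁻¹ * u⁻¹ = k * c * k⁻¹ := by
      rw [← h1, ← htu]; group
    rw [h3, hkc]
  -- both `k w k⁻¹` and `w` conjugate `u` to `c u`
  have h3 : (k * w * k⁻¹) * u * (k * w * k⁻¹)⁻¹ = c * u := by rw [← h2]; group
  have h4 : w * u * w⁻¹ = c * u := by rw [hcdef]; group
  have h5 : w⁻¹ * (c * u) * w = u := by rw [← h4]; group
  have h6 : (k * w * k⁻¹ * w⁻¹) * (c * u) * (k * w * k⁻¹ * w⁻¹)⁻¹ = c * u := by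
    calc (k * w * k⁻¹ * w⁻¹) * (c * u) * (k * w * k⁻¹ * w⁻¹)⁻¹
        = (k * w * k⁻¹) * (w⁻¹ * (c * u) * w) * (k * w * k⁻¹)⁻¹ := by group
      _ = c * u := by rw [h5, h3]
  have h7 : (k * w * k⁻¹ * w⁻¹) * c = c * (k * w * k⁻¹ * w⁻¹) :=
    h.comm_W hX.cj (mul_mem hkw (inv_mem hw.1)) (h.V_le_W hX (hT.le hc))
  rw [mul_inv_eq_iff_eq_mul] at h6
  have h8 : c * ((k * w * k⁻¹ * w⁻¹) * u) = c * (u * (k * w * k⁻¹ * w⁻¹)) := by
    calc c * ((k * w * k⁻¹ * w⁻¹) * u) = (c * (k * w * k⁻¹ * w⁻¹)) * u := by group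
      _ = ((k * w * k⁻¹ * w⁻¹) * c) * u := by rw [h7]
      _ = (k * w * k⁻¹ * w⁻¹) * (c * u) := by group
      _ = c * u * (k * w * k⁻¹ * w⁻¹) := h6
      _ = _ := by group
  exact mul_left_cancel h8

/-- `C_I(⟨K_T ∩ C_G(V)⟩) = V` -/
theorem mem_V_of_kx {u : G} (hu : u ∈ IV V Z) {T : Subgroup G} (hT : Pnt V Z T)
    (hc : ∀ k ∈ kx V T, k ∈ centralizer (V : Set G) → k * u = u * k) : u ∈ V := by
  by_contra huV
  obtain ⟨y, hy, hy1⟩ := h.pl.pt_ne_bot hT.cj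
  obtain ⟨d, hd, hdV, hdu⟩ := h.pl.F2' h.hf h.hO hu huV hT.cj hT.le hy
  apply hy1
  rw [← hdu, hc d hd hdV]
  group

theorem n_w1 {X : Subgroup G} (hX : Pnt V Z X) {c w : G} (hc : c ∈ centralizer (V : Set G)) (hw : w ∈ w1 V Z X) :
    c * w * c⁻¹ ∈ w1 V Z X := by
  have h1 := conj_mem_cj (g := c) hw
  rwa [cj_w1 (centralizer_le_normalizer _ hc), h.cent_fix hX hc] at h1

theorem n_ee {X : Subgroup G} (hX : Pnt V Z X) {c w : G} (hc : c ∈ centralizer (V : Set G)) (hw : w ∈ ee V Z X) :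
    c * w * c⁻¹ ∈ ee V Z X := by
  have h1 := conj_mem_cj (g := c) hw
  rwa [cj_ee (centralizer_le_normalizer _ hc), h.cent_fix hX hc] at h1

theorem n_dd {X : Subgroup G} (hX : Pnt V Z X) {c w : G} (hc : c ∈ centralizer (V : Set G)) (hw : w ∈ dd V Z X) :
    c * w * c⁻¹ ∈ dd V Z X := by
  have h1 := conj_mem_cj (g := c) hw
  rwa [cj_dd (centralizer_le_normalizer _ hc), h.cent_fix hX hc] at h1

theorem n_n0 {X : Subgroup G} (hX : Pnt V Z X) {c w : G} (hc : c ∈ centralizer (V : Set G)) (hw : w ∈ n0 V Z X) :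
    c * w * c⁻¹ ∈ n0 V Z X := by
  have h1 := conj_mem_cj (g := c) hw
  rwa [cj_n0 (centralizer_le_normalizer _ hc), h.cent_fix hX hc] at h1

/-- **(III.a)** `[C_{W_X}(E_Y), C_{W_Y}(E_X)] ≤ V` -/
theorem w1_comm {X Y : Subgroup G} (hX : Pnt V Z X) (hY : Pnt V Z Y) (hne : X ≠ Y) {a b : G} (ha : a ∈ w1 V Z X)
    (hb : b ∈ w1 V Z Y) : a * b * a⁻¹ * b⁻¹ ∈ V := by
  have hc := h.comm_mem hX hY hne ha.1 hb.1
  refine h.mem_V_of_kx hc hX fun k hk hkV => ?_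
  -- `k a k⁻¹ = e a`, `k b k⁻¹ = f b`, `e ∈ E_X`, `f ∈ E_Y`
  obtain ⟨e, he, hea⟩ : ∃ e ∈ ee V Z X, k * a * k⁻¹ = e * a :=
    ⟨_, h.kx_ee hX hX hk hkV ha.1, by group⟩
  obtain ⟨f, hf, hfb⟩ : ∃ f ∈ ee V Z Y, k * b * k⁻¹ = f * b :=
    ⟨_, h.kx_ee hY hX hk hkV hb.1, by group⟩
  have haf : a * f = f * a := (mem_centralizer_iff.1 ((mem_w1.1 ha).2 Y hY hne.symm) f hf).symm
  have hbe : b * e = e * b := (mem_centralizer_iff.1 ((mem_w1.1 hb).2 X hX hne) e he).symm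
  have hef : e * f = f * e := h.ee_comm hX hY hne he hf
  have hea' : e * a = a * e := h.comm_W hX.cj he.1 ha.1
  have hfb' : f * b = b * f := h.comm_W hY.cj hf.1 hb.1
  have key : k * (a * b * a⁻¹ * b⁻¹) * k⁻¹ = a * b * a⁻¹ * b⁻¹ := by
    have hab : Commute (e : G) b := hbe.symm
    have haf' : Commute (a : G) f := haf
    have hef' : Commute (e : G) f := hef
    have hea'' : Commute (e : G) a := hea'
    have hfb'' : Commute (f : G) b := hfb'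
    calc k * (a * b * a⁻¹ * b⁻¹) * k⁻¹ = (k * a * k⁻¹) * (k * b * k⁻¹) * (k * a * k⁻¹)⁻¹ * (k * b * k⁻¹)⁻¹ := by group
      _ = (e * a) * (f * b) * (e * a)⁻¹ * (f * b)⁻¹ := by rw [hea, hfb]
      _ = e * (a * f) * b * a⁻¹ * e⁻¹ * b⁻¹ * f⁻¹ := by group
      _ = e * (f * a) * b * a⁻¹ * e⁻¹ * b⁻¹ * f⁻¹ := by rw [haf]
      _ = (e * f) * (a * b * a⁻¹) * (e⁻¹ * b⁻¹) * f⁻¹ := by group
      _ = (f * e) * (a * b * a⁻¹) * (b⁻¹ * e⁻¹) * f⁻¹ := by rw [hef, (hab.inv_inv).eq]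
      _ = f * (e * (a * b * a⁻¹ * b⁻¹) * e⁻¹) * f⁻¹ := by group
      _ = f * (a * b * a⁻¹ * b⁻¹) * f⁻¹ := by
        have h1 : Commute e (a * b * a⁻¹ * b⁻¹) := ((hea''.mul_right hab).mul_right hea''.inv_right).mul_right hab.inv_right
        rw [h1.eq, mul_inv_cancel_right]
      _ = a * b * a⁻¹ * b⁻¹ := by
        have h1 : Commute f (a * b * a⁻¹ * b⁻¹) :=
          ((haf'.symm.mul_right hfb'').mul_right haf'.symm.inv_right).mul_right hfb''.inv_right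
        rw [h1.eq, mul_inv_cancel_right]
  rwa [mul_inv_eq_iff_eq_mul] at key

/-- `W_X` and `W_Y` do not commute, `X ≠ Y` points of `V` -/
theorem not_comm {X Y : Subgroup G} (hX : Pnt V Z X) (hY : Pnt V Z Y) (hne : X ≠ Y) :
    ¬ ws V X ≤ centralizer ((ws V Y : Subgroup G) : Set G) := by
  obtain ⟨T, C, h'⟩ := h.pt hX
  obtain ⟨Y', hY', hc⟩ := h'.nc
  have hY'' := (pnt_iff hX.cj).1 hY'
  by_cases hYX : Y' = X
  · rw [hYX] at hc
    exact absurd (h.pl.ws_comm hX.cj) hc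
  obtain ⟨k, hk, rfl⟩ := h.move hX hY'' hY hYX hne.symm
  intro e
  apply hc
  have h1 : cj k X = X := h.K_fix hk
  have h2 : ws V X = cj k (ws V X) := by rw [← ws_cj, h1]
  rw [ws_cj, ← cj_centralizer, h2, cj_le_cj] at e
  exact e

/-- `A ≠ 1` -/
theorem ee_ne {X : Subgroup G} (hX : Pnt V Z X) : ee V Z X ≠ ws V X := by
  intro e
  obtain ⟨Y, hY, hne⟩ := h.exists_ne hX
  apply h.not_comm hX hY hne.symm
  obtain ⟨k, hk, -, hkX, -⟩ := h.pl.swap h.hf hX.cj hX.le hY.cj hY.le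
  have h1 : ee V Z Y = ws V Y := by
    rw [← hkX, ← cj_ee (h.pl.XV_le_N hk), e, ws_cj]
  intro a ha
  rw [mem_centralizer_iff]
  intro b hb
  exact (h.ee_comm hX hY hne.symm (by rw [e]; exact ha) (by rw [h1]; exact hb)).symm

/-- `|W_X : E_X| = |W_Y : E_Y|` -/
theorem relIndex_ee {X Y : Subgroup G} (hX : Pnt V Z X) (hY : Pnt V Z Y) :
    (ee V Z X).relIndex (ws V X) = (ee V Z Y).relIndex (ws V Y) := by
  obtain ⟨k, hk, -, rfl, -⟩ := h.pl.swap h.hf hX.cj hX.le hY.cj hY.le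
  rw [← cj_ee (h.pl.XV_le_N hk), ws_cj]
  exact (relIndex_pointwise_smul _ _ _).symm

theorem relIndex_dd {X Y : Subgroup G} (hX : Pnt V Z X) (hY : Pnt V Z Y) :
    (dd V Z X).relIndex (ee V Z X) = (dd V Z Y).relIndex (ee V Z Y) := by
  obtain ⟨k, hk, -, rfl, -⟩ := h.pl.swap h.hf hX.cj hX.le hY.cj hY.le
  rw [← cj_ee (h.pl.XV_le_N hk), ← cj_dd (h.pl.XV_le_N hk)]
  exact (relIndex_pointwise_smul _ _ _).symm

/-- the homomorphism `e ↦ [e, b]`, `E_X → Y`, for `b ∈ W_Y` -/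
def eh {X Y : Subgroup G} (hX : Pnt V Z X) (hY : Pnt V Z Y) (hne : Y ≠ X) {b : G} (hb : b ∈ ws V Y) :
    (ee V Z X) →* Y where
  toFun e := ⟨e * b * (e : G)⁻¹ * b⁻¹, h.ee_act hY hne e.2 hb⟩
  map_one' := by
    apply Subtype.ext
    show (1 : G) * b * (1 : G)⁻¹ * b⁻¹ = 1
    group
  map_mul' s t := by
    apply Subtype.ext
    show (s : G) * t * b * ((s : G) * t)⁻¹ * b⁻¹ = (s * b * (s : G)⁻¹ * b⁻¹) * (t * b * (t : G)⁻¹ * b⁻¹)
    have h1 := h.ee_act hY hne t.2 hb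
    have h2 : (s : G) * t * b * ((s : G) * t)⁻¹ * b⁻¹ =
      (s : G) * (t * b * (t : G)⁻¹ * b⁻¹) * (s : G)⁻¹ * (s * b * (s : G)⁻¹ * b⁻¹) := by group
    rw [h2, h.cent_V (h.W_le_cent hX s.2.1) (hY.le h1), mul_inv_cancel_right]
    exact h.pl.Vcomm (hY.le h1) (hY.le (h.ee_act hY hne s.2 hb))

theorem eh_apply {X Y : Subgroup G} (hX : Pnt V Z X) (hY : Pnt V Z Y) (hne : Y ≠ X) {b : G} (hb : b ∈ ws V Y)
    (e : ee V Z X) : (h.eh hX hY hne hb e : G) = e * b * (e : G)⁻¹ * b⁻¹ := rfl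

/-- `|E_X : C_{E_X}(b)| ≤ q` for `b ∈ W_Y` -/
theorem card_ee_cent {X Y : Subgroup G} (hX : Pnt V Z X) (hY : Pnt V Z Y) (hne : Y ≠ X) {b : G}
    (hb : b ∈ ws V Y) : (centralizer ({b} : Set G)).relIndex (ee V Z X) ≤ Nat.card Z := by
  have h1 : (centralizer ({b} : Set G)).subgroupOf (ee V Z X) = (h.eh hX hY hne hb).ker := by
    ext e
    rw [mem_subgroupOf, MonoidHom.mem_ker, ← Subtype.coe_inj, eh_apply, OneMemClass.coe_one, mul_inv_eq_one,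
      mul_inv_eq_iff_eq_mul, mem_centralizer_singleton_iff]
  rw [relIndex, h1, index_ker, ← h.pl.card_pt hY.cj]
  exact Subgroup.card_le_card_group _

/-- **(III.b)** `|W_X : C_{W_X}(b)| ≤ q |W_X : E_X|` for `b ∈ W_Y` -/
theorem card_cent {X Y : Subgroup G} (hX : Pnt V Z X) (hY : Pnt V Z Y) (hne : Y ≠ X) {b : G}
    (hb : b ∈ ws V Y) :
    (centralizer ({b} : Set G)).relIndex (ws V X) ≤ Nat.card Z * (ee V Z X).relIndex (ws V X) := by
  have h1 : (centralizer ({b} : Set G)).relIndex (ws V X) ≤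
      (centralizer ({b} : Set G) ⊓ ee V Z X).relIndex (ws V X) :=
    relIndex_le_of_le_left inf_le_left Subgroup.FiniteIndex.index_ne_zero
  refine h1.trans ?_
  rw [← relIndex_mul_relIndex (centralizer ({b} : Set G) ⊓ ee V Z X) (ee V Z X) (ws V X) inf_le_right ee_le]
  refine Nat.mul_le_mul_right _ ?_
  rw [inf_relIndex_right]
  exact h.card_ee_cent hX hY hne hb

end One

end Cfsg.Agent.Omega.NO3S.OneQ

end

-- merged: Cfsg.Agent.Mrg.Omega.NO3S.OneQ.Fix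
section

section


/-!
# NO-3S, natural lines, critical distance 1 (`OneQ`): `Y_l` and FIX (bb OMEGA #17428 (A), (B))

* `yl V Z = ⟨K_X ∩ C_G(V) : X a point of V⟩`; `One.comm_yl` : `[X_l, C_G(V)] ≤ Y_l`;
* `One.max_C` : `B ∩ C_G(V)` is a Sylow 2-subgroup of `C_G(V)`; `One.exists_norm` : `X_l = Y_l N_{X_l}(B ∩ C_G(V))`;
* `One.fix` (FIX) : `f ∈ I`, `[f, C_B(V)] ≤ Z` implies `f ∈ V`;
* `One.fix_sub` : a `B`-invariant subgroup `D` with `D ∩ I ≰ Z` contains an element of `V - Z`.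
-/

set_option autoImplicit false
set_option linter.unusedSectionVars false

namespace Cfsg.Agent.Omega.NO3S.OneQ

open Subgroup Cfsg.Agent.Omega.NO3S.PT Cfsg.Agent.Omega.NoFF.Basic
open scoped Pointwise

variable {G : Type*} [Group G]

/-- `Y_l` -/
def yl (V Z : Subgroup G) : Subgroup G :=
  sSup {K | ∃ Y, Pnt V Z Y ∧ K = kx V Y ⊓ centralizer (V : Set G)}

theorem le_yl {V Z Y : Subgroup G} (hY : Pnt V Z Y) : kx V Y ⊓ centralizer (V : Set G) ≤ yl V Z :=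
  le_sSup ⟨Y, hY, rfl⟩

theorem mem_yl_of {V Z Y : Subgroup G} (hY : Pnt V Z Y) {k : G} (hk : k ∈ kx V Y)
    (hkV : k ∈ centralizer (V : Set G)) : k ∈ yl V Z := le_yl hY ⟨hk, hkV⟩

theorem yl_le_cent (V Z : Subgroup G) : yl V Z ≤ centralizer (V : Set G) := by
  refine sSup_le ?_
  rintro _ ⟨Y, -, rfl⟩
  exact inf_le_right

theorem yl_le_XV (V Z : Subgroup G) : yl V Z ≤ XV V Z := by
  refine sSup_le ?_
  rintro _ ⟨Y, hY, rfl⟩
  exact inf_le_left.trans (le_XV hY.cj hY.le)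

theorem norm_yl (V Z : Subgroup G) : normalizer (V : Set G) ≤ normalizer ((yl V Z : Subgroup G) : Set G) := by
  have key : ∀ g ∈ normalizer (V : Set G), PT.cj g (yl V Z) ≤ yl V Z := by
    intro g hg
    rw [cj_le_iff]
    refine sSup_le ?_
    rintro _ ⟨Y, hY, rfl⟩
    rw [le_cj_iff, inv_inv, cj_inf, ← kx_cj, cj_centralizer, cj_eq_iff.2 hg]
    exact le_yl (hY.conj hg)
  intro g hg
  rw [← cj_eq_iff]
  refine le_antisymm (key g hg) ?_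
  rw [le_cj_iff]
  exact key _ (inv_mem hg)

theorem mem_sup_norm {A B : Subgroup G} (h : A ≤ normalizer (B : Set G)) {x : G} (hx : x ∈ A ⊔ B) :
    ∃ a ∈ A, ∃ b ∈ B, x = a * b := by
  have h1 : x ∈ ((A ⊔ B : Subgroup G) : Set G) := hx
  rw [Subgroup.coe_mul_of_left_le_normalizer_right A B h] at h1
  obtain ⟨a, ha, b, hb, rfl⟩ := Set.mem_mul.1 h1
  exact ⟨a, ha, b, hb, rfl⟩

/-- two maximal 2-subgroups of `H` are conjugate -/
theorem conj_of_max [Finite G] {H A B : Subgroup G} (hA : A ≤ H) (hB : B ≤ H) (pA : IsPGroup 2 A) (pB : IsPGroup 2 B)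
    (mA : ∀ T ≤ H, IsPGroup 2 T → A ≤ T → T ≤ A) (mB : ∀ T ≤ H, IsPGroup 2 T → B ≤ T → T ≤ B) :
    ∃ h ∈ H, PT.cj h A = B := by
  have : Fact (Nat.Prime 2) := ⟨Nat.prime_two⟩
  have key : ∀ {A : Subgroup G}, A ≤ H → IsPGroup 2 A → (∀ T ≤ H, IsPGroup 2 T → A ≤ T → T ≤ A) →
      ∃ T : Sylow 2 H, (T : Subgroup H).map H.subtype = A := by
    intro A hA pA mA
    obtain ⟨T, hT⟩ := (pA.comap_subtype (K := H)).exists_le_sylow
    refine ⟨T, le_antisymm ?_ ?_⟩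
    · refine mA _ (by rintro _ ⟨x, -, rfl⟩; exact x.2) (T.isPGroup'.map _) ?_
      intro a ha
      exact ⟨⟨a, hA ha⟩, hT ha, rfl⟩
    · intro a ha
      exact ⟨⟨a, hA ha⟩, hT ha, rfl⟩
  obtain ⟨T, rfl⟩ := key hA pA mA
  obtain ⟨U, rfl⟩ := key hB pB mB
  obtain ⟨h, hh⟩ := MulAction.exists_smul_eq H T U
  refine ⟨h, h.2, ?_⟩
  rw [← hh]
  ext x
  rw [mem_cj]
  constructor
  · rintro ⟨y, hy, hyx⟩
    refine ⟨h * y * h⁻¹, ?_, ?_⟩
    · rw [Sylow.coe_subgroup_smul]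
      exact ⟨y, hy, rfl⟩
    · have h1 : (H.subtype y : G) = (h : G)⁻¹ * x * h := hyx
      rw [map_mul, map_mul, h1]
      simp [mul_assoc]
  · rintro ⟨y, hy, rfl⟩
    rw [Sylow.coe_subgroup_smul] at hy
    obtain ⟨z, hz, rfl⟩ := hy
    refine ⟨z, hz, ?_⟩
    show (z : G) = (h : G)⁻¹ * ((h * z * h⁻¹ : H) : G) * h
    simp [mul_assoc]

namespace One

variable [Finite G] {S : Sylow 2 G} {B P V Z : Subgroup G} (h : One S B P V Z)
include h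

theorem S_norm_V : (S : Subgroup G) ≤ normalizer (V : Set G) := h.pl.SP.trans h.pl.PN

theorem B_norm_V : B ≤ normalizer (V : Set G) := h.pl.BS.trans h.S_norm_V

theorem B_le_C : B ≤ centralizer (Z : Set G) := by
  intro s hs
  rw [mem_centralizer_iff]
  exact fun z hz => (h.pl.cen z hz s hs).symm

theorem B_norm_Z : B ≤ normalizer (Z : Set G) := h.B_le_C.trans (centralizer_le_normalizer _)

/-- `B` is a Sylow 2-subgroup of `C_G(Z)` -/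
theorem max_B {T : Subgroup G} (hT : T ≤ centralizer (Z : Set G)) (pT : IsPGroup 2 T) (hBT : B ≤ T) : T ≤ B := by
  obtain ⟨n, hn, hTn⟩ := h.pl.exists_le_conjB h.pl.SN le_rfl pT (hT.trans (centralizer_le_normalizer _)) hT
  have h2 : Nat.card T ≤ Nat.card B := by
    rw [← card_cj n B]
    exact Subgroup.card_le_of_le hTn
  exact (Subgroup.eq_of_le_of_card_ge hBT h2).ge

/-- the same for conjugates -/
theorem max_B' {T : Subgroup G} {n : G} (hn : PT.cj n Z = Z) (hT : T ≤ centralizer (Z : Set G)) (pT : IsPGroup 2 T)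
    (hBT : PT.cj n B ≤ T) : T ≤ PT.cj n B := by
  rw [le_cj_iff]
  refine h.max_B ?_ (pT.map _) (by rw [le_cj_iff, inv_inv]; exact hBT)
  rw [cj_le_iff, inv_inv, cj_centralizer, hn]
  exact hT

theorem isP_B : IsPGroup 2 B := S.isPGroup'.to_le h.pl.BS

/-- `[X_l, C_G(V)] ≤ Y_l` -/
theorem comm_yl {g c : G} (hg : g ∈ XV V Z) (hc : c ∈ centralizer (V : Set G)) : g * c * g⁻¹ * c⁻¹ ∈ yl V Z := by
  let E : Subgroup G :=
    { carrier := {g | g ∈ normalizer (V : Set G) ∧ ∀ c ∈ centralizer (V : Set G), g * c * g⁻¹ * c⁻¹ ∈ yl V Z}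
      one_mem' := ⟨one_mem _, fun c _ => by
        have : (1 : G) * c * 1⁻¹ * c⁻¹ = 1 := by group
        rw [this]; exact one_mem _⟩
      mul_mem' := by
        rintro a b ⟨ha, ha'⟩ ⟨hb, hb'⟩
        refine ⟨mul_mem ha hb, fun c hc => ?_⟩
        have e : a * b * c * (a * b)⁻¹ * c⁻¹ = a * (b * c * b⁻¹ * c⁻¹) * a⁻¹ * (a * c * a⁻¹ * c⁻¹) := by group
        rw [e]
        exact mul_mem ((mem_normalizer_iff.1 (norm_yl V Z ha) _).1 (hb' c hc)) (ha' c hc)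
      inv_mem' := by
        rintro a ⟨ha, ha'⟩
        refine ⟨inv_mem ha, fun c hc => ?_⟩
        have e : a⁻¹ * c * a⁻¹⁻¹ * c⁻¹ = a⁻¹ * (a * c * a⁻¹ * c⁻¹)⁻¹ * a⁻¹⁻¹ := by group
        rw [e]
        exact (mem_normalizer_iff.1 (norm_yl V Z (inv_mem ha)) _).1 (inv_mem (ha' c hc)) }
  have key : XV V Z ≤ E := by
    refine sSup_le ?_
    rintro _ ⟨Y, hY, hYV, rfl⟩
    intro k hk
    have hY' : Pnt V Z Y := ⟨hY, hYV⟩
    have hkN := h.K_norm hY' hk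
    refine ⟨hkN, fun c hc => mem_yl_of hY' ?_ ?_⟩
    · have h1 : c * k⁻¹ * c⁻¹ ∈ kx V Y := (mem_normalizer_iff.1 (h.cent_norm_K hY' hc) _).1 (inv_mem hk)
      have e : k * c * k⁻¹ * c⁻¹ = k * (c * k⁻¹ * c⁻¹) := by group
      rw [e]
      exact mul_mem hk h1
    · have h1 : k * c * k⁻¹ ∈ centralizer (V : Set G) := by
        have h2 : PT.cj k (centralizer (V : Set G)) = centralizer (V : Set G) := by
          rw [cj_centralizer, cj_eq_iff.2 hkN]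
        rw [← h2]
        exact conj_mem_cj hc
      exact mul_mem h1 (inv_mem hc)
  exact (key hg).2 c hc

/-- `|C_G(Z) : B|` is odd -/
theorem B_index : ¬ 2 ∣ B.relIndex (centralizer (Z : Set G)) := by
  have : Fact (Nat.Prime 2) := ⟨Nat.prime_two⟩
  obtain ⟨T, hT⟩ := (h.isP_B.comap_subtype (K := centralizer (Z : Set G))).exists_le_sylow
  have h1 : (T : Subgroup (centralizer (Z : Set G))) = B.subgroupOf (centralizer (Z : Set G)) := by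
    refine le_antisymm (fun x hx => ?_) hT
    have h2 : (T : Subgroup (centralizer (Z : Set G))).map (centralizer (Z : Set G)).subtype ≤ B := by
      refine h.max_B (by rintro _ ⟨x, -, rfl⟩; exact x.2) (T.isPGroup'.map _) ?_
      intro b hb
      exact ⟨⟨b, h.B_le_C hb⟩, hT hb, rfl⟩
    exact h2 ⟨x, hx, rfl⟩
  rw [relIndex, ← h1]
  exact T.not_dvd_index

theorem S_inf : (S : Subgroup G) ⊓ centralizer (V : Set G) = B ⊓ centralizer (V : Set G) := by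
  refine le_antisymm ?_ (inf_le_inf_right _ h.pl.BS)
  rintro s ⟨hs, hsV⟩
  exact ⟨h.pl.mem_B s hs fun z hz => h.cent_V hsV (h.pl.ZV hz), hsV⟩

/-- `B ∩ C_G(V)` is a Sylow 2-subgroup of `C_G(V)` -/
theorem max_C {T : Subgroup G} (hT : T ≤ centralizer (V : Set G)) (pT : IsPGroup 2 T)
    (hCT : B ⊓ centralizer (V : Set G) ≤ T) : T ≤ B ⊓ centralizer (V : Set G) := by
  obtain ⟨n, hn, hTn⟩ := exists_le_conj h.S_norm_V pT (hT.trans (centralizer_le_normalizer _))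
  have h1 : T ≤ PT.cj n (B ⊓ centralizer (V : Set G)) := by
    rw [← h.S_inf, cj_inf, cj_centralizer, cj_eq_iff.2 hn]
    exact le_inf hTn hT
  have h2 : Nat.card T ≤ Nat.card (B ⊓ centralizer (V : Set G) : Subgroup G) := by
    rw [← card_cj n (B ⊓ centralizer (V : Set G))]
    exact Subgroup.card_le_of_le h1
  exact (Subgroup.eq_of_le_of_card_ge hCT h2).ge

theorem isP_C : IsPGroup 2 (B ⊓ centralizer (V : Set G) : Subgroup G) :=
  h.isP_B.to_le inf_le_left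

/-- a 2-subgroup of `C_G(V)` normalised by `C_G(V)` lies in `B` -/
theorem le_B_of {T : Subgroup G} (hT : T ≤ centralizer (V : Set G)) (pT : IsPGroup 2 T)
    (hTn : centralizer (V : Set G) ≤ normalizer (T : Set G)) : T ≤ B := by
  have hn : B ⊓ centralizer (V : Set G) ≤ normalizer (T : Set G) := inf_le_right.trans hTn
  have h1 := h.isP_C.to_sup_of_normal_right' pT hn
  exact (le_sup_right.trans (h.max_C (sup_le inf_le_right hT) h1 le_sup_left)).trans inf_le_left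

/-- `W_X ≤ B` for every point `X` of `V` -/
theorem W_le_B {X : Subgroup G} (hX : Pnt V Z X) : ws V X ≤ B := by
  refine h.le_B_of (h.W_le_cent hX) (fun w => ⟨1, ?_⟩) (h.cent_norm_W hX)
  rw [pow_one, pow_two]
  exact Subtype.ext (h.sq_W hX w.2)

/-- `X_l = Y_l N(B ∩ C_G(V))` -/
theorem exists_norm {g : G} (hg : g ∈ XV V Z) : ∃ n ∈ XV V Z, n * g⁻¹ ∈ yl V Z ∧
    n ∈ normalizer ((B ⊓ centralizer (V : Set G) : Subgroup G) : Set G) := by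
  set C : Subgroup G := B ⊓ centralizer (V : Set G) with hC
  have hgN : g ∈ normalizer (V : Set G) := h.pl.XV_le_N hg
  have hCc : C ≤ centralizer (V : Set G) := inf_le_right
  have hCN : C ≤ normalizer ((yl V Z : Subgroup G) : Set G) :=
    (hCc.trans (centralizer_le_normalizer _)).trans (norm_yl V Z)
  have hgc : PT.cj g (centralizer (V : Set G)) = centralizer (V : Set G) := by
    rw [cj_centralizer, cj_eq_iff.2 hgN]
  have hHc : yl V Z ⊔ C ≤ centralizer (V : Set G) := sup_le (yl_le_cent V Z) hCc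
  have hg1 : PT.cj g C ≤ yl V Z ⊔ C := by
    intro x hx
    rw [mem_cj] at hx
    have h1 := h.comm_yl hg (hCc hx)
    have e : x = (g * (g⁻¹ * x * g) * g⁻¹ * (g⁻¹ * x * g)⁻¹) * (g⁻¹ * x * g) := by group
    rw [e]
    exact mul_mem_sup h1 hx
  obtain ⟨a, ha, hab⟩ : ∃ a ∈ yl V Z ⊔ C, PT.cj a (PT.cj g C) = C := by
    refine conj_of_max hg1 le_sup_right ?_ h.isP_C ?_ ?_
    · exact (h.isP_C).map _
    · intro T hT pT hCT
      rw [le_cj_iff]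
      refine h.max_C ?_ (pT.map _) (by rw [le_cj_iff, inv_inv]; exact hCT)
      rw [cj_le_iff, inv_inv, hgc]
      exact hT.trans hHc
    · intro T hT pT hCT
      exact h.max_C (hT.trans hHc) pT hCT
  rw [sup_comm] at ha
  obtain ⟨c, hc, y, hy, rfl⟩ := mem_sup_norm hCN ha
  refine ⟨y * g, mul_mem (yl_le_XV V Z hy) hg, by rwa [mul_inv_cancel_right], ?_⟩
  rw [← cj_eq_iff]
  have h1 : PT.cj c⁻¹ (PT.cj (c * y) (PT.cj g C)) = PT.cj c⁻¹ C := by rw [hab]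
  rw [cj_cj, cj_cj, cj_eq_iff.2 (le_normalizer (inv_mem hc))] at h1
  have e : c⁻¹ * (c * y) * g = y * g := by group
  rwa [e] at h1

/-- **(FIX)** -/
theorem fix {f : G} (hf : f ∈ IV V Z) (hfS : ∀ s ∈ B, s ∈ centralizer (V : Set G) →
    s * f * s⁻¹ * f⁻¹ ∈ Z) : f ∈ V := by
  obtain ⟨Y, hY, hYZ⟩ := h.exists_ne h.self
  obtain ⟨g, hg, -, hgZ, -⟩ := h.pl.swap h.hf h.self.cj h.self.le hY.cj hY.le
  obtain ⟨n, hn, hng, hnC⟩ := h.exists_norm hg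
  have hnN := h.pl.XV_le_N hn
  have hnZ : PT.cj n Z = Y := by
    have e : n = n * g⁻¹ * g := by group
    rw [e, ← cj_cj, hgZ]
    exact h.cent_fix hY (yl_le_cent V Z hng)
  have hfV : f ∈ centralizer (V : Set G) := h.I_le_cent hf
  -- `[f, C_S(V)] ≤ Y` too
  have key : ∀ s ∈ B, s ∈ centralizer (V : Set G) → s * f * s⁻¹ * f⁻¹ ∈ Y := by
    intro s hs hsV
    have h1 : n⁻¹ * s * n ∈ B ⊓ centralizer (V : Set G) := by
      have := (mem_normalizer_iff.1 (inv_mem hnC) s).1 ⟨hs, hsV⟩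
      rwa [inv_inv] at this
    have h2 := hfS _ h1.1 h1.2
    have h3 : n * (n⁻¹ * s * n * f * (n⁻¹ * s * n)⁻¹ * f⁻¹) * n⁻¹ ∈ Y := by
      rw [← hnZ]
      exact conj_mem_cj h2
    have hv := h.pl.XV_act hn hf
    have h4 : s * (n * f * n⁻¹ * f⁻¹) = n * f * n⁻¹ * f⁻¹ * s := h.cent_V hsV hv
    have h5 := hfS s hs hsV
    have h6 : (n * f * n⁻¹ * f⁻¹) * (s * f * s⁻¹ * f⁻¹) = s * f * s⁻¹ * f⁻¹ * (n * f * n⁻¹ * f⁻¹) :=
      h.pl.Vcomm hv (h.pl.ZV h5)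
    have e1 : n * (n⁻¹ * s * n * f * (n⁻¹ * s * n)⁻¹ * f⁻¹) * n⁻¹ = s * (n * f * n⁻¹ * f⁻¹) * f * s⁻¹ *
      f⁻¹ * (n * f * n⁻¹ * f⁻¹)⁻¹ := by group
    rw [e1, h4] at h3
    have e2 : n * f * n⁻¹ * f⁻¹ * s * f * s⁻¹ * f⁻¹ * (n * f * n⁻¹ * f⁻¹)⁻¹ = s * f * s⁻¹ * f⁻¹ := by
      have e3 : n * f * n⁻¹ * f⁻¹ * s * f * s⁻¹ * f⁻¹ = (n * f * n⁻¹ * f⁻¹) * (s * f * s⁻¹ * f⁻¹) := by group
      rw [e3, h6, mul_inv_cancel_right]
    rwa [e2] at h3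
  refine h.hO f (h.pl.ws_le_B (h.pl.IV_le_ws hf)) hfV (h.pl.IV_sq hf) fun s hs hsV => ?_
  have h7 : s * f * s⁻¹ * f⁻¹ ∈ Z ⊓ Y := ⟨hfS s hs hsV, key s hs hsV⟩
  rw [h.pl.pts_inf h.self.cj hY.cj hYZ.symm, mem_bot, mul_inv_eq_one, mul_inv_eq_iff_eq_mul] at h7
  exact h7

/-- **(FIX)** for subgroups -/
theorem fix_sub {D : Subgroup G} (hD : D ≤ IV V Z) (hDS : B ≤ normalizer (D : Set G)) (hDZ : ¬ D ≤ Z) :
    ∃ v ∈ D, v ∈ V ∧ v ∉ Z := by
  obtain ⟨f, hf, hfZ, hfS⟩ := OneLine.exists_fixed h.isP_B (hD.trans (h.pl.IV_le_ws.trans h.pl.ws_le_B)) hDS hDZ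
  exact ⟨f, hf, h.fix (hD hf) fun s hs _ => hfS s hs, hfZ⟩

end One

end Cfsg.Agent.Omega.NO3S.OneQ

end

section


/-!
# NO-3S, natural lines, critical distance 1 (`OneQ`): coordinates, the torus, submodules (bb OMEGA #17428 (A), (B))

* `Co F S B P V Z` : coordinates `e : F → F → G` of `V`, `Z = e(F, 0)`, `Yp = e(0, F)`;
* `Co.K_tv`, `Co.exists_K`, `Co.K_tv'`, `Co.exists_K'` : `K_Z`, `K_Y` induce the root groups on `V`;
* `Tor τ ζ` : `τ ∈ X_l ∩ N_G(B)` induces `diag(ζ, ζ⁻¹)` on `V`; `Co.exists_tor`;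
* `Inv D` : `D ≥ Z` is invariant under `B` and the torus; `Inv.of_norm` : under `N_G(Z) ∩ N_G(V)`;
* `Inv.sub` : `V ≤ D` or `D ∩ I ≤ Z`; `Inv.comm` : `V ≤ D` or `[D, W_Y] ≤ Z`;
* `V_le_of_comm` : `[W_Z, W_Y] ≤ D` implies `V ≤ D`; `Inv.decomp` : `M₁ ∩ M₂ ≤ Z` implies `[M₁, W_Y] ≤ Z` or `[M₂, W_Y] ≤ Z`;
* `line_eq` : the lines on `Z` are conjugate under `C_G(Z)`; `W_le_of_V`, `Inv.proper`.
-/

set_option autoImplicit false
set_option linter.unusedSectionVars false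

namespace Cfsg.Agent.Omega.NO3S.OneQ

open Subgroup Cfsg.Agent.Omega.NO3S.PT Cfsg.Agent.Omega.NoFF.Basic
open scoped Pointwise

variable {G : Type*} [Group G]

/-- coordinates on `V` with `Z = e(F, 0)` -/
structure Co (F : Type*) [Field F] [Finite G] (S : Sylow 2 G) (B P V Z : Subgroup G) where
  one : One S B P V Z
  e : F → F → G
  e_add : ∀ a b c d, e (a + c) (b + d) = e a b * e c d
  e_inj : ∀ {a b c d}, e a b = e c d → a = c ∧ b = d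
  mem_V : ∀ g, g ∈ V ↔ ∃ a b, e a b = g
  mem_Z : ∀ g, g ∈ Z ↔ ∃ a, e a 0 = g
  lift : ∀ a b c d : F, a * d + b * c = 1 →
    ∃ g ∈ P, ∀ x y, g * e x y * g⁻¹ = e (a * x + b * y) (c * x + d * y)
  tv : ∀ s ∈ B, ∃ t : F, ∀ x y, s * e x y * s⁻¹ = e (x + t * y) y

namespace Co

variable [Finite G] {F : Type*} [Field F] [CharP F 2] {S : Sylow 2 G} {B P V Z : Subgroup G} (h : Co F S B P V Z)

theorem e_zero : h.e 0 0 = 1 := by
  have := h.e_add 0 0 0 0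
  rw [add_zero] at this
  exact left_eq_mul.1 this

theorem e_inv (a b : F) : (h.e a b)⁻¹ = h.e a b := by
  rw [inv_eq_iff_mul_eq_one, ← h.e_add, CharTwo.add_self_eq_zero, CharTwo.add_self_eq_zero, h.e_zero]

theorem e_memV (a b : F) : h.e a b ∈ V := (h.mem_V _).2 ⟨a, b, rfl⟩

theorem e_memZ (a : F) : h.e a 0 ∈ Z := (h.mem_Z _).2 ⟨a, rfl⟩

theorem e_memZ_iff {a b : F} : h.e a b ∈ Z ↔ b = 0 := by
  constructor
  · intro h1
    obtain ⟨c, hc⟩ := (h.mem_Z _).1 h1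
    exact (h.e_inj hc).2.symm
  · rintro rfl
    exact h.e_memZ a

theorem e_eq_one {a b : F} : h.e a b = 1 ↔ a = 0 ∧ b = 0 := by
  constructor
  · intro h1
    rw [← h.e_zero] at h1
    exact h.e_inj h1
  · rintro ⟨rfl, rfl⟩
    exact h.e_zero

/-- `Y = e(0, F)` -/
def Yp : Subgroup G where
  carrier := {g | ∃ b, h.e 0 b = g}
  one_mem' := ⟨0, h.e_zero⟩
  mul_mem' := by
    rintro _ _ ⟨a, rfl⟩ ⟨b, rfl⟩
    exact ⟨a + b, by rw [← h.e_add, add_zero]⟩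
  inv_mem' := by
    rintro _ ⟨a, rfl⟩
    exact ⟨a, (h.e_inv 0 a).symm⟩

theorem mem_Yp {g : G} : g ∈ h.Yp ↔ ∃ b, h.e 0 b = g := Iff.rfl

theorem e_memY (b : F) : h.e 0 b ∈ h.Yp := ⟨b, rfl⟩

/-- the swap -/
theorem exists_swap : ∃ w ∈ P, ∀ x y, w * h.e x y * w⁻¹ = h.e y x := by
  obtain ⟨w, hw, hwe⟩ := h.lift 0 1 1 0 (by ring)
  refine ⟨w, hw, fun x y => ?_⟩
  rw [hwe]
  congr 1 <;> ring

theorem cj_swap {w : G} (hw : ∀ x y, w * h.e x y * w⁻¹ = h.e y x) : PT.cj w Z = h.Yp := by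
  have hw' : ∀ x y, w⁻¹ * h.e x y * w = h.e y x := by
    intro x y
    rw [← hw y x]; group
  ext g
  rw [mem_cj, h.mem_Z, h.mem_Yp]
  constructor
  · rintro ⟨a, ha⟩
    refine ⟨a, ?_⟩
    rw [← hw, ha]; group
  · rintro ⟨a, rfl⟩
    exact ⟨a, (hw' 0 a).symm⟩

theorem pY : Pnt V Z h.Yp := by
  obtain ⟨w, hw, hwe⟩ := h.exists_swap
  refine ⟨⟨w, (h.cj_swap hwe).symm⟩, ?_⟩
  rintro _ ⟨b, rfl⟩
  exact h.e_memV _ _

theorem Yp_ne : h.Yp ≠ Z := by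
  intro h1
  have h2 := h.e_memY 1
  rw [h1, h.e_memZ_iff] at h2
  exact one_ne_zero h2

theorem comm_e {g : G} (hg : g ∈ centralizer (V : Set G)) (a b : F) : g * h.e a b * g⁻¹ = h.e a b := by
  rw [(mem_centralizer_iff.1 hg _ (h.e_memV a b)).symm, mul_inv_cancel_right]

theorem mem_cent {g : G} (hg : ∀ a b, g * h.e a b * g⁻¹ = h.e a b) : g ∈ centralizer (V : Set G) := by
  rw [mem_centralizer_iff]
  intro v hv
  obtain ⟨a, b, rfl⟩ := (h.mem_V v).1 hv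
  have h1 := hg a b
  rw [mul_inv_eq_iff_eq_mul] at h1
  exact h1.symm

/-- `K_Z` acts by transvections -/
theorem K_tv {k : G} (hk : k ∈ kx V Z) : ∃ t : F, ∀ x y, k * h.e x y * k⁻¹ = h.e (x + t * y) y := by
  obtain ⟨l, hl, hlS, hlk⟩ := h.one.pl.kx_two hk
  obtain ⟨t, ht⟩ := h.tv l hlS
  refine ⟨t, fun x y => ?_⟩
  have h1 : k * l⁻¹ ∈ centralizer (V : Set G) := by
    have := inv_mem hlk
    rwa [mul_inv_rev, inv_inv] at this
  have e : k * h.e x y * k⁻¹ = k * l⁻¹ * (l * h.e x y * l⁻¹) * (k * l⁻¹)⁻¹ := by group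
  rw [e, ht, h.comm_e h1]

theorem exists_K (t : F) : ∃ k ∈ kx V Z, k ∈ B ∧ ∀ x y, k * h.e x y * k⁻¹ = h.e (x + t * y) y := by
  have h1 : h.e 0 1 ∉ Z := by
    rw [h.e_memZ_iff]
    exact one_ne_zero
  obtain ⟨k, hk, hkS, hkv⟩ := h.one.pl.K_act h.one.hf (h.e_memV 0 1) h1 (h.e_memZ t)
  refine ⟨k, hk, hkS, ?_⟩
  obtain ⟨s, hs⟩ := h.K_tv hk
  rw [hs, h.e_inv, ← h.e_add, CharTwo.add_self_eq_zero, zero_add, mul_one, add_zero] at hkv
  obtain ⟨rfl, -⟩ := h.e_inj hkv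
  exact hs

theorem K_tv' {k : G} (hk : k ∈ kx V h.Yp) : ∃ t : F, ∀ x y, k * h.e x y * k⁻¹ = h.e x (y + t * x) := by
  obtain ⟨w, hw, hwe⟩ := h.exists_swap
  have hwe' : ∀ x y, w⁻¹ * h.e x y * w = h.e y x := by
    intro x y
    rw [← hwe y x]; group
  have h1 : w⁻¹ * k * w ∈ kx V Z := by
    rw [← mem_cj, ← kx_cj, h.cj_swap hwe]
    exact hk
  obtain ⟨t, ht⟩ := h.K_tv h1
  refine ⟨t, fun x y => ?_⟩
  have e : k * h.e x y * k⁻¹ = w * (w⁻¹ * k * w * (w⁻¹ * h.e x y * w) * (w⁻¹ * k * w)⁻¹) * w⁻¹ := by group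
  rw [e, hwe', ht, hwe]

theorem exists_K' (t : F) : ∃ k ∈ kx V h.Yp, ∀ x y, k * h.e x y * k⁻¹ = h.e x (y + t * x) := by
  obtain ⟨w, hw, hwe⟩ := h.exists_swap
  have hwe' : ∀ x y, w⁻¹ * h.e x y * w = h.e y x := by
    intro x y
    rw [← hwe y x]; group
  obtain ⟨k, hk, -, hke⟩ := h.exists_K t
  refine ⟨w * k * w⁻¹, ?_, fun x y => ?_⟩
  · rw [← h.cj_swap hwe, kx_cj]
    exact conj_mem_cj hk
  · have e : w * k * w⁻¹ * h.e x y * (w * k * w⁻¹)⁻¹ = w * (k * (w⁻¹ * h.e x y * w) * k⁻¹) * w⁻¹ := by group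
    rw [e, hwe', hke, hwe]

theorem conj_mul {g k : G} {f f' : F → F → F × F} (hg : ∀ x y, g * h.e x y * g⁻¹ = h.e (f x y).1 (f x y).2)
    (hk : ∀ x y, k * h.e x y * k⁻¹ = h.e (f' x y).1 (f' x y).2) (x y : F) :
    g * k * h.e x y * (g * k)⁻¹ = h.e (f (f' x y).1 (f' x y).2).1 (f (f' x y).1 (f' x y).2).2 := by
  have e : g * k * h.e x y * (g * k)⁻¹ = g * (k * h.e x y * k⁻¹) * g⁻¹ := by group
  rw [e, hk, hg]

/-- `n(t) ∈ X_l` induces `(x, y) ↦ (t y, t⁻¹ x)` -/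
theorem exists_n {t : F} (ht : t ≠ 0) : ∃ n ∈ XV V Z, ∀ x y, n * h.e x y * n⁻¹ = h.e (t * y) (t⁻¹ * x) := by
  obtain ⟨a, ha, -, hae⟩ := h.exists_K t
  obtain ⟨b, hb, hbe⟩ := h.exists_K' t⁻¹
  have ha' := le_XV h.one.self.cj h.one.self.le ha
  have hb' := le_XV h.pY.cj h.pY.le hb
  refine ⟨a * b * a, mul_mem (mul_mem ha' hb') ha', fun x y => ?_⟩
  have e : a * b * a * h.e x y * (a * b * a)⁻¹ = a * (b * (a * h.e x y * a⁻¹) * b⁻¹) * a⁻¹ := by group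
  rw [e, hae, hbe, hae]
  have h1 : y + t⁻¹ * (x + t * y) = t⁻¹ * x := by
    rw [mul_add, inv_mul_cancel_left₀ ht, add_comm y, add_assoc, CharTwo.add_self_eq_zero, add_zero]
  rw [h1, mul_inv_cancel_left₀ ht]
  congr 1
  rw [add_right_comm, CharTwo.add_self_eq_zero, zero_add]

theorem exists_diag {t : F} (ht : t ≠ 0) : ∃ g ∈ XV V Z, ∀ x y, g * h.e x y * g⁻¹ = h.e (t * x) (t⁻¹ * y) := by
  obtain ⟨a, ha, hae⟩ := h.exists_n ht
  obtain ⟨b, hb, hbe⟩ := h.exists_n (one_ne_zero (α := F))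
  refine ⟨a * b, mul_mem ha hb, fun x y => ?_⟩
  have e : a * b * h.e x y * (a * b)⁻¹ = a * (b * h.e x y * b⁻¹) * a⁻¹ := by group
  rw [e, hbe, hae, inv_one, one_mul, one_mul]

/-- `τ` is an element of the torus for `ζ` -/
structure Tor (τ : G) (ζ : F) : Prop where
  mem : τ ∈ XV V Z
  norm : τ ∈ normalizer (B : Set G)
  act : ∀ x y, τ * h.e x y * τ⁻¹ = h.e (ζ * x) (ζ⁻¹ * y)

theorem cj_Z_of {g : G} {f : F → F} (hf : Function.Surjective f) (hg : ∀ x, g * h.e x 0 * g⁻¹ = h.e (f x) 0) :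
    PT.cj g Z = Z := by
  ext v
  rw [mem_cj, h.mem_Z, h.mem_Z]
  constructor
  · rintro ⟨a, ha⟩
    refine ⟨f a, ?_⟩
    rw [← hg, ha]; group
  · rintro ⟨a, rfl⟩
    obtain ⟨b, rfl⟩ := hf a
    refine ⟨b, ?_⟩
    rw [← hg]; group

theorem exists_tor {ζ : F} (hζ : ζ ≠ 0) : ∃ τ, h.Tor τ ζ := by
  obtain ⟨t, ht, hte⟩ := h.exists_diag hζ
  have htN := h.one.pl.XV_le_N ht
  have hSN := h.one.B_norm_V
  have htZ : PT.cj t Z = Z := by
    refine h.cj_Z_of (f := fun x => ζ * x) (fun x => ⟨ζ⁻¹ * x, mul_inv_cancel_left₀ hζ x⟩) fun x => ?_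
    rw [hte, mul_zero]
  have hSn : B ≤ normalizer ((yl V Z : Subgroup G) : Set G) := hSN.trans (norm_yl V Z)
  have h1 : PT.cj t B ≤ B ⊔ yl V Z := by
    intro x hx
    rw [mem_cj] at hx
    obtain ⟨k, hk, hkS, hks⟩ := h.one.pl.K_full h.one.hf hx
    -- `s = k c`
    have hc : k⁻¹ * (t⁻¹ * x * t) ∈ centralizer (V : Set G) := by
      have h2 : k * (t⁻¹ * x * t)⁻¹ ∈ centralizer (V : Set G) := hks
      have hkN := h.one.K_norm h.one.self hk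
      have h3 : k⁻¹ * (k * (t⁻¹ * x * t)⁻¹) * k ∈ centralizer (V : Set G) := by
        have h4 : PT.cj k⁻¹ (centralizer (V : Set G)) = centralizer (V : Set G) := by
          rw [cj_centralizer, cj_eq_iff.2 (inv_mem hkN)]
        rw [← h4]
        have := conj_mem_cj (g := k⁻¹) h2
        rwa [inv_inv] at this
      have h5 := inv_mem h3
      have e : (k⁻¹ * (k * (t⁻¹ * x * t)⁻¹) * k)⁻¹ = k⁻¹ * (t⁻¹ * x * t) := by group
      rwa [e] at h5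
    have hcS : k⁻¹ * (t⁻¹ * x * t) ∈ B := mul_mem (inv_mem hkS) hx
    -- `t k t⁻¹`
    have hk1 : t * k * t⁻¹ ∈ kx V Z := by
      rw [← htZ, kx_cj]
      exact conj_mem_cj hk
    obtain ⟨l, hl, hlS, hlk⟩ := h.one.pl.kx_two hk1
    have h6 : l * (t * k * t⁻¹)⁻¹ ∈ yl V Z := mem_yl_of h.one.self (mul_mem hl (inv_mem hk1)) hlk
    have h7 : t * k * t⁻¹ ∈ B ⊔ yl V Z := by
      have e : t * k * t⁻¹ = (l * (t * k * t⁻¹)⁻¹)⁻¹ * l := by group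
      rw [e]
      exact mul_mem (mem_sup_right (inv_mem h6)) (mem_sup_left hlS)
    have h8 : t * (k⁻¹ * (t⁻¹ * x * t)) * t⁻¹ * (k⁻¹ * (t⁻¹ * x * t))⁻¹ ∈ yl V Z := h.one.comm_yl ht hc
    have e : x = t * k * t⁻¹ * (t * (k⁻¹ * (t⁻¹ * x * t)) * t⁻¹ * (k⁻¹ * (t⁻¹ * x * t))⁻¹) *
      (k⁻¹ * (t⁻¹ * x * t)) := by group
    rw [e]
    exact mul_mem (mul_mem h7 (mem_sup_right h8)) (mem_sup_left hcS)
  have hHZ : B ⊔ yl V Z ≤ centralizer (Z : Set G) :=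
    sup_le h.one.B_le_C ((yl_le_cent V Z).trans (centralizer_le (by exact_mod_cast h.one.pl.ZV)))
  obtain ⟨a, ha, hab⟩ := conj_of_max h1 (le_sup_left : B ≤ B ⊔ yl V Z) ((h.one.isP_B).map _) h.one.isP_B
    (fun T hT pT hT' => h.one.max_B' htZ (hT.trans hHZ) pT hT') (fun T hT pT hT' => h.one.max_B (hT.trans hHZ) pT hT')
  obtain ⟨s, hs, y, hy, rfl⟩ := mem_sup_norm hSn ha
  refine ⟨y * t, mul_mem (yl_le_XV V Z hy) ht, ?_, fun u v => ?_⟩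
  · rw [← cj_eq_iff]
    have h2 : PT.cj s⁻¹ (PT.cj (s * y) (PT.cj t B)) = PT.cj s⁻¹ B := by rw [hab]
    rw [cj_cj, cj_cj, cj_eq_iff.2 (le_normalizer (inv_mem hs))] at h2
    have e : s⁻¹ * (s * y) * t = y * t := by group
    rwa [e] at h2
  · have e : y * t * h.e u v * (y * t)⁻¹ = y * (t * h.e u v * t⁻¹) * y⁻¹ := by group
    rw [e, hte, h.comm_e (yl_le_cent V Z hy)]

/-! ### Submodules of `W_Z / Z` -/

/-- `D ≥ Z` is invariant under `B` and the torus -/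
structure Inv (D : Subgroup G) : Prop where
  Z_le : Z ≤ D
  B_norm : B ≤ normalizer (D : Set G)
  tor : ∀ ζ : F, ζ ≠ 0 → ∃ τ, h.Tor τ ζ ∧ τ ∈ normalizer (D : Set G)

variable {h}

theorem Tor.norm_V {τ : G} {ζ : F} (ht : h.Tor τ ζ) : τ ∈ normalizer (V : Set G) := h.one.pl.XV_le_N ht.mem

theorem Tor.norm_Z {τ : G} {ζ : F} (ht : h.Tor τ ζ) (hζ : ζ ≠ 0) : τ ∈ normalizer (Z : Set G) := by
  rw [← cj_eq_iff]
  refine h.cj_Z_of (f := fun x => ζ * x) (fun x => ⟨ζ⁻¹ * x, mul_inv_cancel_left₀ hζ x⟩) fun x => ?_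
  rw [ht.act, mul_zero]

theorem Tor.norm_Y {τ : G} {ζ : F} (ht : h.Tor τ ζ) (hζ : ζ ≠ 0) : PT.cj τ h.Yp = h.Yp := by
  ext v
  rw [mem_cj, h.mem_Yp, h.mem_Yp]
  constructor
  · rintro ⟨a, ha⟩
    refine ⟨ζ⁻¹ * a, ?_⟩
    have h1 := ht.act 0 a
    rw [mul_zero] at h1
    rw [← h1, ha]; group
  · rintro ⟨a, rfl⟩
    refine ⟨ζ * a, ?_⟩
    have h1 := ht.act 0 (ζ * a)
    rw [mul_zero, inv_mul_cancel_left₀ hζ] at h1
    rw [← h1]; group

/-- invariance under `N_G(Z) ∩ N_G(V)` -/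
theorem Inv.of_norm {D : Subgroup G} (hZ : Z ≤ D)
    (hN : normalizer (Z : Set G) ⊓ normalizer (V : Set G) ≤ normalizer (D : Set G)) : h.Inv D where
  Z_le := hZ
  B_norm := (le_inf h.one.B_norm_Z h.one.B_norm_V).trans hN
  tor := fun ζ hζ => by
    obtain ⟨τ, hτ⟩ := h.exists_tor hζ
    exact ⟨τ, hτ, hN ⟨hτ.norm_Z hζ, hτ.norm_V⟩⟩

/-- invariance under `N_G(Z)` -/
theorem Inv.of_normZ {D : Subgroup G} (hZ : Z ≤ D) (hN : normalizer (Z : Set G) ≤ normalizer (D : Set G)) : h.Inv D :=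
  Inv.of_norm hZ (inf_le_left.trans hN)

theorem Inv.V_le {D : Subgroup G} (hD : h.Inv D) {v : G} (hv : v ∈ D) (hvV : v ∈ V) (hvZ : v ∉ Z) : V ≤ D := by
  obtain ⟨a, b, rfl⟩ := (h.mem_V v).1 hvV
  have hb : b ≠ 0 := fun e => hvZ (h.e_memZ_iff.2 e)
  intro u hu
  obtain ⟨x, y, rfl⟩ := (h.mem_V u).1 hu
  by_cases hy : y = 0
  · rw [hy]
    exact hD.Z_le (h.e_memZ x)
  obtain ⟨τ, hτ, hτD⟩ := hD.tor (b * y⁻¹) (mul_ne_zero hb (inv_ne_zero hy))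
  have h1 := (mem_normalizer_iff.1 hτD _).1 hv
  have e1 : (b * y⁻¹)⁻¹ * b = y := by
    rw [mul_inv_rev, inv_inv, mul_assoc, inv_mul_cancel₀ hb, mul_one]
  rw [hτ.act, e1] at h1
  have h2 : h.e x y = h.e (x + b * y⁻¹ * a) 0 * h.e (b * y⁻¹ * a) y := by
    rw [← h.e_add, zero_add, add_assoc, CharTwo.add_self_eq_zero, add_zero]
  rw [h2]
  exact mul_mem (hD.Z_le (h.e_memZ _)) h1

theorem Inv.sub {D : Subgroup G} (hD : h.Inv D) (hVD : ¬ V ≤ D) : D ⊓ IV V Z ≤ Z := by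
  by_contra hcon
  have hn : B ≤ normalizer ((D ⊓ IV V Z : Subgroup G) : Set G) := by
    intro s hs
    rw [← cj_eq_iff, cj_inf, cj_eq_iff.2 (hD.B_norm hs), cj_eq_iff.2 (normalizer_le_IV V Z (h.one.B_norm_V hs))]
  obtain ⟨v, hv, hvV, hvZ⟩ := h.one.fix_sub inf_le_right hn hcon
  exact hVD (hD.V_le hv.1 hvV hvZ)

/-- **(B)** -/
theorem Inv.comm {D : Subgroup G} (hD : h.Inv D) (hDW : D ≤ ws V Z) (hVD : ¬ V ≤ D) {d u : G} {Y : Subgroup G}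
    (hd : d ∈ D) (hY : Pnt V Z Y) (hYZ : Y ≠ Z) (hu : u ∈ ws V Y) : d * u * d⁻¹ * u⁻¹ ∈ Z := by
  refine hD.sub hVD ⟨?_, h.one.comm_mem h.one.self hY hYZ.symm (hDW hd) hu⟩
  have h1 : u * d⁻¹ * u⁻¹ ∈ D := (mem_normalizer_iff.1 (hD.B_norm (h.one.W_le_B hY hu)) _).1 (inv_mem hd)
  have e : d * u * d⁻¹ * u⁻¹ = d * (u * d⁻¹ * u⁻¹) := by group
  rw [e]
  exact mul_mem hd h1

variable (h)

/-- `V ≤ D` if `[W_Z, W_Y] ≤ D` -/
theorem V_le_of_comm {D : Subgroup G} (hD : h.Inv D) {Y : Subgroup G} (hY : Pnt V Z Y) (hYZ : Y ≠ Z)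
    (hc : ∀ w ∈ ws V Z, ∀ u ∈ ws V Y, w * u * w⁻¹ * u⁻¹ ∈ D) : V ≤ D := by
  by_contra hVD
  have h1 : ∀ w ∈ ws V Z, ∀ u ∈ ws V Y, w * u * w⁻¹ * u⁻¹ ∈ Z := fun w hw u hu =>
    hD.sub hVD ⟨hc w hw u hu, h.one.comm_mem h.one.self hY hYZ.symm hw hu⟩
  obtain ⟨k, hk, -, hk1, hk2⟩ := h.one.pl.swap h.one.hf h.one.self.cj h.one.self.le hY.cj hY.le
  have hk1' : PT.cj k⁻¹ Y = Z := by rw [← hk1, cj_cj, inv_mul_cancel, cj_one]
  have hk2' : PT.cj k⁻¹ Z = Y := by rw [← hk2, cj_cj, inv_mul_cancel, cj_one]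
  apply h.one.not_comm h.one.self hY hYZ.symm
  intro w hw
  rw [mem_centralizer_iff]
  intro u hu
  have h2 : k⁻¹ * u * k ∈ ws V Z := by
    rw [← hk1', ws_cj, mem_cj, inv_inv]
    have e : k * (k⁻¹ * u * k) * k⁻¹ = u := by group
    rw [e]
    exact hu
  have h3 : k⁻¹ * w * k ∈ ws V Y := by
    rw [← hk2', ws_cj, mem_cj, inv_inv]
    have e : k * (k⁻¹ * w * k) * k⁻¹ = w := by group
    rw [e]
    exact hw
  have h4 := h1 _ h2 _ h3
  have h5 : u * w * u⁻¹ * w⁻¹ ∈ Y := by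
    rw [← hk1]
    have := conj_mem_cj (g := k) h4
    have e : k * (k⁻¹ * u * k * (k⁻¹ * w * k) * (k⁻¹ * u * k)⁻¹ * (k⁻¹ * w * k)⁻¹) * k⁻¹ = u * w * u⁻¹ * w⁻¹ := by
      group
    rwa [e] at this
  have h6 : u * w * u⁻¹ * w⁻¹ ∈ Z := by
    have := inv_mem (h1 w hw u hu)
    have e : (w * u * w⁻¹ * u⁻¹)⁻¹ = u * w * u⁻¹ * w⁻¹ := by group
    rwa [e] at this
  have h7 : u * w * u⁻¹ * w⁻¹ ∈ Z ⊓ Y := ⟨h6, h5⟩
  rw [h.one.pl.pts_inf h.one.self.cj hY.cj hYZ.symm, mem_bot, mul_inv_eq_one, mul_inv_eq_iff_eq_mul] at h7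
  exact h7

include h in
theorem V_not_le : ¬ V ≤ Z := by
  intro h1
  have h2 := h1 (h.e_memV 0 1)
  rw [h.e_memZ_iff] at h2
  exact one_ne_zero h2

variable {h}

/-- **(B), decompositions** -/
theorem Inv.decomp {M₁ M₂ : Subgroup G} (h1 : h.Inv M₁) (h2 : h.Inv M₂) (hW1 : M₁ ≤ ws V Z) (hW2 : M₂ ≤ ws V Z)
    (h12 : M₁ ⊓ M₂ ≤ Z) :
    (∀ Y, Pnt V Z Y → Y ≠ Z → ∀ d ∈ M₁, ∀ u ∈ ws V Y, d * u * d⁻¹ * u⁻¹ ∈ Z) ∨
      ∀ Y, Pnt V Z Y → Y ≠ Z → ∀ d ∈ M₂, ∀ u ∈ ws V Y, d * u * d⁻¹ * u⁻¹ ∈ Z := by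
  by_cases hV1 : V ≤ M₁
  · right
    have hV2 : ¬ V ≤ M₂ := fun hV2 => h.V_not_le ((le_inf hV1 hV2).trans h12)
    exact fun Y hY hYZ d hd u hu => h2.comm hW2 hV2 hd hY hYZ hu
  · left
    exact fun Y hY hYZ d hd u hu => h1.comm hW1 hV1 hd hY hYZ hu

include h in
/-- the lines on `Z` are conjugate under `C_G(Z)` -/
theorem line_eq {L : Subgroup G} (hL : IsCj V L) (hZL : Z ≤ L) : ∃ c ∈ centralizer (Z : Set G), L = PT.cj c V := by
  obtain ⟨g, rfl⟩ := hL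
  have h1 : PT.cj g⁻¹ Z ≤ V := by rwa [cj_le_iff, inv_inv]
  obtain ⟨p, hp, hpe⟩ := h.one.pl.exists_pt ⟨g⁻¹, rfl⟩ h1
  have h2 : PT.cj (g * p) Z = Z := by rw [← cj_cj, ← hpe, cj_cj, mul_inv_cancel, cj_one]
  have h3 : PT.cj (g * p) V = PT.cj g V := by rw [← cj_cj, cj_eq_iff.2 (h.one.pl.PN hp)]
  rw [← h3]
  set n := g * p
  have h4 : PT.cj n B ≤ centralizer (Z : Set G) := by
    have := cj_le_cj (g := n) |>.2 h.one.B_le_C
    rwa [cj_centralizer, h2] at this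
  obtain ⟨c, hc, hce⟩ := conj_of_max h.one.B_le_C h4 h.one.isP_B ((h.one.isP_B).map _)
    (fun T hT pT hT' => h.one.max_B hT pT hT') (fun T hT pT hT' => h.one.max_B' h2 hT pT hT')
  refine ⟨c, hc, ?_⟩
  have h5 : c⁻¹ * n ∈ normalizer (B : Set G) := by
    rw [← cj_eq_iff, ← cj_cj, ← hce, cj_cj, inv_mul_cancel, cj_one]
  have h6 := cj_eq_iff.2 (h.one.pl.NB h5)
  rw [← cj_cj] at h6
  have h7 := congrArg (PT.cj c) h6
  rwa [cj_cj, mul_inv_cancel, cj_one] at h7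

include h in
/-- `M = ⟨lam^H⟩` -/
theorem W_le_of_V {D : Subgroup G} (hVD : V ≤ D) (hD : centralizer (Z : Set G) ≤ normalizer (D : Set G)) :
    ws V Z ≤ D := by
  refine ws_le fun L hL hZL => ?_
  obtain ⟨c, hc, rfl⟩ := h.line_eq hL hZL
  rw [← cj_eq_iff.2 (hD hc)]
  exact cj_le_cj.2 hVD

/-- a proper `C_G(Z)`-invariant and torus-invariant subgroup meets `I` in `Z` -/
theorem Inv.proper {D : Subgroup G} (hD : h.Inv D) (hC : centralizer (Z : Set G) ≤ normalizer (D : Set G))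
    (hne : ¬ ws V Z ≤ D) : D ⊓ IV V Z ≤ Z := hD.sub fun hV => hne (h.W_le_of_V hV hC)

end Co

end Cfsg.Agent.Omega.NO3S.OneQ

end

section


/-!
# NO-3S, `OneQ`: LEMMA Q+ (bb OMEGA #18518), abstract part

`QD C B K T` : subgroups `B i`, `K i`, `T i` (`i` the points of a line), `B i ≤ C` and `T i` normal in `C`, `K i / B i` of
exponent 2, `K i` permutes the `B j` and moves them transitively by elements which centralise `B i / T i`.

`QD.main` : all the elements of odd order of `B x` lie in `B y`.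
-/

set_option autoImplicit false

namespace Cfsg.Agent.Omega.NO3S.OneQ.QAbs

open Subgroup Cfsg
open scoped Pointwise

variable {G : Type*} [Group G]

/-! ### general lemmas -/

theorem mem_of_odd {N : Subgroup G} {b : G} (hb : Odd (orderOf b)) {m : ℕ} (h : b ^ (2 ^ m) ∈ N) : b ∈ N := by
  have hc : Nat.Coprime (orderOf b) (2 ^ m) := (Nat.Coprime.pow_right m (Nat.coprime_two_right.2 hb))
  obtain ⟨k, hk⟩ := exists_pow_eq_self_of_coprime hc.symm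
  rw [← hk]
  exact pow_mem h k

theorem exists_odd [Finite G] (g : G) : ∃ m, Odd (orderOf (g ^ (2 ^ m))) := by
  obtain ⟨m, k, hk, hmk⟩ := Nat.exists_eq_two_pow_mul_odd (orderOf_pos g).ne'
  refine ⟨m, ?_⟩
  rw [orderOf_pow' g (pow_ne_zero _ two_ne_zero), hmk, Nat.gcd_mul_right_left, Nat.mul_div_cancel_left _ (by positivity)]
  exact hk

theorem conj_mem {N C : Subgroup G} (h : C ≤ normalizer (N : Set G)) {c n : G} (hc : c ∈ C) (hn : n ∈ N) :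
    c * n * c⁻¹ ∈ N := (mem_normalizer_iff.1 (h hc) n).1 hn

theorem norm_of {N C : Subgroup G} (h : ∀ c ∈ C, ∀ n ∈ N, c * n * c⁻¹ ∈ N) : C ≤ normalizer (N : Set G) := by
  intro c hc
  rw [mem_normalizer_iff]
  refine fun n => ⟨h c hc n, fun hn => ?_⟩
  have h1 := h c⁻¹ (inv_mem hc) _ hn
  have e : c⁻¹ * (c * n * c⁻¹) * c⁻¹⁻¹ = n := by group
  rwa [e] at h1

/-- powers modulo `M` -/
theorem pow_mod {M : Subgroup G} {a n : G} (ha : a ∈ M) (hn : n ∈ normalizer (M : Set G)) (j : ℕ) :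
    (a * n) ^ j * (n ^ j)⁻¹ ∈ M := by
  induction j with
  | zero => simp
  | succ j ih =>
    have h1 : n ^ j * a * (n ^ j)⁻¹ ∈ M := (mem_normalizer_iff.1 (pow_mem hn j) a).1 ha
    have e : (a * n) ^ (j + 1) * (n ^ (j + 1))⁻¹ = ((a * n) ^ j * (n ^ j)⁻¹) * (n ^ j * a * (n ^ j)⁻¹) := by
      rw [pow_succ, pow_succ]; group
    rw [e]
    exact mul_mem ih h1

/-- the largest normal subgroup `N ≥ L` of `C` such that `N / L` is a 2-group -/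
theorem exists_nn [Finite G] {C L : Subgroup G} (hLC : L ≤ C) (hL : C ≤ normalizer (L : Set G)) :
    ∃ N : Subgroup G, N ≤ C ∧ C ≤ normalizer (N : Set G) ∧ L ≤ N ∧ (∀ n ∈ N, ∃ m, n ^ (2 ^ m) ∈ L) ∧
      ∀ M : Subgroup G, M ≤ C → C ≤ normalizer (M : Set G) → (∀ g ∈ M, ∃ m, g ^ (2 ^ m) ∈ L) → M ≤ N := by
  have : Fact (Nat.Prime 2) := ⟨Nat.prime_two⟩
  have hN : (L.subgroupOf C).Normal := by
    refine ⟨fun x hx c => ?_⟩
    rw [mem_subgroupOf] at hx ⊢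
    exact conj_mem hL c.2 hx
  set π := QuotientGroup.mk' (L.subgroupOf C) with hπ
  have hker : ∀ c : C, π c = 1 ↔ (c : G) ∈ L := fun c => by
    rw [hπ, QuotientGroup.mk'_apply, QuotientGroup.eq_one_iff, mem_subgroupOf]
  have hcn : (pCore 2 (C ⧸ L.subgroupOf C)).Normal := Cfsg.Agent.Lib.Cores.pCore_normal 2
  have hc2 : IsPGroup 2 (pCore 2 (C ⧸ L.subgroupOf C)) := Cfsg.Agent.Lib.Cores.pCore_isPGroup 2
  have hmem : ∀ g : G, g ∈ ((pCore 2 (C ⧸ L.subgroupOf C)).comap π).map C.subtype ↔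
      ∃ hg : g ∈ C, π ⟨g, hg⟩ ∈ pCore 2 (C ⧸ L.subgroupOf C) := by
    intro g
    constructor
    · rintro ⟨x, hx, rfl⟩
      exact ⟨x.2, hx⟩
    · rintro ⟨hg, h1⟩
      exact ⟨⟨g, hg⟩, h1, rfl⟩
  refine ⟨((pCore 2 (C ⧸ L.subgroupOf C)).comap π).map C.subtype, map_subtype_le _, ?_, ?_, ?_, ?_⟩
  · refine norm_of fun c hc n hn => ?_
    obtain ⟨h1, h2⟩ := (hmem n).1 hn
    refine (hmem _).2 ⟨mul_mem (mul_mem hc h1) (inv_mem hc), ?_⟩
    exact hcn.conj_mem _ h2 (π ⟨c, hc⟩)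
  · intro l hl
    refine (hmem _).2 ⟨hLC hl, ?_⟩
    rw [(hker _).2 hl]
    exact one_mem _
  · intro n hn
    obtain ⟨h1, h2⟩ := (hmem n).1 hn
    obtain ⟨m, hm⟩ := hc2 ⟨_, h2⟩
    refine ⟨m, ?_⟩
    have h3 : (π ⟨n, h1⟩) ^ (2 ^ m) = 1 := by
      have := congrArg Subtype.val hm
      simpa using this
    rw [← map_pow, hker] at h3
    simpa using h3
  · intro M hMC hM hpow g hg
    refine (hmem g).2 ⟨hMC hg, ?_⟩
    have hn : ((M.subgroupOf C).map π).Normal := by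
      refine Subgroup.Normal.map ⟨fun x hx c => ?_⟩ π (QuotientGroup.mk'_surjective _)
      rw [mem_subgroupOf] at hx ⊢
      exact conj_mem hM c.2 hx
    have h2 : IsPGroup 2 ((M.subgroupOf C).map π) := by
      rintro ⟨_, x, hx, rfl⟩
      obtain ⟨m, hm⟩ := hpow x hx
      refine ⟨m, Subtype.ext ?_⟩
      show (π x) ^ (2 ^ m) = 1
      rw [← map_pow, hker]
      simpa using hm
    exact Cfsg.Agent.Lib.Cores.le_pCore hn h2 (mem_map_of_mem π (mem_subgroupOf.2 hg))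

/-! ### the situation -/

/-- the hypotheses of LEMMA Q+ -/
structure QD {ι : Type*} (C : Subgroup G) (B K T : ι → Subgroup G) : Prop where
  B_le : ∀ i, B i ≤ C
  B_norm : ∀ i, C ≤ normalizer (B i : Set G)
  K_norm : ∀ i, C ≤ normalizer (K i : Set G)
  BK : ∀ i, B i ≤ K i
  sq : ∀ i, ∀ k ∈ K i, k * k ∈ B i
  KC : ∀ i, K i ≤ normalizer (C : Set G)
  KB : ∀ i, ∀ k ∈ K i, ∀ j, ∃ j', ∀ g, g ∈ B j' ↔ k⁻¹ * g * k ∈ B j
  T_le : ∀ i, T i ≤ B i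
  T_two : ∀ i, IsPGroup 2 (T i)
  T_norm : ∀ i, C ≤ normalizer (T i : Set G)
  move : ∀ z x y, x ≠ z → y ≠ z → ∃ k ∈ K z, (∀ g, g ∈ B x ↔ k * g * k⁻¹ ∈ B y) ∧ ∀ b ∈ B z, k * b * k⁻¹ * b⁻¹ ∈ T z
  third : ∀ x y : ι, ∃ z : ι, z ≠ x ∧ z ≠ y

namespace QD

variable {ι : Type*} {C : Subgroup G} {B K T : ι → Subgroup G} (h : QD C B K T)
include h

theorem T_pow {i : ι} {t : G} (ht : t ∈ T i) : ∃ m, t ^ (2 ^ m) = 1 := by
  obtain ⟨m, hm⟩ := h.T_two i ⟨t, ht⟩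
  exact ⟨m, by simpa using congrArg Subtype.val hm⟩

/-- LEMMA Q: the elements of odd order of `B x ∩ B y` lie in all the `B z` -/
theorem odd_inf {x y z : ι} (hxy : y ≠ x) {b : G} (hx : b ∈ B x) (hy : b ∈ B y) (hb : Odd (orderOf b)) : b ∈ B z := by
  by_cases hzx : z = x
  · rw [hzx]; exact hx
  obtain ⟨k, hk, hk1, hk2⟩ := h.move x y z hxy hzx
  have h1 : k * b * k⁻¹ ∈ B z := (hk1 b).1 hy
  have h2 := hk2 b hx
  set t := k * b * k⁻¹ * b⁻¹ with ht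
  obtain ⟨m, hm⟩ := h.T_pow h2
  have htC : t ∈ C := h.B_le x (h.T_le x h2)
  -- `b = (t b) t⁻¹` up to conjugation
  have h3 : t * b ∈ B z := by
    have e : t * b = k * b * k⁻¹ := by rw [ht]; group
    rw [e]; exact h1
  have h4 : t⁻¹ * (t * b) * t⁻¹⁻¹ ∈ B z := conj_mem (h.B_norm z) (inv_mem htC) h3
  have h5 := pow_mod h4 (h.B_norm z (inv_mem htC)) (2 ^ m)
  have e : t⁻¹ * (t * b) * t⁻¹⁻¹ * t⁻¹ = b := by group
  rw [e, inv_pow, hm, inv_one, inv_one, mul_one] at h5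
  exact mem_of_odd hb h5

end QD

/-- **LEMMA Q+, abstract form** -/
theorem QD.main [Finite G] {ι : Type*} {C : Subgroup G} {B K T : ι → Subgroup G} (h : QD C B K T) {x y : ι} {b : G}
    (hb : b ∈ B x) (hodd : Odd (orderOf b)) : b ∈ B y := by
  classical
  -- `L = ⋂ B i`
  set L : Subgroup G := ⨅ i, B i with hLdef
  have hmemL : ∀ g, g ∈ L ↔ ∀ i, g ∈ B i := fun g => by rw [hLdef, mem_iInf]
  have hLB : ∀ i, L ≤ B i := fun i => iInf_le _ i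
  have hLC : L ≤ C := (hLB x).trans (h.B_le x)
  have hLn : C ≤ normalizer (L : Set G) := norm_of fun c hc n hn => (hmemL _).2 fun i =>
    conj_mem (h.B_norm i) hc ((hmemL n).1 hn i)
  obtain ⟨N, hNC, hNn, hLN, hNpow, hNmax⟩ := exists_nn hLC hLn
  have hL2 : ∀ (M : Subgroup G), (∀ g ∈ M, Odd (orderOf g) → g ∈ L) → ∀ g ∈ M, ∃ m, g ^ (2 ^ m) ∈ L := by
    intro M hM g hg
    obtain ⟨m, hm⟩ := exists_odd g
    exact ⟨m, hM _ (pow_mem hg _) hm⟩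
  -- the 2-elements modulo `L`
  have hpp : ∀ (g : G) (m n : ℕ), g ^ (2 ^ m) ^ 1 ∈ N → g ^ (2 ^ m) ∈ N := fun g m n h1 => by simpa using h1
  have hNp : ∀ g : G, ∀ m, g ^ (2 ^ m) ∈ N → ∃ m', g ^ (2 ^ m') ∈ L := by
    intro g m hg
    obtain ⟨n, hn⟩ := hNpow _ hg
    refine ⟨m + n, ?_⟩
    rw [pow_add, pow_mul]
    exact hn
  -- (3)
  have s3 : ∀ {x y : ι}, x ≠ y → B x ⊓ B y ≤ N := by
    intro x y hxy
    refine hNmax _ (inf_le_left.trans (h.B_le x)) ?_ (hL2 _ fun g hg ho => (hmemL g).2 fun i =>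
      h.odd_inf hxy.symm hg.1 hg.2 ho)
    exact norm_of fun c hc n hn => ⟨conj_mem (h.B_norm x) hc hn.1, conj_mem (h.B_norm y) hc hn.2⟩
  -- (4)
  have s4 : ∀ {x z : ι}, x ≠ z → B x ⊓ K z ≤ N := by
    intro x z hxz
    refine hNmax _ (inf_le_left.trans (h.B_le x)) (norm_of fun c hc n hn =>
      ⟨conj_mem (h.B_norm x) hc hn.1, conj_mem (h.K_norm z) hc hn.2⟩) fun g hg => ?_
    have h1 : g * g ∈ N := s3 hxz ⟨mul_mem hg.1 hg.1, h.sq z g hg.2⟩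
    exact hNp g 1 (by rw [pow_one, pow_two]; exact h1)
  -- (5)
  have s5 : ∀ {x y : ι} {a b : G}, a ∈ B x → b ∈ B y → a * b * a⁻¹ * b⁻¹ ∈ N := by
    have s5' : ∀ {x y : ι} {a b : G}, x ≠ y → a ∈ B x → b ∈ B y → a * b * a⁻¹ * b⁻¹ ∈ N := by
      intro x y a b hxy ha hb
      refine s3 hxy (mem_inf.2 ⟨?_, ?_⟩)
      · have e : a * b * a⁻¹ * b⁻¹ = a * (b * a⁻¹ * b⁻¹) := by group
        rw [e]
        exact mul_mem ha (conj_mem (h.B_norm x) (h.B_le y hb) (inv_mem ha))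
      · exact mul_mem (conj_mem (h.B_norm y) (h.B_le x ha) hb) (inv_mem hb)
    intro x y a b ha hb
    by_cases hxy : x = y
    · subst hxy
      obtain ⟨z, hz, -⟩ := h.third x x
      obtain ⟨y, hyx, hyz⟩ := h.third x z
      obtain ⟨k, hk, hk1, -⟩ := h.move z x y hz.symm hyz
      have hb' : k * b * k⁻¹ ∈ B y := (hk1 b).1 hb
      have hbC : b ∈ C := h.B_le x hb
      have haC : a ∈ C := h.B_le x ha
      have hkb : (k * b * k⁻¹)⁻¹ * b ∈ K z := by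
        have e : (k * b * k⁻¹)⁻¹ * b = k * (b⁻¹ * k⁻¹ * b⁻¹⁻¹) := by group
        rw [e]
        exact mul_mem hk (conj_mem (h.K_norm z) (inv_mem hbC) (inv_mem hk))
      set b' := k * b * k⁻¹ with hb'def
      have hb'C : b' ∈ C := h.B_le y hb'
      set κ := b'⁻¹ * b with hκ
      have hκC : κ ∈ C := mul_mem (inv_mem hb'C) hbC
      have e : b = b' * κ := by rw [hκ]; group
      have h1 : a * b' * a⁻¹ * b'⁻¹ ∈ N := s5' hyx.symm ha hb'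
      have h2 : a * κ * a⁻¹ * κ⁻¹ ∈ N := by
        refine s4 hz.symm (mem_inf.2 ⟨?_, mul_mem (conj_mem (h.K_norm z) haC hkb) (inv_mem hkb)⟩)
        have e : a * κ * a⁻¹ * κ⁻¹ = a * (κ * a⁻¹ * κ⁻¹) := by group
        rw [e]
        exact mul_mem ha (conj_mem (h.B_norm x) hκC (inv_mem ha))
      have e2 : a * b * a⁻¹ * b⁻¹ = (a * b' * a⁻¹ * b'⁻¹) * (b' * (a * κ * a⁻¹ * κ⁻¹) * b'⁻¹) := by
        rw [e]; group
      rw [e2]
      exact mul_mem h1 (conj_mem hNn hb'C h2)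
    · exact s5' hxy ha hb
  -- the quotient `C / N`
  have hNN : (N.subgroupOf C).Normal := by
    refine ⟨fun x hx c => ?_⟩
    rw [mem_subgroupOf] at hx ⊢
    exact conj_mem hNn c.2 hx
  set π := QuotientGroup.mk' (N.subgroupOf C) with hπ
  have hker : ∀ c : C, π c = 1 ↔ (c : G) ∈ N := fun c => by
    rw [hπ, QuotientGroup.mk'_apply, QuotientGroup.eq_one_iff, mem_subgroupOf]
  have hcomm : ∀ c d : C, (c : G) * d * (c : G)⁻¹ * (d : G)⁻¹ ∈ N ↔ π c * π d = π d * π c := by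
    intro c d
    have h1 := hker (c * d * c⁻¹ * d⁻¹)
    have e : ((c * d * c⁻¹ * d⁻¹ : C) : G) = (c : G) * d * (c : G)⁻¹ * (d : G)⁻¹ := rfl
    rw [e] at h1
    rw [← h1, map_mul, map_mul, map_mul, map_inv, map_inv, mul_inv_eq_one, mul_inv_eq_iff_eq_mul]
  -- (6) `R = ⟨B i⟩` is abelian modulo `N`
  set R : Subgroup G := ⨆ i, B i with hR
  have hBR : ∀ i, B i ≤ R := fun i => le_iSup _ i
  have hRC : R ≤ C := iSup_le h.B_le
  have hRn : C ≤ normalizer (R : Set G) := by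
    refine norm_of fun c hc n hn => ?_
    have h1 : R ≤ R.comap (MulAut.conj c).toMonoidHom := iSup_le fun i b hb => by
      rw [mem_comap]
      exact hBR i (conj_mem (h.B_norm i) hc hb)
    exact h1 hn
  have s6 : ∀ a ∈ R, ∀ b ∈ R, a * b * a⁻¹ * b⁻¹ ∈ N := by
    have h1 : ∀ j, R ≤ ((centralizer (((B j).subgroupOf C).map π : Set _)).comap π).map C.subtype := by
      intro j
      refine iSup_le fun i a ha => ?_
      refine ⟨⟨a, h.B_le i ha⟩, ?_, rfl⟩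
      rw [SetLike.mem_coe, mem_comap, mem_centralizer_iff]
      rintro _ ⟨b, hb, rfl⟩
      exact ((hcomm _ _).1 (s5 ha (mem_subgroupOf.1 hb))).symm
    have h2 : R ≤ ((centralizer ((R.subgroupOf C).map π : Set _)).comap π).map C.subtype := by
      refine iSup_le fun i b hb => ?_
      refine ⟨⟨b, h.B_le i hb⟩, ?_, rfl⟩
      rw [SetLike.mem_coe, mem_comap, mem_centralizer_iff]
      rintro _ ⟨a, ha, rfl⟩
      obtain ⟨a', ha', hae⟩ := h1 i (mem_subgroupOf.1 ha)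
      have hae' : a' = a := Subtype.ext hae
      subst hae'
      rw [SetLike.mem_coe, mem_comap, mem_centralizer_iff] at ha'
      exact (ha' _ ⟨⟨b, h.B_le i hb⟩, mem_subgroupOf.2 hb, rfl⟩).symm
    intro a ha b hb
    obtain ⟨b', hb', hbe⟩ := h2 hb
    rw [SetLike.mem_coe, mem_comap, mem_centralizer_iff] at hb'
    have h3 := hb' _ ⟨⟨a, hRC ha⟩, mem_subgroupOf.2 ha, rfl⟩
    have h4 := (hcomm ⟨a, hRC ha⟩ b').2 h3
    have hbe' : (b' : G) = b := hbe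
    rw [hbe'] at h4
    exact h4
  -- (N5)
  have n5 : ∀ a ∈ R, ∀ m, a ^ (2 ^ m) ∈ N → a ∈ N := by
    have hmul : ∀ a ∈ R, ∀ b ∈ R, ∀ k, a ^ k ∈ N → b ^ k ∈ N → (a * b) ^ k ∈ N := by
      intro a ha b hb k hak hbk
      have h1 : Commute (π ⟨a, hRC ha⟩) (π ⟨b, hRC hb⟩) := (hcomm ⟨a, hRC ha⟩ ⟨b, hRC hb⟩).1 (s6 a ha b hb)
      have h2 := h1.mul_pow k
      have h3 : π ⟨a, hRC ha⟩ ^ k = 1 := by rw [← map_pow]; exact (hker _).2 hak
      have h4 : π ⟨b, hRC hb⟩ ^ k = 1 := by rw [← map_pow]; exact (hker _).2 hbk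
      rw [h3, h4, mul_one, ← map_mul, ← map_pow] at h2
      exact (hker _).1 h2
    let M : Subgroup G :=
      { carrier := {g | g ∈ R ∧ ∃ m, g ^ (2 ^ m) ∈ N}
        one_mem' := ⟨one_mem _, 0, by simp⟩
        mul_mem' := by
          rintro a b ⟨ha, m, hm⟩ ⟨hb, n, hn⟩
          refine ⟨mul_mem ha hb, m + n, hmul a ha b hb _ ?_ ?_⟩
          · rw [pow_add, pow_mul]
            exact pow_mem hm _
          · rw [pow_add, mul_comm, pow_mul]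
            exact pow_mem hn _
        inv_mem' := by
          rintro a ⟨ha, m, hm⟩
          exact ⟨inv_mem ha, m, by rw [inv_pow]; exact inv_mem hm⟩ }
    have hM : M ≤ N := by
      refine hNmax M (fun g hg => hRC hg.1) (norm_of fun c hc n hn => ⟨conj_mem hRn hc hn.1, ?_⟩) fun g hg => ?_
      · obtain ⟨m, hm⟩ := hn.2
        refine ⟨m, ?_⟩
        rw [conj_pow]
        exact conj_mem hNn hc hm
      · obtain ⟨m, hm⟩ := hg.2
        exact hNp g m hm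
    exact fun a ha m hm => hM ⟨ha, m, hm⟩
  -- the elements of `K z` normalise `N`
  have hKL : ∀ z, ∀ k ∈ K z, ∀ g ∈ L, k * g * k⁻¹ ∈ L := by
    intro z k hk g hg
    rw [hmemL]
    intro i
    obtain ⟨j, hj⟩ := h.KB z k⁻¹ (inv_mem hk) i
    have h1 := (hj g).1 ((hmemL g).1 hg j)
    rwa [inv_inv] at h1
  have hKN : ∀ z, ∀ k ∈ K z, ∀ n ∈ N, k * n * k⁻¹ ∈ N := by
    intro z k hk n hn
    have hkC : k ∈ normalizer (C : Set G) := h.KC z hk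
    have hle : N.map (MulAut.conj k).toMonoidHom ≤ N := by
      refine hNmax _ ?_ ?_ ?_
      · rintro _ ⟨g, hg, rfl⟩
        exact (mem_normalizer_iff.1 hkC g).1 (hNC hg)
      · refine norm_of fun c hc => ?_
        rintro _ ⟨g, hg, rfl⟩
        refine ⟨(k⁻¹ * c * k) * g * (k⁻¹ * c * k)⁻¹, conj_mem hNn ?_ hg, ?_⟩
        · have := (mem_normalizer_iff.1 (inv_mem hkC) c).1 hc
          rwa [inv_inv] at this
        · simp only [MulEquiv.coe_toMonoidHom, MulAut.conj_apply]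
          group
      · rintro _ ⟨g, hg, rfl⟩
        obtain ⟨m, hm⟩ := hNpow g hg
        refine ⟨m, ?_⟩
        rw [← map_pow]
        exact hKL z k hk _ hm
    exact hle ⟨n, hn, rfl⟩
  have hTN : ∀ i, T i ≤ N := fun i => hNmax _ ((h.T_le i).trans (h.B_le i)) (h.T_norm i) fun g hg => by
    obtain ⟨m, hm⟩ := h.T_pow hg
    exact ⟨m, by rw [hm]; exact one_mem _⟩
  -- (7)
  have s7 : ∀ {x z : ι}, x ≠ z → ∀ y, y ≠ z → ∀ g ∈ B x, ∃ g' ∈ B y, g⁻¹ * g' ∈ N := by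
    intro x z hxz y hyz g hg
    obtain ⟨k, hk, hk1, hk2⟩ := h.move z x y hxz hyz
    refine ⟨k * g * k⁻¹, (hk1 g).1 hg, ?_⟩
    have hgC : g ∈ C := h.B_le x hg
    have hgR : g ∈ R := hBR x hg
    have hkgR : k * g * k⁻¹ ∈ R := hBR y ((hk1 g).1 hg)
    have huK : g⁻¹ * (k * g * k⁻¹) ∈ K z := by
      have e : g⁻¹ * (k * g * k⁻¹) = (g⁻¹ * k * g⁻¹⁻¹) * k⁻¹ := by group
      rw [e]
      exact mul_mem (conj_mem (h.K_norm z) (inv_mem hgC) hk) (inv_mem hk)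
    set u := g⁻¹ * (k * g * k⁻¹) with hu
    have huR : u ∈ R := mul_mem (inv_mem hgR) hkgR
    have huu : u * u ∈ B z := h.sq z u huK
    -- `u ∈ B z N`
    obtain ⟨b, hb, hbu⟩ : ∃ b ∈ B z, b⁻¹ * u ∈ N := by
      obtain ⟨m, hm⟩ := exists_odd (π ⟨u, hRC huR⟩)
      have h1 : u ^ (2 ^ m) ∈ R := pow_mem huR _
      have h2 : Odd (orderOf (π ⟨u, hRC huR⟩)) := by
        -- a power of 2 of `u` has odd order; the 2-part dies
        obtain ⟨j, hj⟩ := hm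
        have h3 : (u ^ (orderOf (π ⟨u, hRC huR⟩ ^ 2 ^ m))) ∈ N := by
          refine n5 _ (pow_mem huR _) m ?_
          have h4 : ((π ⟨u, hRC huR⟩) ^ (2 ^ m)) ^ (orderOf (π ⟨u, hRC huR⟩ ^ 2 ^ m)) = 1 := pow_orderOf_eq_one _
          rw [← pow_mul, ← map_pow, hker] at h4
          rw [← pow_mul, mul_comm]
          simpa using h4
        have h4 : (π ⟨u, hRC huR⟩) ^ (orderOf (π ⟨u, hRC huR⟩ ^ 2 ^ m)) = 1 := by
          rw [← map_pow, hker]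
          simpa using h3
        exact (Odd.of_dvd_nat ⟨j, hj⟩ (orderOf_dvd_of_pow_eq_one h4))
      have h3 : (π ⟨u, hRC huR⟩) ^ (2 ^ 1) ∈ ((B z).subgroupOf C).map π := by
        rw [pow_one, pow_two, ← map_mul]
        exact ⟨_, mem_subgroupOf.2 (by simpa using huu), rfl⟩
      obtain ⟨b, hb, hbe⟩ := mem_of_odd h2 h3
      refine ⟨b, mem_subgroupOf.1 hb, ?_⟩
      have h4 : π (b⁻¹ * ⟨u, hRC huR⟩) = 1 := by
        rw [map_mul, map_inv, hbe, inv_mul_cancel]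
      exact (hker _).1 h4
    have hbC : b ∈ C := h.B_le z hb
    set n := b⁻¹ * u with hn
    have hub : u = b * n := by rw [hn]; group
    -- `k² g k⁻² = g b n (k b k⁻¹) (k n k⁻¹)`
    have h1 : k * b * k⁻¹ * b⁻¹ ∈ N := hTN z (hk2 b hb)
    have h2 : k * n * k⁻¹ ∈ N := hKN z k hk n hbu
    have h3 : (k * k) * g * (k * k)⁻¹ * g⁻¹ ∈ N := s6 _ (hBR z (h.sq z k hk)) g hgR
    have hkg : k * g * k⁻¹ = g * (b * n) := by rw [← hub, hu]; group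
    have h4 : (k * k) * g * (k * k)⁻¹ = g * (b * n) * (k * b * k⁻¹ * (k * n * k⁻¹)) := by
      have e : (k * k) * g * (k * k)⁻¹ = (k * g * k⁻¹) * (k * (g⁻¹ * (k * g * k⁻¹)) * k⁻¹) := by group
      rw [e, hkg]
      group
    have hkn : k * b * k⁻¹ = (k * b * k⁻¹ * b⁻¹) * b := by group
    -- `g b² g⁻¹ ∈ N`
    have h5 : b * b ∈ N := by
      set s := k * b * k⁻¹ * b⁻¹ with hs
      rw [h4, hkn] at h3
      -- `h3 : g * (b * n) * (s * b * (k n k⁻¹)) * g⁻¹ ∈ N`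
      have h6 := conj_mem hNn (inv_mem hgC) h3
      have e : g⁻¹ * (g * (b * n) * (s * b * (k * n * k⁻¹)) * g⁻¹) * g⁻¹⁻¹ = b * n * s * b * (k * n * k⁻¹) := by group
      rw [e] at h6
      have h7 : b * n * s * b ∈ N := by
        have := mul_mem h6 (inv_mem h2)
        rwa [mul_inv_cancel_right] at this
      have h8 : b * (n * s) * b⁻¹ ∈ N := conj_mem hNn hbC (mul_mem hbu h1)
      have h9 := mul_mem (inv_mem h8) h7
      have e2 : (b * (n * s) * b⁻¹)⁻¹ * (b * n * s * b) = b * b := by group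
      rwa [e2] at h9
    have h6 : b ∈ N := n5 b (hBR z hb) 1 (by rw [pow_one, pow_two]; exact h5)
    rw [hub]
    exact mul_mem h6 hbu
  -- (8)
  have s8 : ∀ x, B x ≤ N := by
    intro x g hg
    obtain ⟨y, hy, -⟩ := h.third x x
    obtain ⟨z, hzx, hzy⟩ := h.third x y
    obtain ⟨g', hg', hn⟩ := s7 hzx.symm y hzy.symm g hg
    -- `g = g' n⁻¹`
    set n := (g⁻¹ * g')⁻¹ with hndef
    have hn' : n ∈ N := inv_mem hn
    have e : g = g' * n := by rw [hndef]; group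
    obtain ⟨m, hm⟩ := hNpow n hn'
    have h1 := pow_mod (h.BK y hg') (h.K_norm y (hNC hn')) (2 ^ m)
    rw [← e] at h1
    have h2 : g ^ (2 ^ m) ∈ K y := by
      have h3 := mul_mem h1 (h.BK y (hLB y hm))
      rwa [inv_mul_cancel_right] at h3
    exact n5 g (hBR x hg) m (s4 hy.symm ⟨pow_mem hg _, h2⟩)
  obtain ⟨m, hm⟩ := hNpow b (s8 x hb)
  exact hLB y (mem_of_odd hodd hm)

end Cfsg.Agent.Omega.NO3S.OneQ.QAbs

end

section


/-!
# NO-3S, `OneQ`: LEMMA Q+ (bb OMEGA #18518, #17833 (2))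

`W_X = ws V X`, `K_X = kx V X`, `X` a point of the line `V`.

* `lx V Z X` : `L_X`, generated by the `N_G(X)`-conjugates of the `W_Y`, `Y ≠ X` a point of `V`;
* `One.lx_o2` : `L_X` centralises `C_G(W_X) / O_2(C_G(W_X))`;
* `Co.exists_kl` : `K_Z ∩ L_Z` induces the full root group on `V`;
* `Co.two_cent` : `C_G(W_X)` is a 2-group; `Co.two_kx` : `K_X` is a 2-group; `Co.kx_eq` : `K_X = O_2(C_G(X))`;
  `Co.yl_le_o2` : `⟨K_X ∩ C_G(V)⟩ ≤ O_2(C_G(V))`.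
-/

set_option autoImplicit false
set_option linter.unusedSectionVars false

namespace Cfsg.Agent.Omega.NO3S.OneQ

open Subgroup Cfsg.Agent.Omega.NO3S.PT Cfsg.Agent.Omega.NoFF.Basic
open Cfsg.Agent.ZN (o2)
open Cfsg.Agent.ZN.Block (le_o2 o2_le o2_isPGroup le_normalizer_o2)
open scoped Pointwise

variable {G : Type*} [Group G]

/-! ### general lemmas -/

theorem norm_cent {A : Subgroup G} : normalizer (A : Set G) ≤ normalizer ((centralizer (A : Set G) : Subgroup G) : Set G) := by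
  intro g hg
  rw [← cj_eq_iff, cj_centralizer, cj_eq_iff.2 hg]

theorem q_norm_o2 {A : Subgroup G} : normalizer (A : Set G) ≤ normalizer ((o2 A : Subgroup G) : Set G) := by
  have key : ∀ g ∈ normalizer (A : Set G), PT.cj g (o2 A) ≤ o2 A := by
    intro g hg
    have h1 : PT.cj g A = A := cj_eq_iff.2 hg
    refine le_o2 ((o2_isPGroup A).map _) ?_ ?_
    · have := cj_le_cj (g := g) |>.2 (o2_le A)
      rwa [h1] at this
    · have h2 := cj_le_cj (g := g) |>.2 (le_normalizer_o2 A)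
      rwa [h1, cj_normalizer] at h2
  intro g hg
  rw [← cj_eq_iff]
  refine le_antisymm (key g hg) ?_
  rw [le_cj_iff]
  exact key g⁻¹ (inv_mem hg)

/-- characteristic 2 type -/
theorem mem_o2_of_c2 (hG : IsCharacteristicTwoType G) {T : Subgroup G} (hT : IsPGroup 2 T) (hne : T ≠ ⊥) {c : G}
    (hc : c ∈ normalizer (T : Set G)) (hcc : ∀ x ∈ o2 (normalizer (T : Set G)), c * x = x * c) :
    c ∈ o2 (normalizer (T : Set G)) := by
  have h1 := hG.2 T hT hne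
  have h2 : (⟨c, hc⟩ : normalizer (T : Set G)) ∈ centralizer (pCore 2 (normalizer (T : Set G)) : Set _) := by
    rw [mem_centralizer_iff]
    intro x hx
    apply Subtype.ext
    exact (hcc x ⟨x, hx, rfl⟩).symm
  exact ⟨_, h1 h2, rfl⟩

/-- the subgroup generated by the elements of odd order of `A` -/
def od (A : Subgroup G) : Subgroup G := closure {g | g ∈ A ∧ Odd (orderOf g)}

theorem od_le (A : Subgroup G) : od A ≤ A := (closure_le _).2 fun _ hg => hg.1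

theorem mem_od {A : Subgroup G} {g : G} (hg : g ∈ A) (ho : Odd (orderOf g)) : g ∈ od A := subset_closure ⟨hg, ho⟩

theorem orderOf_conj' (c g : G) : orderOf (c * g * c⁻¹) = orderOf g := by
  have := orderOf_injective (MulAut.conj c).toMonoidHom (MulAut.conj c).injective g
  simpa using this

theorem od_conj {A : Subgroup G} {c g : G} (hc : ∀ a ∈ A, Odd (orderOf a) → c * a * c⁻¹ ∈ A) (hg : g ∈ od A) :
    c * g * c⁻¹ ∈ od A := by
  have h1 : od A ≤ (od A).comap (MulAut.conj c).toMonoidHom := by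
    refine (closure_le _).2 fun a ha => ?_
    exact mem_od (hc a ha.1 ha.2) (by
      rw [MulEquiv.coe_toMonoidHom, MulAut.conj_apply, orderOf_conj']
      exact ha.2)
  exact h1 hg

theorem norm_od {A : Subgroup G} : normalizer (A : Set G) ≤ normalizer ((od A : Subgroup G) : Set G) :=
  QAbs.norm_of fun _ hc _ hn => od_conj (fun a ha _ => (mem_normalizer_iff.1 hc a).1 ha) hn

theorem isP_of_od [Finite G] {A : Subgroup G} (h : od A = ⊥) : IsPGroup 2 A := by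
  rintro ⟨g, hg⟩
  obtain ⟨m, hm⟩ := QAbs.exists_odd g
  have h1 := mem_od (pow_mem hg (2 ^ m)) hm
  rw [h, mem_bot] at h1
  exact ⟨m, Subtype.ext h1⟩

/-- `L_X` -/
def lx (V Z X : Subgroup G) : Subgroup G :=
  closure {g | ∃ c ∈ normalizer (X : Set G), ∃ Y, Pnt V Z Y ∧ Y ≠ X ∧ c⁻¹ * g * c ∈ ws V Y}

theorem W_le_lx {V Z X Y : Subgroup G} (hY : Pnt V Z Y) (hne : Y ≠ X) : ws V Y ≤ lx V Z X := fun g hg =>
  subset_closure ⟨1, one_mem _, Y, hY, hne, by simpa using hg⟩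

theorem norm_lx (V Z X : Subgroup G) : normalizer (X : Set G) ≤ normalizer ((lx V Z X : Subgroup G) : Set G) := by
  refine QAbs.norm_of fun n hn g hg => ?_
  have h1 : lx V Z X ≤ (lx V Z X).comap (MulAut.conj n).toMonoidHom := by
    refine (closure_le _).2 ?_
    rintro a ⟨c, hc, Y, hY, hne, ha⟩
    refine subset_closure ⟨n * c, mul_mem hn hc, Y, hY, hne, ?_⟩
    have e : (n * c)⁻¹ * ((MulAut.conj n).toMonoidHom a) * (n * c) = c⁻¹ * a * c := by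
      rw [MulEquiv.coe_toMonoidHom, MulAut.conj_apply]; group
    rw [e]; exact ha
  exact h1 hg

theorem cj_lx {V Z X : Subgroup G} {p : G} (hp : p ∈ normalizer (V : Set G)) {g : G} (hg : g ∈ lx V Z X) :
    p * g * p⁻¹ ∈ lx V Z (PT.cj p X) := by
  have h1 : lx V Z X ≤ (lx V Z (PT.cj p X)).comap (MulAut.conj p).toMonoidHom := by
    refine (closure_le _).2 ?_
    rintro a ⟨c, hc, Y, hY, hne, ha⟩
    refine subset_closure ⟨p * c * p⁻¹, ?_, PT.cj p Y, hY.conj hp, fun e => hne (cj_inj.1 e), ?_⟩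
    · rw [← cj_normalizer]
      exact conj_mem_cj hc
    · have e : (p * c * p⁻¹)⁻¹ * ((MulAut.conj p).toMonoidHom a) * (p * c * p⁻¹) = p * (c⁻¹ * a * c) * p⁻¹ := by
        rw [MulEquiv.coe_toMonoidHom, MulAut.conj_apply]; group
      rw [e, ws_cj]
      exact conj_mem_cj ha
  exact h1 hg

namespace One

variable [Finite G] {S : Sylow 2 G} {B P V Z : Subgroup G} (h : One S B P V Z)
include h

theorem lx_le_C {X : Subgroup G} (hX : Pnt V Z X) : lx V Z X ≤ centralizer (X : Set G) := by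
  refine (closure_le _).2 ?_
  rintro a ⟨c, hc, Y, hY, hne, ha⟩
  have h1 : c⁻¹ * a * c ∈ centralizer (X : Set G) := centralizer_le hX.le (h.W_le_cent hY ha)
  have h2 := (mem_normalizer_iff.1 (norm_cent hc) _).1 h1
  have e : c * (c⁻¹ * a * c) * c⁻¹ = a := by group
  rwa [e] at h2

/-- `L_X` centralises `C_G(W_X) / O_2(C_G(W_X))` -/
theorem lx_o2 {X : Subgroup G} (hX : Pnt V Z X) {g b : G} (hg : g ∈ lx V Z X)
    (hb : b ∈ centralizer ((ws V X : Subgroup G) : Set G)) :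
    g * b * g⁻¹ * b⁻¹ ∈ o2 (centralizer ((ws V X : Subgroup G) : Set G)) := by
  set D := centralizer ((ws V X : Subgroup G) : Set G) with hD
  have hDV : D ≤ centralizer (V : Set G) := centralizer_le (h.V_le_W hX)
  have hND : normalizer (X : Set G) ≤ normalizer (D : Set G) := (normalizer_le_ws V X).trans norm_cent
  have hVD : centralizer (V : Set G) ≤ normalizer (D : Set G) := (h.cent_norm_W hX).trans norm_cent
  -- the points `Y`
  have hW : ∀ Y, Pnt V Z Y → ws V Y ⊓ D ≤ o2 D := by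
    intro Y hY
    refine le_o2 ?_ inf_le_right ?_
    · rintro ⟨w, hw⟩
      exact ⟨1, Subtype.ext (by
        have := h.sq_W hY hw.1
        simpa [pow_two] using this)⟩
    · refine (hDV.trans ?_)
      refine QAbs.norm_of fun c hc n hn => ⟨QAbs.conj_mem (h.cent_norm_W hY) hc hn.1, QAbs.conj_mem hVD hc hn.2⟩
  have hlN : lx V Z X ≤ normalizer ((o2 D : Subgroup G) : Set G) :=
    (h.lx_le_C hX).trans ((centralizer_le_normalizer _).trans (hND.trans q_norm_o2))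
  have hlD : lx V Z X ≤ normalizer (D : Set G) :=
    (h.lx_le_C hX).trans ((centralizer_le_normalizer _).trans hND)
  have key : lx V Z X ≤
      { carrier := {g | g ∈ lx V Z X ∧ ∀ b ∈ D, g * b * g⁻¹ * b⁻¹ ∈ o2 D}
        one_mem' := ⟨one_mem _, fun b _ => by
          have : (1 : G) * b * 1⁻¹ * b⁻¹ = 1 := by group
          rw [this]; exact one_mem _⟩
        mul_mem' := by
          rintro x y ⟨hx, hx'⟩ ⟨hy, hy'⟩
          refine ⟨mul_mem hx hy, fun b hb => ?_⟩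
          have e : x * y * b * (x * y)⁻¹ * b⁻¹ = (x * (y * b * y⁻¹ * b⁻¹) * x⁻¹) * (x * b * x⁻¹ * b⁻¹) := by group
          rw [e]
          exact mul_mem (QAbs.conj_mem hlN hx (hy' b hb)) (hx' b hb)
        inv_mem' := by
          rintro x ⟨hx, hx'⟩
          refine ⟨inv_mem hx, fun b hb => ?_⟩
          have e : x⁻¹ * b * x⁻¹⁻¹ * b⁻¹ = x⁻¹ * (x * b * x⁻¹ * b⁻¹)⁻¹ * x⁻¹⁻¹ := by group
          rw [e]
          exact QAbs.conj_mem hlN (inv_mem hx) (inv_mem (hx' b hb)) : Subgroup G } := by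
    refine (closure_le _).2 ?_
    rintro a ⟨c, hc, Y, hY, hne, ha⟩
    refine ⟨subset_closure ⟨c, hc, Y, hY, hne, ha⟩, fun b hb => ?_⟩
    have hb' : c⁻¹ * b * c ∈ D := by
      have := (mem_normalizer_iff.1 (inv_mem (hND hc)) b).1 hb
      rwa [inv_inv] at this
    set u := c⁻¹ * a * c with hu
    have h1 : u * (c⁻¹ * b * c) * u⁻¹ * (c⁻¹ * b * c)⁻¹ ∈ ws V Y ⊓ D := by
      refine mem_inf.2 ⟨?_, ?_⟩
      · have e : u * (c⁻¹ * b * c) * u⁻¹ * (c⁻¹ * b * c)⁻¹ = u * ((c⁻¹ * b * c) * u⁻¹ * (c⁻¹ * b * c)⁻¹) := by group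
        rw [e]
        exact mul_mem ha (QAbs.conj_mem (h.cent_norm_W hY) (hDV hb') (inv_mem ha))
      · exact mul_mem (QAbs.conj_mem hVD (h.W_le_cent hY ha) hb') (inv_mem hb')
    have h2 := QAbs.conj_mem (hND.trans q_norm_o2) hc (hW Y hY h1)
    have e : c * (u * (c⁻¹ * b * c) * u⁻¹ * (c⁻¹ * b * c)⁻¹) * c⁻¹ = a * b * a⁻¹ * b⁻¹ := by
      rw [hu]; group
    rwa [e] at h2
  exact (key hg).2 b hb

/-- `K_X² ≤ C_G(W_X)` -/
theorem K_sq {X : Subgroup G} (hX : Pnt V Z X) {k : G} (hk : k ∈ kx V X) :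
    k * k ∈ centralizer ((ws V X : Subgroup G) : Set G) := by
  rw [mem_centralizer_iff]
  intro w hw
  have h1 := (mem_kx.1 hk).2 w hw
  set x := k * w * k⁻¹ * w⁻¹ with hx
  have h2 := (mem_kx.1 hk).1 x h1
  have h3 : x * x = 1 := h.sq_W hX (h.V_le_W hX (hX.le h1))
  have h4 : k * w * k⁻¹ = x * w := by rw [hx]; group
  have h5 : k * x * k⁻¹ = x := by rw [h2]; group
  have h6 : (k * k) * w * (k * k)⁻¹ = w := by
    calc (k * k) * w * (k * k)⁻¹ = k * (k * w * k⁻¹) * k⁻¹ := by group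
      _ = k * (x * w) * k⁻¹ := by rw [h4]
      _ = (k * x * k⁻¹) * (k * w * k⁻¹) := by group
      _ = (x * x) * w := by rw [h4, h5]; group
      _ = w := by rw [h3, one_mul]
  rw [mul_inv_eq_iff_eq_mul] at h6
  exact h6.symm

theorem cent_W_le_K {X : Subgroup G} (hX : Pnt V Z X) : centralizer ((ws V X : Subgroup G) : Set G) ≤ kx V X := by
  intro b hb
  rw [mem_kx]
  refine ⟨fun x hx => (mem_centralizer_iff.1 hb x (h.V_le_W hX (hX.le hx))).symm, fun w hw => ?_⟩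
  rw [(mem_centralizer_iff.1 hb w hw).symm, mul_inv_cancel_right, mul_inv_cancel]
  exact one_mem _

/-- a third point -/
theorem third {X Y : Subgroup G} (hX : Pnt V Z X) (hY : Pnt V Z Y) : ∃ T, Pnt V Z T ∧ T ≠ X ∧ T ≠ Y := by
  by_cases hne : X = Y
  · obtain ⟨T, h1, h2⟩ := h.exists_ne hX
    exact ⟨T, h1, h2, hne ▸ h2⟩
  · obtain ⟨T, h1, h2, h3, h4⟩ := h.pl.exists_third hX.cj hX.le hY.cj hY.le hne
    exact ⟨T, ⟨h1, h2⟩, h3, h4⟩

end One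

namespace Co

variable [Finite G] {F : Type*} [Field F] [Finite F] [CharP F 2] {S : Sylow 2 G} {B P V Z : Subgroup G}
  (h : Co F S B P V Z)
include h

/-- `K_Z ∩ L_Z` does not centralise `V` -/
theorem exists_kl_ne : ∃ k ∈ kx V Z, k ∈ lx V Z Z ∧ k ∉ centralizer (V : Set G) := by
  by_contra hcon
  push Not at hcon
  have hCK : centralizer (Z : Set G) ≤ normalizer ((kx V Z : Subgroup G) : Set G) :=
    (centralizer_le_normalizer _).trans (normalizer_le_kx V Z)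
  have hCl : centralizer (Z : Set G) ≤ normalizer ((lx V Z Z : Subgroup G) : Set G) :=
    (centralizer_le_normalizer _).trans (norm_lx V Z Z)
  -- `R = K ∩ L` centralises `W_Z`
  have hR : ∀ r ∈ kx V Z, r ∈ lx V Z Z → r ∈ centralizer ((ws V Z : Subgroup G) : Set G) := by
    intro r hr hr'
    have h1 : ws V Z ≤ centralizer ((kx V Z ⊓ lx V Z Z : Subgroup G) : Set G) := by
      refine h.W_le_of_V ?_ ?_
      · intro v hv
        rw [mem_centralizer_iff]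
        intro x hx
        exact (mem_centralizer_iff.1 (hcon x hx.1 hx.2) v hv).symm
      · refine le_trans ?_ norm_cent
        exact QAbs.norm_of fun c hc n hn => ⟨QAbs.conj_mem hCK hc hn.1, QAbs.conj_mem hCl hc hn.2⟩
    rw [mem_centralizer_iff]
    intro w hw
    exact (mem_centralizer_iff.1 (h1 hw) r ⟨hr, hr'⟩).symm
  -- `D = C_{W_Z}(K_Z)`
  have hD : h.Inv (ws V Z ⊓ centralizer ((kx V Z : Subgroup G) : Set G)) := by
    refine Inv.of_normZ (le_inf (h.one.self.le.trans (h.one.V_le_W h.one.self)) ?_) ?_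
    · intro z hz
      rw [mem_centralizer_iff]
      intro k hk
      exact (mem_kx.1 hk).1 z hz
    · exact QAbs.norm_of fun c hc n hn => ⟨QAbs.conj_mem (normalizer_le_ws V Z) hc hn.1,
        QAbs.conj_mem ((normalizer_le_kx V Z).trans norm_cent) hc hn.2⟩
  have hVD := h.V_le_of_comm hD h.pY h.Yp_ne (fun w hw u hu => by
    have hWI := h.one.comm_mem h.one.self h.pY h.Yp_ne.symm hw hu
    refine mem_inf.2 ⟨h.one.I_le_W h.one.self hWI, ?_⟩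
    rw [mem_centralizer_iff]
    intro k hk
    have huC : u ∈ centralizer (Z : Set G) := centralizer_le h.one.self.le (h.one.W_le_cent h.pY hu)
    -- `c = [k, u]`
    have hc : k * u * k⁻¹ * u⁻¹ ∈ centralizer ((ws V Z : Subgroup G) : Set G) := by
      refine hR _ ?_ ?_
      · have e : k * u * k⁻¹ * u⁻¹ = k * (u * k⁻¹ * u⁻¹) := by group
        rw [e]
        exact mul_mem hk (QAbs.conj_mem hCK huC (inv_mem hk))
      · have hul : u ∈ lx V Z Z := W_le_lx h.pY h.Yp_ne hu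
        exact mul_mem (QAbs.conj_mem hCl (kx_le_cent hk) hul) (inv_mem hul)
    set c := k * u * k⁻¹ * u⁻¹ with hcdef
    have hkw := (mem_kx.1 hk).2 w hw
    set z := k * w * k⁻¹ * w⁻¹ with hz
    have h1 : k * w * k⁻¹ = z * w := by rw [hz]; group
    have h2 : k * u * k⁻¹ = c * u := by rw [hcdef]; group
    have hwu : u * w * u⁻¹ ∈ ws V Z := (mem_normalizer_iff.1 (h.one.cent_norm_W h.one.self (h.one.W_le_cent h.pY hu)) w).1 hw
    have hzu : u * z = z * u := (mem_centralizer_iff.1 huC z hkw).symm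
    have hzW : z ∈ ws V Z := h.one.V_le_W h.one.self (h.one.self.le hkw)
    have hcc : ∀ y ∈ ws V Z, c * y * c⁻¹ = y := fun y hy => by
      rw [(mem_centralizer_iff.1 hc y hy).symm, mul_inv_cancel_right]
    have h3 : k * (u * w * u⁻¹) * k⁻¹ = z * (u * w * u⁻¹) := by
      calc k * (u * w * u⁻¹) * k⁻¹ = (k * u * k⁻¹) * (k * w * k⁻¹) * (k * u * k⁻¹)⁻¹ := by group
        _ = c * (u * z * w * u⁻¹) * c⁻¹ := by rw [h1, h2]; group
        _ = c * (z * (u * w * u⁻¹)) * c⁻¹ := by rw [hzu]; group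
        _ = z * (u * w * u⁻¹) := hcc _ (mul_mem hzW hwu)
    have h4 : k * (w * u * w⁻¹ * u⁻¹) * k⁻¹ = w * u * w⁻¹ * u⁻¹ := by
      calc k * (w * u * w⁻¹ * u⁻¹) * k⁻¹ = (k * w * k⁻¹) * (k * (u * w * u⁻¹) * k⁻¹)⁻¹ := by group
        _ = z * (w * (u * w * u⁻¹)⁻¹) * z⁻¹ := by rw [h1, h3]; group
        _ = (w * (u * w * u⁻¹)⁻¹) * z * z⁻¹ := by
          rw [h.one.comm_W h.one.self.cj hzW (mul_mem hw (inv_mem hwu))]
        _ = w * u * w⁻¹ * u⁻¹ := by group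
    rw [mul_inv_eq_iff_eq_mul] at h4
    exact h4)
  apply h.one.hf
  intro k hk
  rw [mem_centralizer_iff]
  intro v hv
  exact (mem_centralizer_iff.1 (hVD hv).2 k hk).symm

/-- `K_Z ∩ L_Z` induces the full root group on `V` -/
theorem exists_kl (t : F) : ∃ k ∈ kx V Z, k ∈ lx V Z Z ∧ ∀ x y, k * h.e x y * k⁻¹ = h.e (x + t * y) y := by
  obtain ⟨r, hr, hrl, hrV⟩ := h.exists_kl_ne
  obtain ⟨s, hs⟩ := h.K_tv hr
  have hs0 : s ≠ 0 := by
    rintro rfl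
    apply hrV
    refine h.mem_cent fun a b => ?_
    rw [hs, zero_mul, add_zero]
  by_cases ht : t = 0
  · refine ⟨1, one_mem _, one_mem _, fun x y => ?_⟩
    rw [ht, zero_mul, add_zero]; group
  -- `t = ζ² s`
  obtain ⟨ζ, hζ⟩ : ∃ ζ : F, ζ * ζ = t * s⁻¹ := by
    have := Fintype.ofFinite F
    have h1 : IsSquare (t * s⁻¹) := FiniteField.isSquare_of_char_two (CharP.eq F ‹CharP F 2› (ringChar.charP F) ▸ rfl) _
    obtain ⟨ζ, hζ⟩ := h1
    exact ⟨ζ, hζ.symm⟩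
  have hζ0 : ζ ≠ 0 := by
    rintro rfl
    rw [mul_zero] at hζ
    exact mul_ne_zero ht (inv_ne_zero hs0) hζ.symm
  obtain ⟨τ, hτ⟩ := h.exists_tor hζ0
  have hτZ := hτ.norm_Z hζ0
  refine ⟨τ * r * τ⁻¹, (mem_normalizer_iff.1 (normalizer_le_kx V Z hτZ) r).1 hr,
    (mem_normalizer_iff.1 (norm_lx V Z Z hτZ) r).1 hrl, fun x y => ?_⟩
  have hτ' : τ⁻¹ * h.e x y * τ = h.e (ζ⁻¹ * x) (ζ * y) := by
    have h1 := hτ.act (ζ⁻¹ * x) (ζ * y)
    rw [mul_inv_cancel_left₀ hζ0, inv_mul_cancel_left₀ hζ0] at h1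
    rw [← h1]; group
  have e : τ * r * τ⁻¹ * h.e x y * (τ * r * τ⁻¹)⁻¹ = τ * (r * (τ⁻¹ * h.e x y * τ) * r⁻¹) * τ⁻¹ := by group
  rw [e, hτ', hs, hτ.act]
  congr 1
  · have h1 : ζ * ζ * s = t := by rw [hζ, inv_mul_cancel_right₀ hs0]
    rw [mul_add, mul_inv_cancel_left₀ hζ0, ← h1]
    ring
  · rw [inv_mul_cancel_left₀ hζ0]

/-- every element of `K_X` acts on `V` as an element of `K_X ∩ L_X` -/
theorem exists_kl_pt {X : Subgroup G} (hX : Pnt V Z X) {k : G} (hk : k ∈ kx V X) :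
    ∃ l ∈ kx V X, l ∈ lx V Z X ∧ l⁻¹ * k ∈ centralizer (V : Set G) := by
  obtain ⟨p, hp, rfl⟩ := h.one.pl.exists_pt hX.cj hX.le
  have hpV : p ∈ normalizer (V : Set G) := h.one.pl.PN hp
  have hk' : p⁻¹ * k * p ∈ kx V Z := by
    rw [← mem_cj, ← kx_cj]
    exact hk
  obtain ⟨t, ht⟩ := h.K_tv hk'
  obtain ⟨l, hl, hll, hle⟩ := h.exists_kl t
  refine ⟨p * l * p⁻¹, ?_, cj_lx hpV hll, ?_⟩
  · rw [kx_cj]
    exact conj_mem_cj hl
  · have h1 : l⁻¹ * (p⁻¹ * k * p) ∈ centralizer (V : Set G) := by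
      refine h.mem_cent fun a b => ?_
      have e : l⁻¹ * (p⁻¹ * k * p) * h.e a b * (l⁻¹ * (p⁻¹ * k * p))⁻¹ =
        l⁻¹ * (p⁻¹ * k * p * h.e a b * (p⁻¹ * k * p)⁻¹) * l := by group
      rw [e, ht, ← hle]; group
    have h2 := QAbs.conj_mem (norm_cent (A := V)) hpV h1
    have e : p * (l⁻¹ * (p⁻¹ * k * p)) * p⁻¹ = (p * l * p⁻¹)⁻¹ * k := by group
    rwa [e] at h2

/-- LEMMA Q+ (q1), (q2): the elements of odd order of `C_G(W_X)` lie in `C_G(W_Y)` -/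
theorem odd_cent {X Y : Subgroup G} (hX : Pnt V Z X) (hY : Pnt V Z Y) {b : G}
    (hb : b ∈ centralizer ((ws V X : Subgroup G) : Set G)) (hodd : Odd (orderOf b)) :
    b ∈ centralizer ((ws V Y : Subgroup G) : Set G) := by
  have hB : ∀ X : Subgroup G, Pnt V Z X → centralizer (V : Set G) ≤
      normalizer ((centralizer ((ws V X : Subgroup G) : Set G) : Subgroup G) : Set G) := fun X hX =>
    (h.one.cent_norm_W hX).trans norm_cent
  have hcj : ∀ (k : G) (X : Subgroup G) (g : G), g ∈ centralizer ((ws V X : Subgroup G) : Set G) ↔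
      k * g * k⁻¹ ∈ centralizer ((ws V (PT.cj k X) : Subgroup G) : Set G) := by
    intro k X g
    rw [ws_cj, ← cj_centralizer, mem_cj]
    have e : k⁻¹ * (k * g * k⁻¹) * k = g := by group
    rw [e]
  have hQD : QAbs.QD (ι := {X // Pnt V Z X}) (centralizer (V : Set G))
      (fun X => centralizer ((ws V X.1 : Subgroup G) : Set G)) (fun X => kx V X.1)
      (fun X => o2 (centralizer ((ws V X.1 : Subgroup G) : Set G))) := by
    refine ⟨?_, ?_, ?_, ?_, ?_, ?_, ?_, ?_, ?_, ?_, ?_, ?_⟩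
    · exact fun X => centralizer_le (h.one.V_le_W X.2)
    · exact fun X => hB X.1 X.2
    · exact fun X => h.one.cent_norm_K X.2
    · exact fun X => h.one.cent_W_le_K X.2
    · exact fun X k hk => h.one.K_sq X.2 hk
    · exact fun X => (h.one.K_norm X.2).trans norm_cent
    · rintro X k hk ⟨Y, hY⟩
      refine ⟨⟨PT.cj k Y, hY.conj (h.one.K_norm X.2 hk)⟩, fun g => ?_⟩
      rw [hcj k Y (k⁻¹ * g * k)]
      have e : k * (k⁻¹ * g * k) * k⁻¹ = g := by group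
      rw [e]
    · exact fun X => o2_le _
    · exact fun X => o2_isPGroup _
    · exact fun X => (hB X.1 X.2).trans q_norm_o2
    · rintro ⟨T, hT⟩ ⟨X, hX⟩ ⟨Y, hY⟩ hXT hYT
      obtain ⟨k, hk, hke⟩ := h.one.move hT hX hY (fun e => hXT (Subtype.ext e)) (fun e => hYT (Subtype.ext e))
      obtain ⟨l, hl, hll, hlk⟩ := h.exists_kl_pt hT hk
      have hle : PT.cj l X = Y := by
        have h1 : PT.cj (l⁻¹ * k) X = X := h.one.cent_fix hX hlk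
        rw [← cj_cj, hke] at h1
        rw [← h1, cj_cj, mul_inv_cancel, cj_one]
      refine ⟨l, hl, fun g => ?_, fun b hb => h.one.lx_o2 hT hll hb⟩
      have h1 := hcj l X g
      rw [hle] at h1
      exact h1
    · rintro ⟨X, hX⟩ ⟨Y, hY⟩
      obtain ⟨T, hT, h1, h2⟩ := h.one.third hX hY
      exact ⟨⟨T, hT⟩, fun e => h1 (congrArg Subtype.val e), fun e => h2 (congrArg Subtype.val e)⟩
  exact hQD.main (x := ⟨X, hX⟩) (y := ⟨Y, hY⟩) hb hodd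

/-- no 2-local contains `N_G(Z)` and `N_G(V)` -/
theorem not_local (hG : IsCharacteristicTwoType G) {U : Subgroup G} (hU : IsPGroup 2 U) (hne : U ≠ ⊥)
    (hUZ : centralizer (Z : Set G) ≤ normalizer (U : Set G)) (hUP : P ≤ normalizer (U : Set G)) : False := by
  set O := o2 (normalizer (U : Set G)) with hO
  have hON : normalizer (U : Set G) ≤ normalizer (O : Set G) := le_normalizer_o2 _
  have hSU : (S : Subgroup G) ≤ normalizer (U : Set G) := h.one.pl.SP.trans hUP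
  have hOS : O ≤ (S : Subgroup G) := by
    have h1 : IsPGroup 2 (O ⊔ (S : Subgroup G) : Subgroup G) :=
      IsPGroup.to_sup_of_normal_left' (o2_isPGroup _) S.isPGroup' (hSU.trans hON)
    have h2 := S.is_maximal' h1 le_sup_right
    exact le_sup_left.trans h2.le
  set A := O ⊓ centralizer (O : Set G) with hA
  have hAN : normalizer (U : Set G) ≤ normalizer (A : Set G) := by
    refine hON.trans (QAbs.norm_of fun c hc n hn => ⟨QAbs.conj_mem le_rfl hc hn.1, QAbs.conj_mem norm_cent hc hn.2⟩)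
  have hZA : Z ≤ A := by
    intro z hz
    by_cases hz1 : z = 1
    · rw [hz1]; exact one_mem _
    obtain ⟨k, hkP, hkZ, hks⟩ := h.one.pl.tor z hz hz1
    have h1 : k * z * k⁻¹ ∈ Z := (mem_normalizer_iff.1 hkZ z).1 hz
    have h2 : k * z * k⁻¹ ∈ normalizer (U : Set G) := hSU (h.one.pl.VS (h.one.pl.ZV h1))
    have h3 : k * z * k⁻¹ ∈ O := mem_o2_of_c2 hG hU hne h2 fun x hx => (hks x (hOS hx)).symm
    have h4 : k * z * k⁻¹ ∈ A := ⟨h3, mem_centralizer_iff.2 fun x hx => hks x (hOS hx)⟩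
    have h5 := (mem_normalizer_iff.1 (hAN (hUP (inv_mem hkP))) _).1 h4
    have e : k⁻¹ * (k * z * k⁻¹) * k⁻¹⁻¹ = z := by group
    rwa [e] at h5
  have hcjA : ∀ p ∈ P, PT.cj p A = A := fun p hp => cj_eq_iff.2 (hAN (hUP hp))
  have hVA : V ≤ A := by
    intro v hv
    by_cases hv1 : v = 1
    · rw [hv1]; exact one_mem _
    obtain ⟨p, hp, hvp⟩ := h.one.pl.part v hv hv1
    rw [← hcjA p hp]
    exact cj_le_cj.2 hZA hvp
  have hWA : ws V Z ≤ A := h.W_le_of_V hVA (hUZ.trans hAN)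
  obtain ⟨Y, hY, hYc⟩ := h.one.nc
  obtain ⟨p, hp, rfl⟩ := h.one.pl.exists_pt hY.cj hY.le
  apply hYc
  have hWA' : ws V (PT.cj p Z) ≤ A := by
    rw [ws_cj, ← hcjA p hp]
    exact cj_le_cj.2 hWA
  intro w hw
  rw [mem_centralizer_iff]
  exact fun u hu => (mem_centralizer_iff.1 (hWA hw).2 u (hWA' hu).1)

/-- **LEMMA Q+** `C_G(W_Z)` is a 2-group -/
theorem two_cent' (hG : IsCharacteristicTwoType G) : IsPGroup 2 (centralizer ((ws V Z : Subgroup G) : Set G)) := by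
  apply isP_of_od
  by_contra hne
  set D := centralizer ((ws V Z : Subgroup G) : Set G) with hD
  -- normalised by `N_G(Z)`, `N_G(V)`, `N_G(W_Z)`
  have h1 : normalizer (Z : Set G) ≤ normalizer ((od D : Subgroup G) : Set G) :=
    (normalizer_le_ws V Z).trans (norm_cent.trans norm_od)
  have h2 : normalizer ((ws V Z : Subgroup G) : Set G) ≤ normalizer ((od D : Subgroup G) : Set G) := norm_cent.trans norm_od
  have h3 : normalizer (V : Set G) ≤ normalizer ((od D : Subgroup G) : Set G) := by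
    refine QAbs.norm_of fun c hc n hn => od_conj (fun a ha hao => ?_) hn
    refine h.odd_cent (h.one.self.conj hc) h.one.self ?_ (by rw [orderOf_conj']; exact hao)
    rw [ws_cj, ← cj_centralizer]
    exact conj_mem_cj ha
  -- `O_2(od D) ≠ 1`
  have hWne : ws V Z ≠ ⊥ := by
    intro e
    obtain ⟨z, hz, hz1⟩ := h.one.pl.pt_ne_bot h.one.self.cj
    apply hz1
    have := h.one.V_le_W h.one.self (h.one.self.le hz)
    rwa [e, mem_bot] at this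
  have hW2 : IsPGroup 2 (ws V Z) := h.one.isP_B.to_le (h.one.W_le_B h.one.self)
  have hO2 : o2 (od D) ≠ ⊥ := by
    intro e
    set N := normalizer ((ws V Z : Subgroup G) : Set G) with hN
    have hDN : D ≤ N := centralizer_le_normalizer _
    have hoN : od D ≤ N := (od_le D).trans hDN
    have h4 : od D ⊓ o2 N ≤ ⊥ := by
      rw [← e]
      refine le_o2 ((o2_isPGroup N).to_le inf_le_right) inf_le_left ?_
      exact QAbs.norm_of fun c hc n hn => mem_inf.2 ⟨mul_mem (mul_mem hc hn.1) (inv_mem hc),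
        QAbs.conj_mem (le_normalizer_o2 N) (hoN hc) hn.2⟩
    apply hne
    rw [eq_bot_iff]
    intro g hg
    apply h4
    refine ⟨hg, mem_o2_of_c2 hG hW2 hWne (hoN hg) fun x hx => ?_⟩
    have hxN : x ∈ N := o2_le N hx
    have h5 : g * x * g⁻¹ * x⁻¹ ∈ od D ⊓ o2 N := by
      refine mem_inf.2 ⟨?_, mul_mem (QAbs.conj_mem (le_normalizer_o2 N) (hoN hg) hx) (inv_mem hx)⟩
      have e : g * x * g⁻¹ * x⁻¹ = g * (x * g⁻¹ * x⁻¹) := by group
      rw [e]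
      exact mul_mem hg (QAbs.conj_mem h2 hxN (inv_mem hg))
    have h6 := mem_bot.1 (h4 h5)
    rwa [mul_inv_eq_one, mul_inv_eq_iff_eq_mul] at h6
  refine h.not_local hG (o2_isPGroup (od D)) hO2 ?_ ?_
  · exact (centralizer_le_normalizer _).trans (h1.trans q_norm_o2)
  · exact h.one.pl.PN.trans (h3.trans q_norm_o2)

/-- **LEMMA Q+** `C_G(W_X)` is a 2-group -/
theorem two_cent (hG : IsCharacteristicTwoType G) {X : Subgroup G} (hX : IsCj Z X) :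
    IsPGroup 2 (centralizer ((ws V X : Subgroup G) : Set G)) := by
  obtain ⟨g, rfl⟩ := hX
  rw [ws_cj, ← cj_centralizer]
  exact (h.two_cent' hG).map _

/-- **LEMMA Q+** `K_X` is a 2-group -/
theorem two_kx (hG : IsCharacteristicTwoType G) {X : Subgroup G} (hX : IsCj Z X) : IsPGroup 2 (kx V X) := by
  obtain ⟨g, rfl⟩ := hX
  rw [kx_cj]
  refine IsPGroup.map ?_ _
  rintro ⟨k, hk⟩
  obtain ⟨m, hm⟩ := h.two_cent' hG ⟨k * k, h.one.K_sq h.one.self hk⟩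
  refine ⟨m + 1, Subtype.ext ?_⟩
  have h1 := congrArg Subtype.val hm
  show k ^ (2 ^ (m + 1)) = 1
  rw [pow_succ, mul_comm, pow_mul, pow_two]
  simpa using h1

/-- **LEMMA Q+** `K_X = O_2(C_G(X))` -/
theorem kx_eq (hG : IsCharacteristicTwoType G) {X : Subgroup G} (hX : IsCj Z X) :
    kx V X = o2 (centralizer (X : Set G)) := by
  have key : kx V Z = o2 (centralizer (Z : Set G)) := by
    refine le_antisymm ?_ ?_
    · exact le_o2 (h.two_kx hG h.one.self.cj) kx_le_cent ((centralizer_le_normalizer _).trans (normalizer_le_kx V Z))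
    · intro k hk
      have hOn : centralizer (Z : Set G) ≤ normalizer ((o2 (centralizer (Z : Set G)) : Subgroup G) : Set G) :=
        le_normalizer_o2 _
      have hOB : o2 (centralizer (Z : Set G)) ≤ B := by
        have h1 : IsPGroup 2 (o2 (centralizer (Z : Set G)) ⊔ B : Subgroup G) :=
          IsPGroup.to_sup_of_normal_left' (o2_isPGroup _) h.one.isP_B (h.one.B_le_C.trans hOn)
        exact le_sup_left.trans (h.one.max_B (sup_le (o2_le _) h.one.B_le_C) h1 le_sup_right)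
      have hWm : ws V Z ≤
          { carrier := {w | w ∈ centralizer (Z : Set G) ∧ ∀ k ∈ o2 (centralizer (Z : Set G)), k * w * k⁻¹ * w⁻¹ ∈ Z}
            one_mem' := ⟨one_mem _, fun k _ => by
              have : k * 1 * k⁻¹ * 1⁻¹ = 1 := by group
              rw [this]; exact one_mem _⟩
            mul_mem' := by
              rintro a b ⟨ha, ha'⟩ ⟨hb, hb'⟩
              refine ⟨mul_mem ha hb, fun k hk => ?_⟩
              have h1 := hb' k hk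
              have h2 : a * (k * b * k⁻¹ * b⁻¹) = (k * b * k⁻¹ * b⁻¹) * a := (mem_centralizer_iff.1 ha _ h1).symm
              have e : k * (a * b) * k⁻¹ * (a * b)⁻¹ = (k * a * k⁻¹ * a⁻¹) * (a * (k * b * k⁻¹ * b⁻¹)) * a⁻¹ := by group
              rw [e, h2]
              have e2 : (k * a * k⁻¹ * a⁻¹) * ((k * b * k⁻¹ * b⁻¹) * a) * a⁻¹ = (k * a * k⁻¹ * a⁻¹) * (k * b * k⁻¹ * b⁻¹) := by
                group
              rw [e2]
              exact mul_mem (ha' k hk) h1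
            inv_mem' := by
              rintro a ⟨ha, ha'⟩
              refine ⟨inv_mem ha, fun k hk => ?_⟩
              have h1 := inv_mem (ha' k hk)
              have h2 : a * (k * a * k⁻¹ * a⁻¹)⁻¹ = (k * a * k⁻¹ * a⁻¹)⁻¹ * a := (mem_centralizer_iff.1 ha _ h1).symm
              have e : k * a⁻¹ * k⁻¹ * a⁻¹⁻¹ = a⁻¹ * ((k * a * k⁻¹ * a⁻¹)⁻¹ * a) := by group
              rw [e, ← h2, inv_mul_cancel_left]
              exact h1 : Subgroup G } := by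
        refine h.W_le_of_V ?_ ?_
        · intro v hv
          refine ⟨(centralizer_le h.one.self.le) (h.one.W_le_cent h.one.self (h.one.V_le_W h.one.self hv)), fun k hk => ?_⟩
          exact h.one.pl.act k (hOB hk) v hv
        · refine QAbs.norm_of fun c hc n hn => ⟨mul_mem (mul_mem hc hn.1) (inv_mem hc), fun k hk => ?_⟩
          have hk' : c⁻¹ * k * c⁻¹⁻¹ ∈ o2 (centralizer (Z : Set G)) := QAbs.conj_mem hOn (inv_mem hc) hk
          have h1 := (mem_normalizer_iff.1 (centralizer_le_normalizer _ hc) _).1 (hn.2 _ hk')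
          have e : c * (c⁻¹ * k * c⁻¹⁻¹ * n * (c⁻¹ * k * c⁻¹⁻¹)⁻¹ * n⁻¹) * c⁻¹ = k * (c * n * c⁻¹) * k⁻¹ * (c * n * c⁻¹)⁻¹ := by
            group
          rwa [e] at h1
      rw [mem_kx]
      refine ⟨fun x hx => (mem_centralizer_iff.1 (o2_le _ hk) x hx).symm, fun w hw => (hWm hw).2 k hk⟩
  obtain ⟨g, rfl⟩ := hX
  have h1 : PT.cj g (o2 (centralizer (Z : Set G))) = o2 (centralizer ((PT.cj g Z : Subgroup G) : Set G)) := by
    have h2 : ∀ (g : G) (A : Subgroup G), PT.cj g (o2 A) ≤ o2 (PT.cj g A) := by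
      intro g A
      refine le_o2 ((o2_isPGroup A).map _) (cj_le_cj.2 (o2_le A)) ?_
      rw [← cj_normalizer]
      exact cj_le_cj.2 (le_normalizer_o2 A)
    rw [← cj_centralizer]
    refine le_antisymm (h2 g _) ?_
    rw [le_cj_iff]
    have := h2 g⁻¹ (PT.cj g (centralizer (Z : Set G)))
    rwa [cj_cj, inv_mul_cancel, cj_one] at this
  rw [kx_cj, key, h1]

/-- `⟨K_X ∩ C_G(V)⟩ ≤ O_2(C_G(V))` -/
theorem yl_le_o2 (hG : IsCharacteristicTwoType G) : yl V Z ≤ o2 (centralizer (V : Set G)) := by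
  unfold yl
  refine sSup_le ?_
  rintro _ ⟨Y, hY, rfl⟩
  refine le_o2 ((h.two_kx hG hY.cj).to_le inf_le_left) inf_le_right ?_
  exact QAbs.norm_of fun c hc n hn => mem_inf.2 ⟨QAbs.conj_mem (h.one.cent_norm_K hY) hc hn.1,
    mul_mem (mul_mem hc hn.2) (inv_mem hc)⟩

end Co

end Cfsg.Agent.Omega.NO3S.OneQ

end

section


/-!
# NO-3S, `OneQ`: the `F`-structure on `W_Z / Z` (bb OMEGA #17428 (C))

* `zv` : the coordinate of an element of `Z`; `fn w k` = the coordinate of `[k, w]`, `w ∈ W_Z`, `k ∈ K_Z`;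
  `fn_mul`, `fn_mul'`, `fn_eq_zero`, `fn_V`, `fn_conj` (`g ∈ C_G(Z)`), `fn_conj'` (`g ∈ N_G(Z)` multiplies `Z` by `χ`);
* `exists_smul` : for `c ∈ F`, `w ∈ W_Z` there is `w' ∈ W_Z` with `fn w' k = c * fn w k` for all `k ∈ K_Z`;
* `rd V Z = {w ∈ W_Z | [w, K_Z] = 1}`; `rd_inf_I`, `rd_comm` : `rd ∩ I = Z`, `[rd, W_Y] ≤ Z`;
* `MF : Submodule F (K_Z → F)` the image of `W_Z`; `fm : W_Z → MF`; `rep : Representation F (C_G(Z)) MF`.
-/

set_option autoImplicit false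
set_option linter.unusedSectionVars false

namespace Cfsg.Agent.Omega.NO3S.OneQ

open Subgroup Cfsg.Agent.Omega.NO3S.PT Cfsg.Agent.Omega.NoFF.Basic
open scoped Pointwise

variable {G : Type*} [Group G]

/-- `{w ∈ W_Z | [w, K_Z] = 1}` -/
def rd (V Z : Subgroup G) : Subgroup G := ws V Z ⊓ centralizer ((kx V Z : Subgroup G) : Set G)

theorem mem_rd {V Z : Subgroup G} {w : G} : w ∈ rd V Z ↔ w ∈ ws V Z ∧ ∀ k ∈ kx V Z, k * w = w * k := by
  unfold rd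
  rw [mem_inf, mem_centralizer_iff]
  rfl

theorem rd_le {V Z : Subgroup G} : rd V Z ≤ ws V Z := inf_le_left

theorem norm_rd (V Z : Subgroup G) : normalizer (Z : Set G) ≤ normalizer ((rd V Z : Subgroup G) : Set G) := by
  intro g hg
  rw [← cj_eq_iff, rd, cj_inf, cj_centralizer, cj_eq_iff.2 (normalizer_le_ws V Z hg),
    cj_eq_iff.2 (normalizer_le_kx V Z hg)]

namespace Co

variable [Finite G] {F : Type*} [Field F] [CharP F 2] {S : Sylow 2 G} {B P V Z : Subgroup G} (h : Co F S B P V Z)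

/-! ### Coordinates of elements of `Z` -/

open Classical in
/-- the coordinate of an element of `Z` -/
noncomputable def zv (g : G) : F := if hg : ∃ a, h.e a 0 = g then hg.choose else 0

theorem zv_e (a : F) : h.zv (h.e a 0) = a := by
  have hg : ∃ b, h.e b 0 = h.e a 0 := ⟨a, rfl⟩
  rw [zv, dif_pos hg]
  exact (h.e_inj hg.choose_spec).1

theorem e_zv {g : G} (hg : g ∈ Z) : h.e (h.zv g) 0 = g := by
  obtain ⟨a, rfl⟩ := (h.mem_Z g).1 hg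
  rw [h.zv_e]

theorem zv_one : h.zv 1 = 0 := by
  have := h.zv_e 0
  rwa [h.e_zero] at this

theorem zv_mul {a b : G} (ha : a ∈ Z) (hb : b ∈ Z) : h.zv (a * b) = h.zv a + h.zv b := by
  obtain ⟨x, rfl⟩ := (h.mem_Z a).1 ha
  obtain ⟨y, rfl⟩ := (h.mem_Z b).1 hb
  have h1 : h.e x 0 * h.e y 0 = h.e (x + y) 0 := by rw [← h.e_add, add_zero]
  rw [h1, h.zv_e, h.zv_e, h.zv_e]

theorem zv_eq_zero {a : G} (ha : a ∈ Z) : h.zv a = 0 ↔ a = 1 := by
  obtain ⟨x, rfl⟩ := (h.mem_Z a).1 ha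
  rw [h.zv_e, h.e_eq_one]
  exact ⟨fun e => ⟨e, rfl⟩, fun e => e.1⟩

theorem zv_inj {a b : G} (ha : a ∈ Z) (hb : b ∈ Z) (hab : h.zv a = h.zv b) : a = b := by
  rw [← h.e_zv ha, ← h.e_zv hb, hab]

/-! ### The functions `[k, w]` -/

/-- the coordinate of `[k, w]` -/
noncomputable def fn (w k : G) : F := h.zv (k * w * k⁻¹ * w⁻¹)

variable {w w' k k' g : G}

include h in
theorem kw_mem (hw : w ∈ ws V Z) (hk : k ∈ kx V Z) : k * w * k⁻¹ * w⁻¹ ∈ Z := (mem_kx.1 hk).2 w hw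

theorem e_fn (hw : w ∈ ws V Z) (hk : k ∈ kx V Z) : h.e (h.fn w k) 0 = k * w * k⁻¹ * w⁻¹ := h.e_zv (h.kw_mem hw hk)

include h in
theorem Z_comm_W {z : G} (hz : z ∈ Z) (hw : w ∈ ws V Z) : w * z = z * w :=
  h.one.comm_W h.one.self.cj hw (h.one.V_le_W h.one.self (h.one.pl.ZV hz))

theorem fn_mul (hw : w ∈ ws V Z) (hw' : w' ∈ ws V Z) (hk : k ∈ kx V Z) : h.fn (w * w') k = h.fn w k + h.fn w' k := by
  have h1 := h.kw_mem hw hk
  have h2 := h.kw_mem hw' hk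
  have h3 : k * (w * w') * k⁻¹ * (w * w')⁻¹ = k * w * k⁻¹ * w⁻¹ * (k * w' * k⁻¹ * w'⁻¹) := by
    calc k * (w * w') * k⁻¹ * (w * w')⁻¹ = k * w * k⁻¹ * w⁻¹ * (w * (k * w' * k⁻¹ * w'⁻¹)) * w⁻¹ := by group
      _ = k * w * k⁻¹ * w⁻¹ * (k * w' * k⁻¹ * w'⁻¹) := by rw [h.Z_comm_W h2 hw]; group
  rw [fn, h3, h.zv_mul h1 h2]
  rfl

theorem fn_mul' (hw : w ∈ ws V Z) (hk : k ∈ kx V Z) (hk' : k' ∈ kx V Z) : h.fn w (k * k') = h.fn w k + h.fn w k' := by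
  have h1 := h.kw_mem hw hk
  have h2 := h.kw_mem hw hk'
  have h3 : k * k' * w * (k * k')⁻¹ * w⁻¹ = k * w * k⁻¹ * w⁻¹ * (k' * w * k'⁻¹ * w⁻¹) := by
    have h4 : k * (k' * w * k'⁻¹ * w⁻¹) = k' * w * k'⁻¹ * w⁻¹ * k := (mem_kx.1 hk).1 _ h2
    have h5 : k * w * k⁻¹ * w⁻¹ * (k' * w * k'⁻¹ * w⁻¹) = k' * w * k'⁻¹ * w⁻¹ * (k * w * k⁻¹ * w⁻¹) :=
      h.one.pl.Vcomm (h.one.pl.ZV h1) (h.one.pl.ZV h2)
    rw [h5]
    calc k * k' * w * (k * k')⁻¹ * w⁻¹ = k * (k' * w * k'⁻¹ * w⁻¹) * w * k⁻¹ * w⁻¹ := by group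
      _ = k' * w * k'⁻¹ * w⁻¹ * (k * w * k⁻¹ * w⁻¹) := by rw [h4]; group
  rw [fn, h3, h.zv_mul h1 h2]
  rfl

theorem fn_eq_zero (hw : w ∈ ws V Z) (hk : k ∈ kx V Z) : h.fn w k = 0 ↔ k * w = w * k := by
  rw [fn, h.zv_eq_zero (h.kw_mem hw hk), mul_inv_eq_one, mul_inv_eq_iff_eq_mul]

theorem fn_one (hk : k ∈ kx V Z) : h.fn 1 k = 0 := (h.fn_eq_zero (one_mem _) hk).2 (by rw [mul_one, one_mul])

theorem fn_one' (hw : w ∈ ws V Z) : h.fn w 1 = 0 := (h.fn_eq_zero hw (one_mem _)).2 (by rw [mul_one, one_mul])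

theorem fn_Z (hw : w ∈ Z) (hk : k ∈ kx V Z) : h.fn w k = 0 :=
  (h.fn_eq_zero (h.one.pl.Z_le_ws hw) hk).2 ((mem_kx.1 hk).1 w hw)

theorem fn_inv (hw : w ∈ ws V Z) : h.fn w⁻¹ k = h.fn w k := by
  rw [h.one.inv_eq_W h.one.self hw]

/-- `g ∈ N_G(Z)` multiplies `Z` by `χ` -/
theorem fn_conj' {χ : F} (hg : ∀ a, g * h.e a 0 * g⁻¹ = h.e (χ * a) 0) (hgZ : g ∈ normalizer (Z : Set G))
    (hw : w ∈ ws V Z) (hk : k ∈ kx V Z) : h.fn (g * w * g⁻¹) k = χ * h.fn w (g⁻¹ * k * g) := by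
  have hk' : g⁻¹ * k * g ∈ kx V Z := by
    have := (mem_normalizer_iff.1 (inv_mem (normalizer_le_kx V Z hgZ)) k).1 hk
    rwa [inv_inv] at this
  have h1 := h.e_fn hw hk'
  have h2 : k * (g * w * g⁻¹) * k⁻¹ * (g * w * g⁻¹)⁻¹ =
      g * (g⁻¹ * k * g * w * (g⁻¹ * k * g)⁻¹ * w⁻¹) * g⁻¹ := by group
  rw [fn, h2, ← h1, hg, h.zv_e]

theorem fn_conj (hg : g ∈ centralizer (Z : Set G)) (hw : w ∈ ws V Z) (hk : k ∈ kx V Z) :
    h.fn (g * w * g⁻¹) k = h.fn w (g⁻¹ * k * g) := by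
  rw [h.fn_conj' (χ := 1) (fun a => ?_) (centralizer_le_normalizer _ hg) hw hk, one_mul]
  rw [one_mul, (mem_centralizer_iff.1 hg _ (h.e_memZ a)).symm, mul_inv_cancel_right]

theorem fn_tor {τ : G} {ζ : F} (hτ : h.Tor τ ζ) (hζ : ζ ≠ 0) (hw : w ∈ ws V Z) (hk : k ∈ kx V Z) :
    h.fn (τ * w * τ⁻¹) k = ζ * h.fn w (τ⁻¹ * k * τ) := by
  refine h.fn_conj' (fun a => ?_) (hτ.norm_Z hζ) hw hk
  rw [hτ.act, mul_zero]

/-- on `V` -/
theorem fn_V (x y : F) (hk : k ∈ kx V Z) : h.fn (h.e x y) k = y * h.fn (h.e 0 1) k := by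
  obtain ⟨t, ht⟩ := h.K_tv hk
  have h1 : ∀ x y, h.fn (h.e x y) k = t * y := by
    intro x y
    rw [fn, ht, h.e_inv, ← h.e_add, CharTwo.add_self_eq_zero, add_right_comm, CharTwo.add_self_eq_zero, zero_add, h.zv_e]
  rw [h1, h1, mul_one, mul_comm]

include h in
theorem W_V (x y : F) : h.e x y ∈ ws V Z := h.one.V_le_W h.one.self (h.e_memV x y)

/-- transitivity on `V / Z` -/
theorem exists_scal {u v : G} (hu : u ∈ V) (huZ : u ∉ Z) (hv : v ∈ V) : ∃ c : F, ∀ k ∈ kx V Z, h.fn v k = c * h.fn u k := by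
  obtain ⟨x, y, rfl⟩ := (h.mem_V u).1 hu
  obtain ⟨x', y', rfl⟩ := (h.mem_V v).1 hv
  have hy : y ≠ 0 := fun e => huZ (h.e_memZ_iff.2 e)
  refine ⟨y' * y⁻¹, fun k hk => ?_⟩
  rw [h.fn_V x' y' hk, h.fn_V x y hk, ← mul_assoc, mul_assoc y', inv_mul_cancel₀ hy, mul_one]

/-- a value of `fn` on `V` -/
theorem exists_fn {v : G} (hv : v ∈ V) (hvZ : v ∉ Z) (c : F) : ∃ k ∈ kx V Z, k ∈ B ∧ h.fn v k = c := by
  obtain ⟨k, hk, hkB, hkv⟩ := h.one.pl.K_act h.one.hf hv hvZ (h.e_memZ c)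
  exact ⟨k, hk, hkB, by rw [fn, hkv, h.zv_e]⟩

/-- **(C)** `W_Z` is closed under scalars -/
theorem exists_smul (c : F) (hw : w ∈ ws V Z) : ∃ w' ∈ ws V Z, ∀ k ∈ kx V Z, h.fn w' k = c * h.fn w k := by
  let D : Subgroup G :=
    { carrier := {w | w ∈ ws V Z ∧ ∃ w' ∈ ws V Z, ∀ k ∈ kx V Z, h.fn w' k = c * h.fn w k}
      one_mem' := ⟨one_mem _, 1, one_mem _, fun k hk => by rw [h.fn_one hk, mul_zero]⟩
      mul_mem' := by
        rintro a b ⟨ha, a', ha', hae⟩ ⟨hb, b', hb', hbe⟩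
        refine ⟨mul_mem ha hb, a' * b', mul_mem ha' hb', fun k hk => ?_⟩
        rw [h.fn_mul ha' hb' hk, h.fn_mul ha hb hk, hae k hk, hbe k hk, mul_add]
      inv_mem' := by
        rintro a ⟨ha, a', ha', hae⟩
        exact ⟨inv_mem ha, a', ha', fun k hk => by rw [h.fn_inv ha, hae k hk]⟩ }
  have hV : V ≤ D := by
    intro v hv
    obtain ⟨x, y, rfl⟩ := (h.mem_V v).1 hv
    refine ⟨h.W_V x y, h.e 0 (c * y), h.W_V _ _, fun k hk => ?_⟩
    rw [h.fn_V 0 (c * y) hk, h.fn_V x y hk, mul_assoc]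
  have hC : centralizer (Z : Set G) ≤ normalizer (D : Set G) := by
    have key : ∀ g ∈ centralizer (Z : Set G), ∀ x ∈ D, g * x * g⁻¹ ∈ D := by
      rintro g hg x ⟨hx, x', hx', hxe⟩
      have hgN := normalizer_le_ws V Z (centralizer_le_normalizer _ hg)
      refine ⟨(mem_normalizer_iff.1 hgN _).1 hx, g * x' * g⁻¹, (mem_normalizer_iff.1 hgN _).1 hx', fun k hk => ?_⟩
      have hk' : g⁻¹ * k * g ∈ kx V Z := by
        have := (mem_normalizer_iff.1 (inv_mem (normalizer_le_kx V Z (centralizer_le_normalizer _ hg))) k).1 hk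
        rwa [inv_inv] at this
      rw [h.fn_conj hg hx' hk, h.fn_conj hg hx hk, hxe _ hk']
    intro g hg
    rw [mem_normalizer_iff]
    intro x
    refine ⟨key g hg x, fun hx => ?_⟩
    have h1 := key g⁻¹ (inv_mem hg) _ hx
    have e : g⁻¹ * (g * x * g⁻¹) * g⁻¹⁻¹ = x := by group
    rwa [e] at h1
  exact (h.W_le_of_V hV hC hw).2

/-! ### `rd` -/

include h in
theorem Z_le_rd : Z ≤ rd V Z := by
  intro z hz
  rw [mem_rd]
  exact ⟨h.one.pl.Z_le_ws hz, fun k hk => (mem_kx.1 hk).1 z hz⟩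

theorem inv_rd : h.Inv (rd V Z) := Inv.of_normZ h.Z_le_rd (norm_rd V Z)

include h in
theorem V_not_le_rd : ¬ V ≤ rd V Z := by
  intro h1
  obtain ⟨v, hv, hvZ⟩ := h.one.pl.exists_out
  obtain ⟨k, hk, -, hkv⟩ := h.exists_fn hv hvZ 1
  have h2 := (h.fn_eq_zero (h.one.V_le_W h.one.self hv) hk).2 ((mem_rd.1 (h1 hv)).2 k hk)
  rw [hkv] at h2
  exact one_ne_zero h2

include h in
theorem rd_inf_I : rd V Z ⊓ IV V Z ≤ Z := h.inv_rd.sub h.V_not_le_rd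

include h in
/-- `[rd, W_Y] ≤ Z` -/
theorem rd_comm {Y : Subgroup G} (hY : Pnt V Z Y) (hYZ : Y ≠ Z) {d u : G} (hd : d ∈ rd V Z) (hu : u ∈ ws V Y) :
    d * u * d⁻¹ * u⁻¹ ∈ Z := h.inv_rd.comm rd_le h.V_not_le_rd hd hY hYZ hu

theorem mem_rd_iff (hw : w ∈ ws V Z) : w ∈ rd V Z ↔ ∀ k ∈ kx V Z, h.fn w k = 0 := by
  rw [mem_rd]
  constructor
  · rintro ⟨-, h1⟩ k hk
    exact (h.fn_eq_zero hw hk).2 (h1 k hk)
  · intro h1
    exact ⟨hw, fun k hk => (h.fn_eq_zero hw hk).1 (h1 k hk)⟩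

/-! ### The `F`-module -/

/-- the image of `W_Z` in the functions on `K_Z` -/
noncomputable def MF : Submodule F (kx V Z → F) where
  carrier := {f | ∃ w ∈ ws V Z, ∀ k : kx V Z, f k = h.fn w k}
  zero_mem' := ⟨1, one_mem _, fun k => (h.fn_one k.2).symm⟩
  add_mem' := by
    rintro f f' ⟨w, hw, hf⟩ ⟨w', hw', hf'⟩
    exact ⟨w * w', mul_mem hw hw', fun k => by rw [h.fn_mul hw hw' k.2, Pi.add_apply, hf, hf']⟩
  smul_mem' := by
    rintro c f ⟨w, hw, hf⟩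
    obtain ⟨w', hw', he⟩ := h.exists_smul c hw
    exact ⟨w', hw', fun k => by rw [he k k.2, Pi.smul_apply, hf, smul_eq_mul]⟩

/-- the element of `MF` given by `w ∈ W_Z` -/
noncomputable def fm (w : ws V Z) : h.MF := ⟨fun k => h.fn w k, w, w.2, fun _ => rfl⟩

theorem fm_apply (w : ws V Z) (k : kx V Z) : (h.fm w : kx V Z → F) k = h.fn w k := rfl

theorem fm_surj (m : h.MF) : ∃ w, h.fm w = m := by
  obtain ⟨f, w, hw, hf⟩ := m
  exact ⟨⟨w, hw⟩, Subtype.ext (funext fun k => (hf k).symm)⟩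

theorem fm_mul (w w' : ws V Z) : h.fm (w * w') = h.fm w + h.fm w' :=
  Subtype.ext (funext fun k => h.fn_mul w.2 w'.2 k.2)

theorem fm_one : h.fm 1 = 0 := Subtype.ext (funext fun k => h.fn_one k.2)

theorem fm_eq_zero (w : ws V Z) : h.fm w = 0 ↔ (w : G) ∈ rd V Z := by
  rw [h.mem_rd_iff w.2]
  constructor
  · intro h1 k hk
    exact congrFun (congrArg Subtype.val h1) ⟨k, hk⟩
  · intro h1
    exact Subtype.ext (funext fun k => h1 k k.2)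

include h in
theorem W_conj (hg : g ∈ normalizer (Z : Set G)) (hw : w ∈ ws V Z) : g * w * g⁻¹ ∈ ws V Z :=
  (mem_normalizer_iff.1 (normalizer_le_ws V Z hg) _).1 hw

include h in
theorem K_conj (hg : g ∈ normalizer (Z : Set G)) (hk : k ∈ kx V Z) : g⁻¹ * k * g ∈ kx V Z := by
  have := (mem_normalizer_iff.1 (inv_mem (normalizer_le_kx V Z hg)) k).1 hk
  rwa [inv_inv] at this

/-- `g ∈ C_G(Z)` acts on `MF` by `(g f)(k) = f(g⁻¹ k g)` -/
noncomputable def rep : Representation F (centralizer (Z : Set G)) h.MF where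
  toFun g :=
    { toFun := fun m => ⟨fun k => (m : kx V Z → F) ⟨(g : G)⁻¹ * k * g, h.K_conj (centralizer_le_normalizer _ g.2) k.2⟩, by
        obtain ⟨f, w, hw, hf⟩ := m
        refine ⟨g * w * (g : G)⁻¹, h.W_conj (centralizer_le_normalizer _ g.2) hw, fun k => ?_⟩
        rw [h.fn_conj g.2 hw k.2]
        exact hf _⟩
      map_add' := fun _ _ => rfl
      map_smul' := fun _ _ => rfl }
  map_one' := by
    refine LinearMap.ext fun m => Subtype.ext (funext fun k => ?_)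
    show (m : kx V Z → F) ⟨((1 : centralizer (Z : Set G)) : G)⁻¹ * k * ((1 : centralizer (Z : Set G)) : G), _⟩ =
      (m : kx V Z → F) k
    exact congrArg (m : kx V Z → F) (Subtype.ext (by simp))
  map_mul' := by
    intro a b
    refine LinearMap.ext fun m => Subtype.ext (funext fun k => ?_)
    show (m : kx V Z → F) ⟨((a * b : centralizer (Z : Set G)) : G)⁻¹ * k * ((a * b : centralizer (Z : Set G)) : G), _⟩ =
      (m : kx V Z → F) ⟨(b : G)⁻¹ * ((a : G)⁻¹ * k * a) * b, _⟩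
    exact congrArg (m : kx V Z → F) (Subtype.ext (by simp [mul_assoc]))

theorem rep_fm (g : centralizer (Z : Set G)) (w : ws V Z) :
    h.rep g (h.fm w) = h.fm ⟨g * w * (g : G)⁻¹, h.W_conj (centralizer_le_normalizer _ g.2) w.2⟩ :=
  Subtype.ext (funext fun k => (h.fn_conj g.2 w.2 k.2).symm)

end Co

end Cfsg.Agent.Omega.NO3S.OneQ

end

section


/-!
# NO-3S, critical distance 1: the base for all flags

* `One.conj`, `One.flag` : every flag `X ≤ L` is as good as `Z ≤ V`;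
* `One.line_eq` : two points lie on at most one line;
* `One.lin_fix` : `b ∈ C_G(X)` commuting with `1 ≠ t ∈ T` centralises the line `L ∋ X, T`;
* `NN V Z` : `{w ∈ W_Z | [w, W_Y] ≤ V} ≤ E_Z`; `One.nn_mem`, `One.nn_dd` for all flags.
-/

set_option autoImplicit false
set_option linter.unusedSectionVars false

namespace Cfsg.Agent.Omega.NO3S.OneQ

open Subgroup Cfsg.Agent.Omega.NO3S.PT Cfsg.Agent.Omega.NoFF.Basic
open scoped Pointwise

variable {G : Type*} [Group G]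

/-- `{w ∈ W_Z | [w, W_Y] ≤ V} ≤ E_Z` -/
def NN (V Z : Subgroup G) : Prop := n0 V Z Z ≤ ee V Z Z

theorem ws_line {V L X : Subgroup G} (hL : IsCj V L) : ws L X = ws V X := by
  obtain ⟨g, rfl⟩ := hL
  exact ws_cj_left V X g

theorem kx_line {V L X : Subgroup G} (hL : IsCj V L) : kx L X = kx V X := by
  obtain ⟨g, rfl⟩ := hL
  exact kx_cj_left V X g

theorem cj_conj_ee {V Z X : Subgroup G} (g : G) : PT.cj g (ee V Z X) = ee (PT.cj g V) Z (PT.cj g X) := by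
  have key : ∀ (g : G) (V X : Subgroup G), PT.cj g (ee V Z X) ≤ ee (PT.cj g V) Z (PT.cj g X) := by
    intro g V X w hw
    rw [mem_cj, mem_ee] at hw
    refine mem_ee.2 ⟨?_, fun Y hY hne => ?_⟩
    · rw [ws_cj_left, ws_cj, mem_cj]; exact hw.1
    · have h1 := hw.2 (PT.cj g⁻¹ Y) ⟨hY.cj.cj g⁻¹, by rw [cj_le_iff, inv_inv]; exact hY.le⟩ (fun e => hne (by
        rw [← e, cj_cj, mul_inv_cancel, cj_one]))
      rw [kx_cj, mem_cj, inv_inv] at h1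
      have e : g * (g⁻¹ * w * g) * g⁻¹ = w := by group
      rwa [e, ← kx_cj_left V Y g] at h1
  refine le_antisymm (key g V X) ?_
  have h1 := key g⁻¹ (PT.cj g V) (PT.cj g X)
  rw [cj_cj, cj_cj, inv_mul_cancel, cj_one, cj_one, cj_le_iff, inv_inv] at h1
  exact h1

theorem cj_conj_dd {V Z X : Subgroup G} (g : G) : PT.cj g (dd V Z X) = dd (PT.cj g V) Z (PT.cj g X) := by
  have key : ∀ (g : G) (V X : Subgroup G), PT.cj g (dd V Z X) ≤ dd (PT.cj g V) Z (PT.cj g X) := by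
    intro g V X w hw
    rw [mem_cj, mem_dd] at hw
    refine mem_dd.2 ⟨?_, fun Y hY hne => ?_⟩
    · rw [ws_cj_left, ws_cj, mem_cj]; exact hw.1
    · have h1 := hw.2 (PT.cj g⁻¹ Y) ⟨hY.cj.cj g⁻¹, by rw [cj_le_iff, inv_inv]; exact hY.le⟩ (fun e => hne (by
        rw [← e, cj_cj, mul_inv_cancel, cj_one]))
      rw [ws_cj, ← cj_centralizer, mem_cj, inv_inv] at h1
      have e : g * (g⁻¹ * w * g) * g⁻¹ = w := by group
      rwa [e, ← ws_cj_left V Y g] at h1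
  refine le_antisymm (key g V X) ?_
  have h1 := key g⁻¹ (PT.cj g V) (PT.cj g X)
  rw [cj_cj, cj_cj, inv_mul_cancel, cj_one, cj_one, cj_le_iff, inv_inv] at h1
  exact h1

namespace One

variable [Finite G] {S : Sylow 2 G} {B P V Z : Subgroup G} (h : One S B P V Z)
include h

/-- everything is invariant under conjugation -/
theorem conj (g : G) : One (g • S) (PT.cj g B) (PT.cj g P) (PT.cj g V) (PT.cj g Z) where
  pl := h.pl.conj g
  hf := PtGeom.hf_conj h.hf g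
  hO := PB.Geom.omB_conj h.hO g
  nc := by
    obtain ⟨Y, hY, hn⟩ := h.nc
    refine ⟨PT.cj g Y, ⟨isCj_cj.2 (hY.cj.cj g), cj_le_cj.2 hY.le⟩, fun e => hn ?_⟩
    rw [ws_cj_left, ws_cj_left, ws_cj, ws_cj, ← cj_centralizer, cj_le_cj] at e
    exact e

/-- every flag is as good as `Z ≤ V` -/
theorem flag {L X : Subgroup G} (hL : IsCj V L) (hX : IsCj Z X) (hXL : X ≤ L) :
    ∃ (T : Sylow 2 G) (C Q : Subgroup G), One T C Q L X := by
  obtain ⟨g, rfl⟩ := hL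
  have h1 : Pnt V Z (PT.cj g⁻¹ X) := ⟨hX.cj g⁻¹, by rw [cj_le_iff, inv_inv]; exact hXL⟩
  obtain ⟨T, C, h'⟩ := h.pt h1
  have h2 := h'.conj g
  rw [cj_cj g g⁻¹, mul_inv_cancel, cj_one] at h2
  exact ⟨_, _, _, h2⟩

theorem pnt_line {L X Y : Subgroup G} (hX : IsCj Z X) (hY : IsCj Z Y) (hYL : Y ≤ L) : Pnt L X Y :=
  (pnt_iff hX).2 ⟨hY, hYL⟩

/-- two points of a line generate it -/
theorem line_mul {L X Y : Subgroup G} (hL : IsCj V L) (hX : IsCj Z X) (hXL : X ≤ L) (hY : IsCj Z Y) (hYL : Y ≤ L)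
    (hne : X ≠ Y) {v : G} (hv : v ∈ L) : ∃ x ∈ X, ∃ y ∈ Y, v = x * y := by
  obtain ⟨T, C', Q, h'⟩ := h.flag hL hX hXL
  exact h'.pl.exists_mul h'.pl.isCj_self hXL (h.pnt_line hX hY hYL).cj hYL hne hv

/-- two points lie on at most one line -/
theorem line_eq {L M X Y : Subgroup G} (hL : IsCj V L) (hM : IsCj V M) (hX : IsCj Z X) (hY : IsCj Z Y)
    (hXL : X ≤ L) (hYL : Y ≤ L) (hXM : X ≤ M) (hYM : Y ≤ M) (hne : X ≠ Y) : L = M := by
  apply le_antisymm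
  · intro v hv
    obtain ⟨x, hx, y, hy, rfl⟩ := h.line_mul hL hX hXL hY hYL hne hv
    exact M.mul_mem (hXM hx) (hYM hy)
  · intro v hv
    obtain ⟨x, hx, y, hy, rfl⟩ := h.line_mul hM hX hXM hY hYM hne hv
    exact L.mul_mem (hXL hx) (hYL hy)

theorem line_le_ws {L X : Subgroup G} (hL : IsCj V L) (hXL : X ≤ L) : L ≤ ws V X := le_ws hL hXL

theorem ws_le_line {L X : Subgroup G} (hL : IsCj V L) (hX : IsCj Z X) (hXL : X ≤ L) :
    ws V X ≤ centralizer (L : Set G) := by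
  intro a ha
  rw [mem_centralizer_iff]
  exact fun v hv => h.comm_W hX (h.line_le_ws hL hXL hv) ha

/-- an element centralising `Z` and one element of `V - Z` centralises `V` -/
theorem lin_base {k v : G} (hk : ∀ z ∈ Z, k * z = z * k) (hv : v ∈ V) (hvZ : v ∉ Z)
    (hkv : k * v = v * k) : k ∈ centralizer (V : Set G) := by
  -- `k` normalises every point `X ≠ Z` of `V`
  have hpt : ∀ X, IsCj Z X → X ≤ V → X ≠ Z → k ∈ normalizer (X : Set G) := by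
    intro X hX hXV hXZ
    obtain ⟨z, hz, x, hx, hzx⟩ := h.pl.exists_mul h.pl.isCj_self h.pl.ZV hX hXV hXZ.symm hv
    have hx1 : x ≠ 1 := by
      rintro rfl
      exact hvZ (by rw [hzx, mul_one]; exact hz)
    refine h.pl.norm_of_comm hX hx hx1 ?_
    have e : x = z⁻¹ * v := by rw [hzx]; group
    rw [e, ← mul_assoc, hk _ (Z.inv_mem hz), mul_assoc, hkv, mul_assoc]
  have key : ∀ u ∈ V, u ∉ Z → k * u = u * k := by
    intro u hu huZ
    have hu1 : u ≠ 1 := fun e => huZ (by rw [e]; exact one_mem _)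
    obtain ⟨X, hX, hXV, huX⟩ := h.pl.exists_point hu hu1
    have hXZ : X ≠ Z := fun e => huZ (e ▸ huX)
    obtain ⟨z, hz, hz1⟩ := h.pl.pt_ne_bot h.pl.isCj_self
    have hzu : z * u ∉ Z := fun e => huZ ((Z.mul_mem_cancel_left hz).1 e)
    have hzu1 : z * u ≠ 1 := fun e => hzu (by rw [e]; exact one_mem _)
    obtain ⟨Y, hY, hYV, huY⟩ := h.pl.exists_point (V.mul_mem (h.pl.ZV hz) hu) hzu1
    have hYZ : Y ≠ Z := fun e => hzu (e ▸ huY)
    have hYX : Y ≠ X := by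
      rintro rfl
      have hzY : z ∈ Y := (Y.mul_mem_cancel_right huX).1 huY
      exact hYZ (h.pl.pts_eq hY h.pl.isCj_self hzY hz hz1)
    have h1 : k * u * k⁻¹ * u⁻¹ ∈ X :=
      X.mul_mem ((mem_normalizer_iff.1 (hpt X hX hXV hXZ) u).1 huX) (X.inv_mem huX)
    have h2 : k * (z * u) * k⁻¹ * (z * u)⁻¹ ∈ Y :=
      Y.mul_mem ((mem_normalizer_iff.1 (hpt Y hY hYV hYZ) _).1 huY) (Y.inv_mem huY)
    have h3 : k * (z * u) * k⁻¹ * (z * u)⁻¹ = k * u * k⁻¹ * u⁻¹ := by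
      have hkuV : k * u * k⁻¹ * u⁻¹ ∈ V := hXV h1
      calc k * (z * u) * k⁻¹ * (z * u)⁻¹ = (k * z) * u * k⁻¹ * (u⁻¹ * z⁻¹) := by group
        _ = z * (k * u * k⁻¹ * u⁻¹) * z⁻¹ := by rw [hk z hz]; group
        _ = k * u * k⁻¹ * u⁻¹ := by rw [h.pl.Vcomm (h.pl.ZV hz) hkuV, mul_inv_cancel_right]
    rw [h3] at h2
    have h4 : k * u * k⁻¹ * u⁻¹ ∈ Y ⊓ X := ⟨h2, h1⟩
    rw [h.pl.pts_inf hY hX hYX, mem_bot, mul_inv_eq_one, mul_inv_eq_iff_eq_mul] at h4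
    exact h4
  rw [mem_centralizer_iff]
  intro u hu
  by_cases huZ : u ∈ Z
  · exact (hk u huZ).symm
  · exact (key u hu huZ).symm

/-- a 2-subgroup of `C_G(Z) / Γ`, normal, `Γ` centralises `V`: it acts trivially on `V / Z` -/
theorem act_of_pCore (Γ : Subgroup (centralizer (Z : Set G))) [Γ.Normal]
    (hΓ : ∀ γ ∈ Γ, (γ : G) ∈ centralizer (V : Set G)) {a : centralizer (Z : Set G)}
    (ha : QuotientGroup.mk' Γ a ∈ pCore 2 (centralizer (Z : Set G) ⧸ Γ)) {v : G} (hv : v ∈ V) :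
    (a : G) * v * (a : G)⁻¹ * v⁻¹ ∈ Z := by
  have h1 : IsPGroup 2 ((B.subgroupOf (centralizer (Z : Set G))).map (QuotientGroup.mk' Γ)) := by
    refine IsPGroup.map ?_ _
    exact h.isP_B.comap_of_injective (centralizer (Z : Set G)).subtype (Subgroup.subtype_injective _)
  have h2 : ¬ 2 ∣ ((B.subgroupOf (centralizer (Z : Set G))).map (QuotientGroup.mk' Γ)).index := by
    intro h3
    refine h.B_index (h3.trans ?_)
    exact Subgroup.index_map_dvd _ (QuotientGroup.mk'_surjective Γ)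
  have h3 := Lib.Cores.pCore_le_sylow (h1.toSylow h2) ha
  change QuotientGroup.mk' Γ a ∈ (B.subgroupOf (centralizer (Z : Set G))).map (QuotientGroup.mk' Γ) at h3
  obtain ⟨b, hb, hba⟩ := mem_map.1 h3
  rw [QuotientGroup.mk'_apply, QuotientGroup.mk'_apply, QuotientGroup.eq] at hba
  have h4 := hΓ _ hba
  have h5 := h.pl.act b (mem_subgroupOf.1 hb) v hv
  have h6 : (a : G) * v * (a : G)⁻¹ = (b : G) * v * (b : G)⁻¹ := by
    have h7 : ((b⁻¹ * a : centralizer (Z : Set G)) : G) * v * ((b⁻¹ * a : centralizer (Z : Set G)) : G)⁻¹ = v := by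
      rw [← mem_centralizer_iff.1 h4 v hv, mul_inv_cancel_right]
    have h8 : (b⁻¹ * a : centralizer (Z : Set G)) = ((b : G)⁻¹ * (a : G)) := rfl
    rw [h8] at h7
    calc (a : G) * v * (a : G)⁻¹ = (b : G) * (((b : G)⁻¹ * (a : G)) * v * ((b : G)⁻¹ * (a : G))⁻¹) * (b : G)⁻¹ := by
          group
      _ = _ := by rw [h7]
  rw [h6]
  exact h5

/-- (LIN) -/
theorem lin_fix {L X T : Subgroup G} (hL : IsCj V L) (hX : IsCj Z X) (hXL : X ≤ L) (hT : IsCj Z T) (hTL : T ≤ L)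
    (hne : X ≠ T) {b t : G} (hb : b ∈ centralizer (X : Set G)) (ht : t ∈ T) (ht1 : t ≠ 1) (hbt : b * t = t * b) :
    b ∈ centralizer (L : Set G) := by
  obtain ⟨S', C', Q, h'⟩ := h.flag hL hX hXL
  refine h'.lin_base (v := t) (fun x hx => (mem_centralizer_iff.1 hb x hx).symm) (hTL ht) ?_ hbt
  exact fun htX => hne (h.pl.pts_eq hX hT htX ht ht1)

theorem W_sq {X : Subgroup G} (hX : IsCj Z X) {a : G} (ha : a ∈ ws V X) : a * a = 1 := PB.Geom.ws_sq_pt h.pl hX a ha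

theorem W_inv {X : Subgroup G} (hX : IsCj Z X) {a : G} (ha : a ∈ ws V X) : a⁻¹ = a :=
  inv_eq_of_mul_eq_one_left (h.W_sq hX ha)

theorem ee_line {L X Y : Subgroup G} (hL : IsCj V L) (hX : IsCj Z X) (hXL : X ≤ L) (hY : IsCj Z Y) (hYL : Y ≤ L)
    (hne : Y ≠ X) : ee L Z X = ws V X ⊓ kx V Y := by
  obtain ⟨S', C', Q, h'⟩ := h.flag hL hX hXL
  have h1 := h'.ee_eq h'.self (h.pnt_line hX hY hYL) hne
  rwa [ee_of hX, ws_line hL, kx_line hL] at h1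

theorem dd_line {L X Y : Subgroup G} (hL : IsCj V L) (hX : IsCj Z X) (hXL : X ≤ L) (hY : IsCj Z Y) (hYL : Y ≤ L)
    (hne : Y ≠ X) : dd L Z X = ws V X ⊓ centralizer ((ws V Y : Subgroup G) : Set G) := by
  obtain ⟨S', C', Q, h'⟩ := h.flag hL hX hXL
  have h1 := h'.dd_eq h'.self (h.pnt_line hX hY hYL) hne
  rwa [dd_of hX, ws_line hL, ws_line hL] at h1

/-- `[E_X(L), W_Y] ≤ Y` -/
theorem ee_line_act {L X Y : Subgroup G} (hL : IsCj V L) (hX : IsCj Z X) (hXL : X ≤ L) (hY : IsCj Z Y) (hYL : Y ≤ L)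
    (hne : Y ≠ X) {w u : G} (hw : w ∈ ee L Z X) (hu : u ∈ ws V Y) : w * u * w⁻¹ * u⁻¹ ∈ Y := by
  rw [h.ee_line hL hX hXL hY hYL hne] at hw
  exact (mem_kx.1 hw.2).2 u hu

/-- `[K_T ∩ C_G(L), E_X(L)] ≤ D_X(L)` -/
theorem kx_dd_line {L X T : Subgroup G} (hL : IsCj V L) (hX : IsCj Z X) (hXL : X ≤ L) (hT : IsCj Z T) (hTL : T ≤ L)
    {k w : G} (hk : k ∈ kx V T) (hkL : k ∈ centralizer (L : Set G)) (hw : w ∈ ee L Z X) :
    k * w * k⁻¹ * w⁻¹ ∈ dd L Z X := by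
  obtain ⟨S', C', Q, h'⟩ := h.flag hL hX hXL
  have h1 := h'.kx_dd h'.self (h.pnt_line hX hT hTL) (by rw [kx_line hL]; exact hk) hkL
    (w := w) (by rw [ee_of hX]; exact hw)
  rwa [dd_of hX] at h1

/-- (FU) -/
theorem F2_line {L X T : Subgroup G} (hL : IsCj V L) (hX : IsCj Z X) (hXL : X ≤ L) (hT : IsCj Z T) (hTL : T ≤ L)
    {u y : G} (hu : u ∈ IV L Z) (huL : u ∉ L) (hy : y ∈ T) :
    ∃ d ∈ kx V T, d ∈ centralizer (L : Set G) ∧ d * u * d⁻¹ * u⁻¹ = y := by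
  obtain ⟨S', C', Q, h'⟩ := h.flag hL hX hXL
  rw [← IV_of hX] at hu
  have h1 := h'.pl.F2' h'.hf h'.hO hu huL (h.pnt_line hX hT hTL).cj hTL hy
  rwa [kx_line hL] at h1

/-- conjugation by `K_X` is transitive on the points of `L` other than `X` -/
theorem move_line {L X A B : Subgroup G} (hL : IsCj V L) (hX : IsCj Z X) (hXL : X ≤ L) (hA : IsCj Z A) (hAL : A ≤ L)
    (hB : IsCj Z B) (hBL : B ≤ L) (hAX : A ≠ X) (hBX : B ≠ X) : ∃ k ∈ kx V X, PT.cj k A = B := by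
  obtain ⟨S', C', Q, h'⟩ := h.flag hL hX hXL
  have h1 := h'.move h'.self (h.pnt_line hX hA hAL) (h.pnt_line hX hB hBL) hAX hBX
  rwa [kx_line hL] at h1

theorem nn_flag (hN : NN V Z) {L X : Subgroup G} (hL : IsCj V L) (hX : IsCj Z X) (hXL : X ≤ L) :
    n0 L Z X ≤ ee L Z X := by
  obtain ⟨g, rfl, rfl⟩ := PB.Geom.exists_conj_flag h.pl hX hL hXL
  intro w hw
  rw [← cj_conj_ee, mem_cj]
  apply hN
  rw [mem_n0] at hw ⊢
  obtain ⟨h1, h2, h3⟩ := hw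
  refine ⟨?_, ?_, fun Y hY u hu => ?_⟩
  · rw [← mem_cj, ← ws_cj]; rwa [ws_cj_left] at h1
  · rwa [← mem_cj, cj_centralizer]
  · have h4 := h3 (PT.cj g Y) ⟨hY.cj.cj g, cj_le_cj.2 hY.le⟩ (g * u * g⁻¹)
      (by rw [ws_cj_left, ws_cj]; exact conj_mem_cj hu)
    rw [mem_cj] at h4
    have e : g⁻¹ * w * g * u * (g⁻¹ * w * g)⁻¹ * u⁻¹ =
      g⁻¹ * (w * (g * u * g⁻¹) * w⁻¹ * (g * u * g⁻¹)⁻¹) * g := by group
    rw [e]; exact h4

/-- (N) for all flags -/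
theorem nn_mem (hN : NN V Z) {L X Y : Subgroup G} (hL : IsCj V L) (hX : IsCj Z X) (hXL : X ≤ L) (hY : IsCj Z Y)
    (hYL : Y ≤ L) (hne : Y ≠ X) {w : G} (hw : w ∈ ws V X) (hwY : ∀ u ∈ ws V Y, w * u * w⁻¹ * u⁻¹ ∈ L) :
    w ∈ ee L Z X := by
  apply h.nn_flag hN hL hX hXL
  obtain ⟨S', C', Q, h'⟩ := h.flag hL hX hXL
  have h1 := h'.n0_eq h'.self (h.pnt_line hX hY hYL) hne (w := w) (by rw [ws_line hL]; exact hw)
    (fun u hu => hwY u (by rwa [ws_line hL] at hu))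
  rwa [n0_of hX] at h1

/-- (N): `[w, W_Y] ≤ X` implies `[w, W_Y] = 1` -/
theorem nn_dd (hN : NN V Z) {L X Y : Subgroup G} (hL : IsCj V L) (hX : IsCj Z X) (hXL : X ≤ L) (hY : IsCj Z Y)
    (hYL : Y ≤ L) (hne : Y ≠ X) {w : G} (hw : w ∈ ws V X) (hwY : ∀ u ∈ ws V Y, w * u * w⁻¹ * u⁻¹ ∈ X) :
    w ∈ dd L Z X := by
  have h1 := h.nn_mem hN hL hX hXL hY hYL hne hw fun u hu => hXL (hwY u hu)
  rw [h.dd_line hL hX hXL hY hYL hne]
  refine ⟨hw, mem_centralizer_iff.2 fun u hu => ?_⟩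
  have h2 : w * u * w⁻¹ * u⁻¹ ∈ X ⊓ Y := ⟨hwY u hu, h.ee_line_act hL hX hXL hY hYL hne h1 hu⟩
  rw [h.pl.pts_inf hX hY hne.symm, mem_bot, mul_inv_eq_one, mul_inv_eq_iff_eq_mul] at h2
  exact h2.symm

/-- `W_X` is not in `D_X(L)` -/
theorem dd_ne_line {L X : Subgroup G} (hL : IsCj V L) (hX : IsCj Z X) (hXL : X ≤ L) : ¬ ws V X ≤ dd L Z X := by
  intro e
  obtain ⟨S', C', Q, h'⟩ := h.flag hL hX hXL
  apply h'.ee_ne h'.self
  refine le_antisymm ee_le ?_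
  rw [ws_line hL]
  refine e.trans ?_
  rw [← dd_of hX]
  exact h'.dd_le_ee h'.self

theorem dd_le_ee_line {L X : Subgroup G} (hL : IsCj V L) (hX : IsCj Z X) (hXL : X ≤ L) : dd L Z X ≤ ee L Z X := by
  obtain ⟨S', C', Q, h'⟩ := h.flag hL hX hXL
  rw [← dd_of hX, ← ee_of hX]
  exact h'.dd_le_ee h'.self

/-- `E = D` for one flag implies `E = D` for all flags -/
theorem ee_le_dd_flag {L M X Y : Subgroup G} (hL : IsCj V L) (hX : IsCj Z X) (hXL : X ≤ L) (hM : IsCj V M) (hY : IsCj Z Y)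
    (hYM : Y ≤ M) (he : ee L Z X ≤ dd L Z X) : ee M Z Y ≤ dd M Z Y := by
  obtain ⟨g, rfl, rfl⟩ := PB.Geom.exists_conj_flag h.pl hX hL hXL
  obtain ⟨k, rfl, rfl⟩ := PB.Geom.exists_conj_flag h.pl hY hM hYM
  rw [← cj_conj_ee, ← cj_conj_dd, cj_le_cj] at he ⊢
  exact he

end One

end Cfsg.Agent.Omega.NO3S.OneQ

end

section


/-!
# NO-3S, critical distance 1: LEMMA PLANE for `q ≥ 4` (bb OMEGA #17961, section 5)

`Pla V Z Q` : `Q` is a plane (points and lines in `Q` are the points and lines of a projective plane), the image of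
`W_Y` in `C_X / K_X` is the same for all points `Y ≠ X` of `Q`, and `W_X = E_X(L) E_X(M)` for lines `L ≠ M` of `Q` on `X`.

* `Pla.dd_cent` : `D_X(L)` centralises `W_Y` for all points `Y` of `Q`;
* `Pla.comm_mem` : `[W_X, W_Y] ≤ Q`;
* `Pla.cent_W` (5.3) : `j = w_T w_R⁻¹` centralises `W_X`, `X` not on the line `TR`;
* `Pla.exists_comm` (5.4) : `[j, j'] ∈ T`, `≠ 1`.
-/

set_option autoImplicit false
set_option linter.unusedSectionVars false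

namespace Cfsg.Agent.Omega.NO3S.OneQ

open Subgroup Cfsg.Agent.Omega.NO3S.PT Cfsg.Agent.Omega.NoFF.Basic
open scoped Pointwise

variable {G : Type*} [Group G]

/-- **a plane** -/
structure Plg (V Z Q : Subgroup G) : Prop where
  ln : ∃ L, IsCj V L ∧ L ≤ Q
  leW : ∀ X, IsCj Z X → X ≤ Q → Q ≤ ws V X
  cov : ∀ u ∈ Q, u ≠ 1 → ∃ X, IsCj Z X ∧ X ≤ Q ∧ u ∈ X
  col : ∀ X Y, IsCj Z X → IsCj Z Y → X ≤ Q → Y ≤ Q → X ≠ Y → ∃ L, IsCj V L ∧ L ≤ Q ∧ X ≤ L ∧ Y ≤ L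
  meet : ∀ L M, IsCj V L → IsCj V M → L ≤ Q → M ≤ Q → ∃ X, IsCj Z X ∧ X ≤ L ∧ X ≤ M
  out : ∀ L, IsCj V L → L ≤ Q → ∃ X, IsCj Z X ∧ X ≤ Q ∧ ¬ X ≤ L

/-- **a plane** on which all the groups `W_Y` have the same image in `C_X / K_X` -/
structure Pla (V Z Q : Subgroup G) : Prop extends Plg V Z Q where
  img : ∀ X Y T, IsCj Z X → IsCj Z Y → IsCj Z T → X ≤ Q → Y ≤ Q → T ≤ Q → Y ≠ X → T ≠ X →
    ∀ a ∈ ws V Y, ∃ b ∈ ws V T, ∃ k ∈ kx V X, a = b * k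
  spl : ∀ X L M, IsCj Z X → IsCj V L → IsCj V M → L ≤ Q → M ≤ Q → X ≤ L → X ≤ M → L ≠ M →
    ∀ a ∈ ws V X, ∃ b ∈ ee L Z X, ∃ c ∈ ee M Z X, a = b * c

theorem Plg.cj {V Z Q : Subgroup G} (hp : Plg V Z Q) (g : G) : Plg V Z (PT.cj g Q) := by
  have hinv : ∀ {X : Subgroup G}, X ≤ PT.cj g Q → PT.cj g⁻¹ X ≤ Q := fun {X} hX => by
    rw [cj_le_iff, inv_inv]; exact hX
  have hle : ∀ {X Y : Subgroup G}, PT.cj g⁻¹ X ≤ Y → X ≤ PT.cj g Y := fun {X Y} hX => by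
    rw [cj_le_iff, inv_inv] at hX; exact hX
  have hne : ∀ {X Y : Subgroup G}, X ≠ Y → PT.cj g⁻¹ X ≠ PT.cj g⁻¹ Y := fun {X Y} hXY e => hXY (cj_inj.1 e)
  have hback : ∀ (a : G), g * (g⁻¹ * a * g) * g⁻¹ = a := fun a => by group
  constructor
  · obtain ⟨L, hL, hLQ⟩ := hp.ln
    exact ⟨PT.cj g L, hL.cj g, cj_le_cj.2 hLQ⟩
  · intro X hX hXQ
    have h1 := hp.leW _ (hX.cj g⁻¹) (hinv hXQ)
    rwa [ws_cj, le_cj_iff, inv_inv] at h1
  · intro u hu hu1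
    obtain ⟨X, hX, hXQ, huX⟩ := hp.cov (g⁻¹ * u * g) (mem_cj.1 hu) (fun e => hu1 (by rw [← hback u, e]; group))
    exact ⟨PT.cj g X, hX.cj g, cj_le_cj.2 hXQ, mem_cj.2 huX⟩
  · intro X Y hX hY hXQ hYQ hXY
    obtain ⟨L, hL, hLQ, hXL, hYL⟩ := hp.col _ _ (hX.cj g⁻¹) (hY.cj g⁻¹) (hinv hXQ) (hinv hYQ) (hne hXY)
    exact ⟨PT.cj g L, hL.cj g, cj_le_cj.2 hLQ, hle hXL, hle hYL⟩
  · intro L M hL hM hLQ hMQ
    obtain ⟨X, hX, hXL, hXM⟩ := hp.meet _ _ (hL.cj g⁻¹) (hM.cj g⁻¹) (hinv hLQ) (hinv hMQ)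
    refine ⟨PT.cj g X, hX.cj g, ?_, ?_⟩
    · rw [cj_le_iff]; exact hXL
    · rw [cj_le_iff]; exact hXM
  · intro L hL hLQ
    obtain ⟨X, hX, hXQ, hXL⟩ := hp.out _ (hL.cj g⁻¹) (hinv hLQ)
    refine ⟨PT.cj g X, hX.cj g, cj_le_cj.2 hXQ, fun e => hXL ?_⟩
    rwa [cj_le_iff] at e

theorem Pla.cj {V Z Q : Subgroup G} (hp : Pla V Z Q) (g : G) : Pla V Z (PT.cj g Q) := by
  have hinv : ∀ {X : Subgroup G}, X ≤ PT.cj g Q → PT.cj g⁻¹ X ≤ Q := fun {X} hX => by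
    rw [cj_le_iff, inv_inv]; exact hX
  have hne : ∀ {X Y : Subgroup G}, X ≠ Y → PT.cj g⁻¹ X ≠ PT.cj g⁻¹ Y := fun {X Y} hXY e => hXY (cj_inj.1 e)
  have hback : ∀ (a : G), g * (g⁻¹ * a * g) * g⁻¹ = a := fun a => by group
  refine ⟨hp.toPlg.cj g, ?_, ?_⟩
  · intro X Y T hX hY hT hXQ hYQ hTQ hYX hTX a ha
    obtain ⟨b, hb, k, hk, e⟩ := hp.img _ _ _ (hX.cj g⁻¹) (hY.cj g⁻¹) (hT.cj g⁻¹) (hinv hXQ) (hinv hYQ) (hinv hTQ)
      (hne hYX) (hne hTX) (g⁻¹ * a * g) (by rw [ws_cj, mem_cj, inv_inv, hback]; exact ha)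
    refine ⟨g * b * g⁻¹, ?_, g * k * g⁻¹, ?_, ?_⟩
    · rwa [ws_cj, mem_cj, inv_inv] at hb
    · rwa [kx_cj, mem_cj, inv_inv] at hk
    · rw [← hback a, e]; group
  · intro X L M hX hL hM hLQ hMQ hXL hXM hLM a ha
    obtain ⟨b, hb, k, hk, e⟩ := hp.spl (PT.cj g⁻¹ X) (PT.cj g⁻¹ L) (PT.cj g⁻¹ M) (hX.cj g⁻¹) (hL.cj g⁻¹) (hM.cj g⁻¹)
      (hinv hLQ) (hinv hMQ) (cj_le_cj.2 hXL) (cj_le_cj.2 hXM) (hne hLM) (g⁻¹ * a * g)
      (by rw [ws_cj, mem_cj, inv_inv, hback]; exact ha)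
    refine ⟨g * b * g⁻¹, ?_, g * k * g⁻¹, ?_, ?_⟩
    · rwa [← cj_conj_ee, mem_cj, inv_inv] at hb
    · rwa [← cj_conj_ee, mem_cj, inv_inv] at hk
    · rw [← hback a, e]; group

/-- the group generated by the `W_X`, `X` in `Q` -/
def fq (V Z Q : Subgroup G) : Subgroup G := sSup {W | ∃ X, IsCj Z X ∧ X ≤ Q ∧ W = ws V X}

/-- the group generated by the centralisers in `W_X` of all `W_Y`, `X`, `Y` in `Q` -/
def dq (V Z Q : Subgroup G) : Subgroup G :=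
  sSup {D | ∃ X, IsCj Z X ∧ X ≤ Q ∧ D = ws V X ⊓ centralizer ((fq V Z Q : Subgroup G) : Set G)}

theorem ws_le_fq {V Z Q X : Subgroup G} (hX : IsCj Z X) (hXQ : X ≤ Q) : ws V X ≤ fq V Z Q :=
  le_sSup ⟨X, hX, hXQ, rfl⟩

theorem dq_le_fq {V Z Q : Subgroup G} : dq V Z Q ≤ fq V Z Q := by
  refine sSup_le ?_
  rintro _ ⟨X, hX, hXQ, rfl⟩
  exact inf_le_left.trans (ws_le_fq hX hXQ)

theorem dq_le_cent {V Z Q : Subgroup G} : dq V Z Q ≤ centralizer ((fq V Z Q : Subgroup G) : Set G) := by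
  refine sSup_le ?_
  rintro _ ⟨X, hX, hXQ, rfl⟩
  exact inf_le_right

theorem mem_cent_fq {V Z Q : Subgroup G} {d : G} :
    d ∈ centralizer ((fq V Z Q : Subgroup G) : Set G) ↔ ∀ X, IsCj Z X → X ≤ Q → ∀ b ∈ ws V X, d * b = b * d := by
  constructor
  · intro hd X hX hXQ b hb
    exact (mem_centralizer_iff.1 hd b (ws_le_fq hX hXQ hb)).symm
  · intro hd
    have h1 : fq V Z Q ≤ centralizer ({d} : Set G) := by
      refine sSup_le ?_
      rintro _ ⟨X, hX, hXQ, rfl⟩ b hb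
      rw [mem_centralizer_singleton_iff]
      exact (hd X hX hXQ b hb).symm
    rw [mem_centralizer_iff]
    exact fun b hb => mem_centralizer_singleton_iff.1 (h1 hb)

namespace Pla

variable [Finite G] {S : Sylow 2 G} {B P V Z : Subgroup G} (h : One S B P V Z)
include h

/-- `Q` centralises every `W_X` -/
theorem Q_comm {Q : Subgroup G} (hp : Pla V Z Q) {X : Subgroup G} (hX : IsCj Z X) (hXQ : X ≤ Q) {u w : G}
    (hu : u ∈ Q) (hw : w ∈ ws V X) : u * w = w * u := h.comm_W hX (hp.leW X hX hXQ hu) hw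

theorem Q_le_cent {Q : Subgroup G} (hp : Pla V Z Q) : Q ≤ centralizer ((fq V Z Q : Subgroup G) : Set G) :=
  fun _ hu => mem_cent_fq.2 fun _ hX hXQ _ hb => hp.Q_comm h hX hXQ hu hb

/-- for a point `X` of `Q` and a line `L` there is another line on `X` -/
theorem exists_line {Q : Subgroup G} (hp : Pla V Z Q) {X L : Subgroup G} (hX : IsCj Z X) (hL : IsCj V L)
    (hLQ : L ≤ Q) (hXL : X ≤ L) : ∃ M, IsCj V M ∧ M ≤ Q ∧ X ≤ M ∧ M ≠ L := by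
  obtain ⟨R, hR, hRQ, hRL⟩ := hp.out L hL hLQ
  obtain ⟨M, hM, hMQ, hXM, hRM⟩ := hp.col X R hX hR (hXL.trans hLQ) hRQ (fun e => hRL (e ▸ hXL))
  exact ⟨M, hM, hMQ, hXM, fun e => hRL (e ▸ hRM)⟩

/-- a second point on a line -/
theorem exists_pt {L X : Subgroup G} (hL : IsCj V L) (hX : IsCj Z X) (hXL : X ≤ L) :
    ∃ Y, IsCj Z Y ∧ Y ≤ L ∧ Y ≠ X := by
  obtain ⟨S', C', Q', h'⟩ := h.flag hL hX hXL
  obtain ⟨Y, hY, hne⟩ := h'.exists_ne h'.self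
  exact ⟨Y, ((pnt_iff hX).1 hY).cj, hY.le, hne⟩

/-- a third point on a line -/
theorem exists_pt3 {L X Y : Subgroup G} (hL : IsCj V L) (hX : IsCj Z X) (hXL : X ≤ L) (hY : IsCj Z Y) (hYL : Y ≤ L)
    (hne : X ≠ Y) : ∃ T, IsCj Z T ∧ T ≤ L ∧ T ≠ X ∧ T ≠ Y := by
  obtain ⟨S', C', Q', h'⟩ := h.flag hL hX hXL
  obtain ⟨T, hT, hTL, h1, h2⟩ := h'.pl.exists_third h'.pl.isCj_self hXL (h.pnt_line hX hY hYL).cj hYL hne
  exact ⟨T, ((pnt_iff hX).1 ⟨hT, hTL⟩).cj, hTL, h1, h2⟩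

/-- two lines on `T` avoiding `X` -/
theorem exists_two {Q : Subgroup G} (hp : Pla V Z Q) {X T : Subgroup G} (hX : IsCj Z X) (hT : IsCj Z T)
    (hXQ : X ≤ Q) (hTQ : T ≤ Q) (hne : T ≠ X) :
    ∃ M N, IsCj V M ∧ IsCj V N ∧ M ≤ Q ∧ N ≤ Q ∧ T ≤ M ∧ T ≤ N ∧ M ≠ N ∧ ¬ X ≤ M ∧ ¬ X ≤ N := by
  obtain ⟨L, hL, hLQ, hTL, hXL⟩ := hp.col T X hT hX hTQ hXQ hne
  obtain ⟨R, hR, hRQ, hRL⟩ := hp.out L hL hLQ
  have hRT : R ≠ T := fun e => hRL (e ▸ hTL)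
  have hRX : R ≠ X := fun e => hRL (e ▸ hXL)
  obtain ⟨M, hM, hMQ, hTM, hRM⟩ := hp.col T R hT hR hTQ hRQ hRT.symm
  have hXM : ¬ X ≤ M := fun e => hRL (by rw [h.line_eq hL hM hT hX hTL hXL hTM e hne]; exact hRM)
  obtain ⟨A, hA, hAQ, hRA, hXA⟩ := hp.col R X hR hX hRQ hXQ hRX
  obtain ⟨B, hB, hBA, hBR, hBX⟩ := exists_pt3 h hA hR hRA hX hXA hRX
  have hBT : B ≠ T := by
    rintro rfl
    exact hRL (by rw [h.line_eq hL hA hB hX hTL hXL hBA hXA hBX]; exact hRA)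
  obtain ⟨N, hN, hNQ, hTN, hBN⟩ := hp.col T B hT hB hTQ (hBA.trans hAQ) hBT.symm
  refine ⟨M, N, hM, hN, hMQ, hNQ, hTM, hTN, ?_, hXM, ?_⟩
  · rintro rfl
    have h1 := h.line_eq hM hA hR hB hRM hBN hRA hBA hBR.symm
    exact hXM (h1 ▸ hXA)
  · intro hXN
    have h1 := h.line_eq hN hA hB hX hBN hXN hBA hXA hBX
    have h2 := h.line_eq hL hA hT hX hTL hXL (h1 ▸ hTN) hXA hne
    exact hRL (h2 ▸ hRA)

/-- `D_X(L)` centralises all `W_Y` -/
theorem dd_cent {Q : Subgroup G} (hp : Pla V Z Q) (hN : NN V Z) {X L : Subgroup G} (hX : IsCj Z X) (hL : IsCj V L)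
    (hLQ : L ≤ Q) (hXL : X ≤ L) {d : G} (hd : d ∈ dd L Z X) : d ∈ centralizer ((fq V Z Q : Subgroup G) : Set G) := by
  have hXQ := hXL.trans hLQ
  rw [mem_cent_fq]
  intro R hR hRQ b hb
  obtain ⟨Y, hY, hYL, hYX⟩ := exists_pt h hL hX hXL
  have hdW : d ∈ ws V X := by
    have := dd_le hd
    rwa [ws_line hL] at this
  by_cases hRX : R = X
  · subst hRX
    exact h.comm_W hX hdW hb
  obtain ⟨M, hM, hMQ, hXM, hRM⟩ := hp.col X R hX hR hXQ hRQ (Ne.symm hRX)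
  have h1 : d ∈ dd M Z X := by
    refine h.nn_dd hN hM hX hXM hR hRM hRX hdW fun u hu => ?_
    obtain ⟨u', hu', k, hk, rfl⟩ := hp.img X R Y hX hR hY hXQ hRQ (hYL.trans hLQ) hRX hYX u hu
    rw [h.dd_line hL hX hXL hY hYL hYX] at hd
    have h2 : d * u' = u' * d := (mem_centralizer_iff.1 hd.2 u' hu').symm
    have h3 : k * d * k⁻¹ * d⁻¹ ∈ X := (mem_kx.1 hk).2 d hdW
    have h4 : d * (u' * k) * d⁻¹ * (u' * k)⁻¹ = u' * (k * d * k⁻¹ * d⁻¹)⁻¹ * u'⁻¹ := by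
      calc d * (u' * k) * d⁻¹ * (u' * k)⁻¹ = (d * u') * k * d⁻¹ * k⁻¹ * u'⁻¹ := by group
        _ = u' * (k * d * k⁻¹ * d⁻¹)⁻¹ * u'⁻¹ := by rw [h2]; group
    rw [h4]
    have h5 : u' ∈ centralizer (L : Set G) := h.ws_le_line hL hY hYL hu'
    have h6 : (k * d * k⁻¹ * d⁻¹)⁻¹ ∈ X := inv_mem h3
    have h7 := mem_centralizer_iff.1 h5 _ (hXL h6)
    rw [← h7, mul_inv_cancel_right]
    exact h6
  rw [h.dd_line hM hX hXM hR hRM hRX] at h1
  exact (mem_centralizer_iff.1 h1.2 b hb).symm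

theorem dd_le_dq {Q : Subgroup G} (hp : Pla V Z Q) (hN : NN V Z) {X L : Subgroup G} (hX : IsCj Z X) (hL : IsCj V L)
    (hLQ : L ≤ Q) (hXL : X ≤ L) : dd L Z X ≤ dq V Z Q := by
  intro d hd
  refine (le_sSup (a := ws V X ⊓ centralizer ((fq V Z Q : Subgroup G) : Set G)) ?_ :
    ws V X ⊓ centralizer ((fq V Z Q : Subgroup G) : Set G) ≤ dq V Z Q) ⟨?_, hp.dd_cent h hN hX hL hLQ hXL hd⟩
  · exact ⟨X, hX, hXL.trans hLQ, rfl⟩
  · have := dd_le hd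
    rwa [ws_line hL] at this

/-- `[E_X(M), W_Y] ≤ M` for all `Y ≠ X` of `Q` -/
theorem ee_mem {Q : Subgroup G} (hp : Pla V Z Q) {X M Y : Subgroup G} (hX : IsCj Z X) (hM : IsCj V M)
    (hMQ : M ≤ Q) (hXM : X ≤ M) (hY : IsCj Z Y) (hYQ : Y ≤ Q) (hne : Y ≠ X) {e u : G} (he : e ∈ ee M Z X)
    (hu : u ∈ ws V Y) : e * u * e⁻¹ * u⁻¹ ∈ M := by
  have hXQ := hXM.trans hMQ
  obtain ⟨T, hT, hTM, hTX⟩ := exists_pt h hM hX hXM
  have heW : e ∈ ws V X := by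
    have := ee_le he
    rwa [ws_line hM] at this
  obtain ⟨t, ht, k, hk, rfl⟩ := hp.img X Y T hX hY hT hXQ hYQ (hTM.trans hMQ) hne hTX u hu
  have h1 := h.ee_line_act hM hX hXM hT hTM hTX he ht
  have h2 : e * k * e⁻¹ * k⁻¹ ∈ X := by
    have h3 := inv_mem ((mem_kx.1 hk).2 e heW)
    have e1 : (k * e * k⁻¹ * e⁻¹)⁻¹ = e * k * e⁻¹ * k⁻¹ := by group
    rwa [e1] at h3
  have h4 : t ∈ centralizer (M : Set G) := h.ws_le_line hM hT hTM ht
  have h5 : e * (t * k) * e⁻¹ * (t * k)⁻¹ = (e * t * e⁻¹ * t⁻¹) * (t * (e * k * e⁻¹ * k⁻¹) * t⁻¹) := by group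
  rw [h5, ← mem_centralizer_iff.1 h4 _ (hXM h2), mul_inv_cancel_right]
  exact M.mul_mem (hTM h1) (hXM h2)

/-- `[W_X, W_Y] ≤ Q` -/
theorem comm_mem {Q : Subgroup G} (hp : Pla V Z Q) {X Y : Subgroup G} (hX : IsCj Z X) (hXQ : X ≤ Q)
    (hY : IsCj Z Y) (hYQ : Y ≤ Q) {a b : G} (ha : a ∈ ws V X) (hb : b ∈ ws V Y) : a * b * a⁻¹ * b⁻¹ ∈ Q := by
  by_cases hYX : Y = X
  · subst hYX
    have : a * b * a⁻¹ * b⁻¹ = 1 := by rw [h.comm_W hY ha hb]; group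
    rw [this]; exact one_mem _
  obtain ⟨L, hL, hLQ, hXL, hYL⟩ := hp.col X Y hX hY hXQ hYQ (Ne.symm hYX)
  obtain ⟨M, hM, hMQ, hXM, hML⟩ := hp.exists_line h hX hL hLQ hXL
  obtain ⟨e, he, f, hf, rfl⟩ := hp.spl X L M hX hL hM hLQ hMQ hXL hXM hML.symm a ha
  have h1 := hLQ (hp.ee_mem h hX hL hLQ hXL hY hYQ hYX he hb)
  have h2 := hMQ (hp.ee_mem h hX hM hMQ hXM hY hYQ hYX hf hb)
  have heW : e ∈ ws V X := by
    have := ee_le he
    rwa [ws_line hL] at this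
  have h3 : e * f * b * (e * f)⁻¹ * b⁻¹ = (e * (f * b * f⁻¹ * b⁻¹) * e⁻¹) * (e * b * e⁻¹ * b⁻¹) := by group
  rw [h3, ← hp.Q_comm h hX hXQ h2 heW, mul_inv_cancel_right]
  exact Q.mul_mem h2 h1

/-- (5.3), first step: `[W_X, w_T] ≤ l ∩ m` -/
theorem comm_inf {Q : Subgroup G} (hp : Pla V Z Q) {X T L M s : Subgroup G} (hX : IsCj Z X) (hT : IsCj Z T)
    (hL : IsCj V L) (hM : IsCj V M) (hLQ : L ≤ Q) (hMQ : M ≤ Q) (hXL : X ≤ L) (hTM : T ≤ M) (hXM : ¬ X ≤ M)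
    (hs : IsCj Z s) (hsL : s ≤ L) (hsM : s ≤ M) {w t : G} (hw : w ∈ ee L Z X) (ht : t ∈ ee M Z T) :
    w * t * w⁻¹ * t⁻¹ ∈ s := by
  have hTX : T ≠ X := fun e => hXM (e ▸ hTM)
  have htW : t ∈ ws V T := by
    have := ee_le ht
    rwa [ws_line hM] at this
  have hwW : w ∈ ws V X := by
    have := ee_le hw
    rwa [ws_line hL] at this
  have h1 := hp.ee_mem h hX hL hLQ hXL hT (hTM.trans hMQ) hTX hw htW
  have h2 := inv_mem (hp.ee_mem h hT hM hMQ hTM hX (hXL.trans hLQ) hTX.symm ht hwW)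
  have e1 : (t * w * t⁻¹ * w⁻¹)⁻¹ = w * t * w⁻¹ * t⁻¹ := by group
  rw [e1] at h2
  have hne : L ≠ M := fun e => hXM (e ▸ hXL)
  set c := w * t * w⁻¹ * t⁻¹ with hc
  by_cases hc1 : c = 1
  · rw [hc1]; exact one_mem _
  obtain ⟨S', C', Q', h'⟩ := h.flag hL hX hXL
  obtain ⟨A, hA, hAL, hcA⟩ := h'.pl.exists_point h1 hc1
  obtain ⟨S'', C'', Q'', h''⟩ := h.flag hM hT hTM
  obtain ⟨B, hB, hBM, hcB⟩ := h''.pl.exists_point h2 hc1
  have hA' := ((pnt_iff hX).1 ⟨hA, hAL⟩).cj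
  have hB' := ((pnt_iff hT).1 ⟨hB, hBM⟩).cj
  have hAB : A = B := h.pl.pts_eq hA' hB' hcA hcB hc1
  by_contra hcs
  have hAs : A ≠ s := fun e => hcs (e ▸ hcA)
  exact hne (h.line_eq hL hM hA' hs hAL hsL (hAB ▸ hBM) hsM hAs)

/-- (5.3) `j = w_T w_R⁻¹ ∈ K_X` centralises `W_X`, `X` not on the line `M ∋ T, R` -/
theorem cent_W {Q : Subgroup G} (hp : Pla V Z Q) {X T R M : Subgroup G} (hX : IsCj Z X) (hT : IsCj Z T)
    (hR : IsCj Z R) (hM : IsCj V M) (hXQ : X ≤ Q) (hMQ : M ≤ Q) (hTM : T ≤ M) (hRM : R ≤ M) (hXM : ¬ X ≤ M)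
    {t r : G} (ht : t ∈ ee M Z T) (hr : r ∈ ee M Z R) (hj : t * r⁻¹ ∈ kx V X) {w : G} (hw : w ∈ ws V X) :
    t * r⁻¹ * w = w * (t * r⁻¹) := by
  have hTX : T ≠ X := fun e => hXM (e ▸ hTM)
  obtain ⟨L, hL, hLQ, hXL, hTL⟩ := hp.col X T hX hT hXQ (hTM.trans hMQ) hTX.symm
  obtain ⟨L', hL', hLQ', hXL', hLL⟩ := hp.exists_line h hX hL hLQ hXL
  have htW : t ∈ ws V T := by
    have := ee_le ht
    rwa [ws_line hM] at this
  have hrW : r ∈ ws V R := by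
    have := ee_le hr
    rwa [ws_line hM] at this
  -- `e ∈ E_X(l)` commutes with `j`
  have key : ∀ l, IsCj V l → l ≤ Q → X ≤ l → ∀ e ∈ ee l Z X, t * r⁻¹ * e = e * (t * r⁻¹) := by
    intro l hl hlQ hXl e he
    obtain ⟨s, hs, hsl, hsM⟩ := hp.meet l M hl hM hlQ hMQ
    have hsX : s ≠ X := fun e => hXM (e ▸ hsM)
    have heW : e ∈ ws V X := by
      have := ee_le he
      rwa [ws_line hl] at this
    have h1 := hp.comm_inf h hX hT hl hM hlQ hMQ hXl hTM hXM hs hsl hsM he ht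
    have h2 := hp.comm_inf h hX hR hl hM hlQ hMQ hXl hRM hXM hs hsl hsM he hr
    have h2Q : e * r * e⁻¹ * r⁻¹ ∈ Q := (hsl.trans hlQ) h2
    have h3 : e * (t * r⁻¹) * e⁻¹ * (t * r⁻¹)⁻¹ = (e * t * e⁻¹ * t⁻¹) * (e * r * e⁻¹ * r⁻¹)⁻¹ := by
      have h4 : e * (t * r⁻¹) * e⁻¹ * (t * r⁻¹)⁻¹ =
        (e * t * e⁻¹ * t⁻¹) * (t * (r⁻¹ * (e * r * e⁻¹ * r⁻¹)⁻¹ * r) * t⁻¹) := by group
      have hc : ∀ {R' : Subgroup G}, IsCj Z R' → R' ≤ Q → ∀ w ∈ ws V R',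
          w * (e * r * e⁻¹ * r⁻¹)⁻¹ * w⁻¹ = (e * r * e⁻¹ * r⁻¹)⁻¹ := by
        intro R' hR' hRQ' w hw
        rw [← hp.Q_comm h hR' hRQ' (inv_mem h2Q) hw, mul_inv_cancel_right]
      have h5 := hc hR (hRM.trans hMQ) r⁻¹ (inv_mem hrW)
      rw [inv_inv] at h5
      rw [h4, h5, hc hT (hTM.trans hMQ) t htW]
    have h6 : e * (t * r⁻¹) * e⁻¹ * (t * r⁻¹)⁻¹ ∈ s := by
      rw [h3]; exact s.mul_mem h1 (s.inv_mem h2)
    have h7 : e * (t * r⁻¹) * e⁻¹ * (t * r⁻¹)⁻¹ ∈ X := by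
      have h8 := inv_mem ((mem_kx.1 hj).2 e heW)
      have e1 : (t * r⁻¹ * e * (t * r⁻¹)⁻¹ * e⁻¹)⁻¹ = e * (t * r⁻¹) * e⁻¹ * (t * r⁻¹)⁻¹ := by group
      rwa [e1] at h8
    have h8 : e * (t * r⁻¹) * e⁻¹ * (t * r⁻¹)⁻¹ ∈ s ⊓ X := ⟨h6, h7⟩
    rw [h.pl.pts_inf hs hX hsX, mem_bot, mul_inv_eq_one, mul_inv_eq_iff_eq_mul] at h8
    exact h8.symm
  obtain ⟨e, he, f, hf, rfl⟩ := hp.spl X L L' hX hL hL' hLQ hLQ' hXL hXL' hLL.symm w hw
  rw [← mul_assoc (t * r⁻¹), key L hL hLQ hXL e he, mul_assoc e, key L' hL' hLQ' hXL' f hf, mul_assoc]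

theorem Q_le_IV {Q : Subgroup G} (hp : Pla V Z Q) {M : Subgroup G} (hM : IsCj V M) (hMQ : M ≤ Q) : Q ≤ IV M Z := by
  refine le_sInf ?_
  rintro _ ⟨Y, hY, hYM, rfl⟩
  rw [ws_line hM]
  exact hp.leW Y hY (hYM.trans hMQ)

/-- a point which meets a line lies on it -/
theorem pt_le {M X : Subgroup G} (hM : IsCj V M) (hX : IsCj Z X) {u : G} (hu : u ∈ X) (hu1 : u ≠ 1) (huM : u ∈ M) :
    X ≤ M := by
  obtain ⟨g, rfl⟩ := hM
  have hT : IsCj Z (PT.cj g Z) := ⟨g, rfl⟩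
  obtain ⟨S', C', Q', h'⟩ := h.flag ⟨g, rfl⟩ hT (cj_le_cj.2 h.pl.ZV)
  obtain ⟨A, hA, hAL, huA⟩ := h'.pl.exists_point huM hu1
  have h1 := h.pl.pts_eq hX ((pnt_iff hT).1 ⟨hA, hAL⟩).cj hu huA hu1
  rw [h1]; exact hAL

/-- (5.3) `j` centralises `W_Y` for all `Y` of `Q` which are not on `M` -/
theorem cent_all {Q : Subgroup G} (hp : Pla V Z Q) (hN : NN V Z) {X T R M : Subgroup G} (hX : IsCj Z X)
    (hT : IsCj Z T) (hR : IsCj Z R) (hM : IsCj V M) (hXQ : X ≤ Q) (hMQ : M ≤ Q) (hTM : T ≤ M) (hRM : R ≤ M)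
    (hXM : ¬ X ≤ M) {t r : G} (ht : t ∈ ee M Z T) (hr : r ∈ ee M Z R) (hj : t * r⁻¹ ∈ kx V X) {Y : Subgroup G}
    (hY : IsCj Z Y) (hYQ : Y ≤ Q) (hYM : ¬ Y ≤ M) {b : G} (hb : b ∈ ws V Y) : t * r⁻¹ * b = b * (t * r⁻¹) := by
  by_cases hXY : X = Y
  · subst hXY
    exact hp.cent_W h hX hT hR hM hXQ hMQ hTM hRM hXM ht hr hj hb
  obtain ⟨L, hL, hLQ, hXL, hYL⟩ := hp.col X Y hX hY hXQ hYQ hXY
  obtain ⟨s, hs, hsL, hsM⟩ := hp.meet L M hL hM hLQ hMQ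
  have hsX : s ≠ X := fun e => hXM (e ▸ hsM)
  have hsY : s ≠ Y := fun e => hYM (e ▸ hsM)
  obtain ⟨u, hu, hu1⟩ := h.pl.pt_ne_bot hX
  obtain ⟨s0, hs0, r0, hr0, hur⟩ := h.line_mul hL hs hsL hY hYL hsY (hXL hu)
  have hr1 : r0 ≠ 1 := by
    rintro rfl
    rw [mul_one] at hur
    exact hsX (h.pl.pts_eq hs hX hs0 (hur ▸ hu) (hur ▸ hu1))
  have huM : u ∉ M := fun e => hXM (pt_le h hM hX hu hu1 e)
  obtain ⟨k, hk, hkM, hku⟩ := h.F2_line hM hT hTM hs hsM (hp.Q_le_IV h hM hMQ (hXQ hu)) huM (s.inv_mem hs0)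
  have hku' : k * u * k⁻¹ = r0 := by
    have : k * u * k⁻¹ = s0⁻¹ * u := by rw [← hku]; group
    rw [this, hur]; group
  have hkX : PT.cj k X = Y := by
    refine h.pl.pts_eq (hX.cj k) hY ?_ hr0 hr1
    rw [← hku']
    exact conj_mem_cj hu
  have hb' : k⁻¹ * b * k ∈ ws V X := by
    rw [← mem_cj, ← ws_cj, hkX]; exact hb
  have h1 := hp.cent_W h hX hT hR hM hXQ hMQ hTM hRM hXM ht hr hj hb'
  have h2 := hp.dd_cent h hN hT hM hMQ hTM (h.kx_dd_line hM hT hTM hs hsM hk hkM ht)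
  have h3 := hp.dd_cent h hN hR hM hMQ hRM (h.kx_dd_line hM hR hRM hs hsM hk hkM hr)
  set a := k * t * k⁻¹ * t⁻¹ with ha
  set c := k * r * k⁻¹ * r⁻¹ with hc
  have ha1 : a * b = b * a := mem_cent_fq.1 h2 Y hY hYQ b hb
  have hc1 : c * b = b * c := mem_cent_fq.1 h3 Y hY hYQ b hb
  have e1 : k * (t * r⁻¹) * k⁻¹ = a * (t * r⁻¹) * c⁻¹ := by rw [ha, hc]; group
  have h4 : (k * (t * r⁻¹) * k⁻¹) * b = b * (k * (t * r⁻¹) * k⁻¹) := by
    calc (k * (t * r⁻¹) * k⁻¹) * b = k * (t * r⁻¹ * (k⁻¹ * b * k)) * k⁻¹ := by group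
      _ = k * ((k⁻¹ * b * k) * (t * r⁻¹)) * k⁻¹ := by rw [h1]
      _ = _ := by group
  rw [e1] at h4
  have ca : Commute a b := ha1
  have cc : Commute c b := hc1
  have h5 : Commute (a * (t * r⁻¹) * c⁻¹) b := h4
  have h6 : Commute (a⁻¹ * (a * (t * r⁻¹) * c⁻¹) * c) b := (ca.inv_left.mul_left h5).mul_left cc
  have e2 : a⁻¹ * (a * (t * r⁻¹) * c⁻¹) * c = t * r⁻¹ := by group
  rw [e2] at h6
  exact h6.eq

/-- a partner -/
theorem exists_partner {Q : Subgroup G} (hp : Pla V Z Q) {X T R M : Subgroup G} (hX : IsCj Z X) (hT : IsCj Z T)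
    (hR : IsCj Z R) (hM : IsCj V M) (hXQ : X ≤ Q) (hMQ : M ≤ Q) (hTM : T ≤ M) (hRM : R ≤ M) (hXM : ¬ X ≤ M)
    {r : G} (hr : r ∈ ee M Z R) : ∃ t ∈ ee M Z T, t * r⁻¹ ∈ kx V X := by
  have hTX : T ≠ X := fun e => hXM (e ▸ hTM)
  have hRX : R ≠ X := fun e => hXM (e ▸ hRM)
  have hrW : r ∈ ws V R := by
    have := ee_le hr
    rwa [ws_line hM] at this
  obtain ⟨L, hL, hLQ, hTL, hXL⟩ := hp.col T X hT hX (hTM.trans hMQ) hXQ hTX
  obtain ⟨b, hb, k, hk, rfl⟩ := hp.img X R T hX hR hT hXQ (hRM.trans hMQ) (hTM.trans hMQ) hRX hTX r hrW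
  have hML : M ≠ L := fun e => hXM (e ▸ hXL)
  obtain ⟨e, he, f, hf, rfl⟩ := hp.spl T M L hT hM hL hMQ hLQ hTM hTL hML b hb
  refine ⟨e, he, ?_⟩
  rw [h.ee_line hL hT hTL hX hXL hTX.symm] at hf
  have h1 : e * (e * f * k)⁻¹ = e * (f * k)⁻¹ * e⁻¹ := by group
  rw [h1]
  have heW : e ∈ ws V T := by
    have := ee_le he
    rwa [ws_line hM] at this
  have h2 : e ∈ normalizer (X : Set G) :=
    centralizer_le_normalizer _ (centralizer_le hXL (h.ws_le_line hL hT hTL heW))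
  exact (mem_normalizer_iff.1 (normalizer_le_kx V X h2) _).1 (inv_mem (mul_mem hf.2 hk))

/-- (5.4) the commutator -/
theorem comm_eq {Q : Subgroup G} (hp : Pla V Z Q) (hN : NN V Z) {X T M N R R' : Subgroup G} (hX : IsCj Z X)
    (hT : IsCj Z T) (hM : IsCj V M) (hN' : IsCj V N) (hR : IsCj Z R) (hR' : IsCj Z R') (hXQ : X ≤ Q) (hMQ : M ≤ Q)
    (hNQ : N ≤ Q) (hTM : T ≤ M) (hTN : T ≤ N) (hRM : R ≤ M) (hRN : R' ≤ N) (hRT : R ≠ T) (hRT' : R' ≠ T)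
    (hMN : M ≠ N) (hXM : ¬ X ≤ M) (hXN : ¬ X ≤ N) {t r t' r' : G} (ht : t ∈ ee M Z T) (hr : r ∈ ee M Z R)
    (hj : t * r⁻¹ ∈ kx V X) (ht' : t' ∈ ee N Z T) (hr' : r' ∈ ee N Z R') (hj' : t' * r'⁻¹ ∈ kx V X) :
    (t * r⁻¹) * (t' * r'⁻¹) * (t * r⁻¹)⁻¹ * (t' * r'⁻¹)⁻¹ = r * r' * r⁻¹ * r'⁻¹ ∧ r * r' * r⁻¹ * r'⁻¹ ∈ T := by
  have hRN' : ¬ R ≤ N := fun e => hMN (h.line_eq hM hN' hR hT hRM hTM e hTN hRT)
  have hRM' : ¬ R' ≤ M := fun e => hMN (h.line_eq hM hN' hR' hT e hTM hRN hTN hRT')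
  have htW : t ∈ ws V T := by
    have := ee_le ht
    rwa [ws_line hM] at this
  have hrW : r ∈ ws V R := by
    have := ee_le hr
    rwa [ws_line hM] at this
  have htW' : t' ∈ ws V T := by
    have := ee_le ht'
    rwa [ws_line hN'] at this
  have hrW' : r' ∈ ws V R' := by
    have := ee_le hr'
    rwa [ws_line hN'] at this
  have h1 := hp.cent_all h hN hX hT hR hM hXQ hMQ hTM hRM hXM ht hr hj hR' (hRN.trans hNQ) hRM' hrW'
  have h2 := hp.cent_all h hN hX hT hR' hN' hXQ hNQ hTN hRN hXN ht' hr' hj' hR (hRM.trans hMQ) hRN' hrW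
  have hri : r⁻¹ = r := h.W_inv hR hrW
  have hQc : ∀ {u : G}, u ∈ Q → ∀ {A : Subgroup G}, IsCj Z A → A ≤ Q → ∀ {w : G}, w ∈ ws V A →
      w * u * w⁻¹ = u := by
    intro u hu A hA hAQ w hw
    rw [← hp.Q_comm h hA hAQ hu hw, mul_inv_cancel_right]
  -- `[j, j'] = [j, t']`
  have e1 : (t * r⁻¹) * (t' * r'⁻¹) * (t * r⁻¹)⁻¹ * (t' * r'⁻¹)⁻¹ = (t * r⁻¹) * t' * (t * r⁻¹)⁻¹ * t'⁻¹ := by
    have c1 : Commute (t * r⁻¹) r' := h1
    have c2 := c1.inv_right.inv_left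
    calc (t * r⁻¹) * (t' * r'⁻¹) * (t * r⁻¹)⁻¹ * (t' * r'⁻¹)⁻¹
        = (t * r⁻¹) * t' * (r'⁻¹ * (t * r⁻¹)⁻¹) * (t' * r'⁻¹)⁻¹ := by group
      _ = (t * r⁻¹) * t' * ((t * r⁻¹)⁻¹ * r'⁻¹) * (t' * r'⁻¹)⁻¹ := by rw [c2.eq]
      _ = _ := by group
  have h3 : r⁻¹ * t' * r * t'⁻¹ ∈ Q := by
    have := hp.comm_mem h hR (hRM.trans hMQ) hT (hTM.trans hMQ) (inv_mem hrW) htW'
    rwa [inv_inv] at this
  have e2 : (t * r⁻¹) * t' * (t * r⁻¹)⁻¹ * t'⁻¹ = r⁻¹ * t' * r * t'⁻¹ := by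
    have c1 : t⁻¹ * t'⁻¹ = t'⁻¹ * t⁻¹ := h.comm_W hT (inv_mem htW) (inv_mem htW')
    calc (t * r⁻¹) * t' * (t * r⁻¹)⁻¹ * t'⁻¹ = t * r⁻¹ * t' * r * (t⁻¹ * t'⁻¹) := by group
      _ = t * r⁻¹ * t' * r * (t'⁻¹ * t⁻¹) := by rw [c1]
      _ = t * (r⁻¹ * t' * r * t'⁻¹) * t⁻¹ := by group
      _ = _ := hQc h3 hT (hTM.trans hMQ) htW
  have h4 : r * t' * r⁻¹ * t'⁻¹ = r⁻¹ * t' * r * t'⁻¹ := by rw [hri]
  have h5 : r * r' * r⁻¹ * r'⁻¹ ∈ Q := hp.comm_mem h hR (hRM.trans hMQ) hR' (hRN.trans hNQ) hrW hrW'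
  have e3 : r * t' * r⁻¹ * t'⁻¹ = r * r' * r⁻¹ * r'⁻¹ := by
    have c1 : Commute (t' * r'⁻¹) r := h2
    have c2 : t' * r'⁻¹ * r = r * (t' * r'⁻¹) := c1.eq
    have c3 : r * t' = t' * r'⁻¹ * r * r' := by rw [c2]; group
    calc r * t' * r⁻¹ * t'⁻¹ = t' * (r'⁻¹ * (r * r' * r⁻¹ * r'⁻¹) * r'⁻¹⁻¹) * t'⁻¹ := by rw [c3]; group
      _ = t' * (r * r' * r⁻¹ * r'⁻¹) * t'⁻¹ := by rw [hQc h5 hR' (hRN.trans hNQ) (inv_mem hrW')]
      _ = _ := hQc h5 hT (hTM.trans hMQ) htW'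
  refine ⟨by rw [e1, e2, ← h4, e3], ?_⟩
  rw [← e3]
  exact h.ee_line_act hM hR hRM hT hTM hRT.symm hr htW'

/-- (5.4) -/
theorem exists_comm {Q : Subgroup G} (hp : Pla V Z Q) (hN : NN V Z) {X T : Subgroup G} (hX : IsCj Z X)
    (hT : IsCj Z T) (hXQ : X ≤ Q) (hTQ : T ≤ Q) (hne : T ≠ X) :
    ∃ j ∈ fq V Z Q, ∃ j' ∈ fq V Z Q, j ∈ centralizer ((ws V X : Subgroup G) : Set G) ∧
      j' ∈ centralizer ((ws V X : Subgroup G) : Set G) ∧ j * j' * j⁻¹ * j'⁻¹ ∈ T ∧ j * j' * j⁻¹ * j'⁻¹ ≠ 1 := by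
  obtain ⟨M, N, hM, hN', hMQ, hNQ, hTM, hTN, hMN, hXM, hXN⟩ := hp.exists_two h hX hT hXQ hTQ hne
  obtain ⟨R, hR, hRM, hRT⟩ := exists_pt h hM hT hTM
  obtain ⟨R', hR', hRN, hRT'⟩ := exists_pt h hN' hT hTN
  have hRN' : ¬ R ≤ N := fun e => hMN (h.line_eq hM hN' hR hT hRM hTM e hTN hRT)
  by_contra hcon
  have key : ∀ r ∈ ee M Z R, ∀ r' ∈ ee N Z R', r * r' * r⁻¹ * r'⁻¹ = 1 := by
    intro r hr r' hr'
    by_contra h1
    obtain ⟨t, ht, hj⟩ := hp.exists_partner h hX hT hR hM hXQ hMQ hTM hRM hXM hr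
    obtain ⟨t', ht', hj'⟩ := hp.exists_partner h hX hT hR' hN' hXQ hNQ hTN hRN hXN hr'
    obtain ⟨e1, h2⟩ := hp.comm_eq h hN hX hT hM hN' hR hR' hXQ hMQ hNQ hTM hTN hRM hRN hRT hRT' hMN hXM hXN ht hr hj
      ht' hr' hj'
    have hm : ∀ {A L : Subgroup G}, IsCj Z A → IsCj V L → A ≤ L → L ≤ Q → ∀ {a : G}, a ∈ ee L Z A →
        a ∈ fq V Z Q := by
      intro A L hA hL hAL hLQ a ha
      have h3 := ee_le ha
      rw [ws_line hL] at h3
      exact ws_le_fq hA (hAL.trans hLQ) h3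
    refine hcon ⟨t * r⁻¹, mul_mem (hm hT hM hTM hMQ ht) (inv_mem (hm hR hM hRM hMQ hr)), t' * r'⁻¹,
      mul_mem (hm hT hN' hTN hNQ ht') (inv_mem (hm hR' hN' hRN hNQ hr')), ?_, ?_, ?_, ?_⟩
    · rw [mem_centralizer_iff]
      exact fun w hw => (hp.cent_W h hX hT hR hM hXQ hMQ hTM hRM hXM ht hr hj hw).symm
    · rw [mem_centralizer_iff]
      exact fun w hw => (hp.cent_W h hX hT hR' hN' hXQ hNQ hTN hRN hXN ht' hr' hj' hw).symm
    · rw [e1]; exact h2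
    · rw [e1]; exact h1
  have hRR : R ≠ R' := fun e => hRN' (e ▸ hRN)
  obtain ⟨A, hA, hAQ, hRA, hRA'⟩ := hp.col R R' hR hR' (hRM.trans hMQ) (hRN.trans hNQ) hRR
  have hNA : N ≠ A := fun e => hRN' (e ▸ hRA)
  have hMA : M ≠ A := by
    rintro rfl
    exact hMN (h.line_eq hM hN' hR' hT hRA' hTM hRN hTN hRT')
  have hEW : ∀ {A L : Subgroup G}, IsCj V L → ∀ {a : G}, a ∈ ee L Z A → a ∈ ws V A := by
    intro A L hL a ha
    have h3 := ee_le ha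
    rwa [ws_line hL] at h3
  -- `E_R(M) ≤ D_R`
  have h1 : ∀ r ∈ ee M Z R, r ∈ centralizer ((fq V Z Q : Subgroup G) : Set G) := by
    intro r hr
    refine hp.dd_cent h hN hR hA hAQ hRA (h.nn_dd hN hA hR hRA hR' hRA' hRR.symm (hEW hM hr) fun b hb => ?_)
    obtain ⟨b1, hb1, b2, hb2, rfl⟩ := hp.spl R' N A hR' hN' hA hNQ hAQ hRN hRA' hNA b hb
    have h2 := key r hr b1 hb1
    have h3 := inv_mem (h.ee_line_act hA hR' hRA' hR hRA hRR hb2 (hEW hM hr))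
    have e1 : (b2 * r * b2⁻¹ * r⁻¹)⁻¹ = r * b2 * r⁻¹ * b2⁻¹ := by group
    rw [e1] at h3
    have e2 : r * (b1 * b2) * r⁻¹ * (b1 * b2)⁻¹ = (r * b1 * r⁻¹ * b1⁻¹) * (b1 * (r * b2 * r⁻¹ * b2⁻¹) * b1⁻¹) := by
      group
    rw [e2, h2, one_mul, ← hp.Q_comm h hR' (hRN.trans hNQ) (hRA.trans hAQ h3) (hEW hN' hb1), mul_inv_cancel_right]
    exact h3
  have h2 : ee M Z R ≤ dd M Z R := by
    intro r hr
    rw [h.dd_line hM hR hRM hT hTM hRT.symm]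
    exact ⟨hEW hM hr, centralizer_le (ws_le_fq hT hTQ) (h1 r hr)⟩
  have h3 := h.ee_le_dd_flag hM hR hRM hA hR hRA h2
  apply h.dd_ne_line hM hR hRM
  intro a ha
  obtain ⟨b, hb, c, hc, rfl⟩ := hp.spl R M A hR hM hA hMQ hAQ hRM hRA hMA a ha
  have h4 : c ∈ centralizer ((fq V Z Q : Subgroup G) : Set G) := hp.dd_cent h hN hR hA hAQ hRA (h3 hc)
  rw [h.dd_line hM hR hRM hT hTM hRT.symm]
  exact ⟨ha, centralizer_le (ws_le_fq hT hTQ) (mul_mem (h1 b hb) h4)⟩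

end Pla

end Cfsg.Agent.Omega.NO3S.OneQ

end

end
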