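import Cfsg.Agent.Mrg.Omega.CaseL.Base
import Cfsg.Agent.Mrg.Omega.NO3S.Fit.AbsNat
import Cfsg.Agent.Mrg.Omega.NO3S.OneQ.Fix
import Cfsg.Agent.Lib.Cores

-- merged: Cfsg.Agent.Mrg.Omega.NO3S.OneQ.Rep
section

/-!
# The module `M = W / Z` for `H = C / {c | [W, c] ≤ Z}`

`WRep W Z C M H` : `pi : G → M`, `phi : G → H` (used on `W`, `C`) identify `M` with `W / Z` and `H` with the group induced by `C`
on `W / Z`; `exists_wrep` : it exists, with a faithful action, if `W` is abelian and `C` normalises `W` and `Z`.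

* `R.hom`, `R.img K`, `R.pre K`; `R.up D` : the preimage in `W` of `D ≤ M`;
* `R.th n`, `R.ka n` : the automorphisms of `M` and `H` induced by `n ∈ N(W) ∩ N(Z) ∩ N(C)`; `R.up_brs`, `R.up_fxs`.
-/

set_option autoImplicit false
set_option linter.unusedSectionVars false

namespace Cfsg.Agent.Omega.NO3S.OneQ

open Subgroup
open Cfsg.Agent.ZN.Block (conj_mem_of_normalizer conj_mem_of_normalizer' le_normalizer_of_forall
  mem_normalizer_of)
open Cfsg.Agent.Omega.NO3S.Fit (cjW quoHom)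
open Cfsg.Agent.Omega.NO3S.Fit.Abs

universe u

variable {G : Type u} [Group G]

/-- `M = W / Z`, `H = C / C_C(W / Z)` -/
structure WRep (W Z C : Subgroup G) (M H : Type u) [AddCommGroup M] [Group H] [DistribMulAction H M] where
  pi : G → M
  phi : G → H
  pi_mul : ∀ a ∈ W, ∀ b ∈ W, pi (a * b) = pi a + pi b
  pi_surj : ∀ m, ∃ w ∈ W, pi w = m
  pi_ker : ∀ w ∈ W, pi w = 0 ↔ w ∈ Z
  phi_mul : ∀ c ∈ C, ∀ d ∈ C, phi (c * d) = phi c * phi d
  phi_surj : ∀ x, ∃ c ∈ C, phi c = x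
  phi_ker : ∀ c ∈ C, phi c = 1 ↔ ∀ w ∈ W, c * w * c⁻¹ * w⁻¹ ∈ Z
  act : ∀ c ∈ C, ∀ w ∈ W, phi c • pi w = pi (c * w * c⁻¹)

theorem exists_wrep [Finite G] {W Z C : Subgroup G} (hab : ∀ a ∈ W, ∀ b ∈ W, a * b = b * a)
    (hW : C ≤ normalizer (W : Set G)) (hX : C ≤ normalizer (Z : Set G)) :
    ∃ (M H : Type u) (_ : AddCommGroup M) (_ : Finite M) (_ : Group H)
    (_ : Finite H) (_ : DistribMulAction H M) (_ : FaithfulSMul H M), Nonempty (WRep W Z C M H) := by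
  classical
  have hn : (Z.subgroupOf W).Normal := by
    refine ⟨fun x hx w => ?_⟩
    have h1 : w * x * w⁻¹ = x := by
      apply Subtype.ext
      change (w : G) * x * (w : G)⁻¹ = x
      rw [hab _ w.2 _ x.2, mul_inv_cancel_right]
    rw [h1]; exact hx
  let Q := W ⧸ Z.subgroupOf W
  let M := Additive Q
  have hcomm : ∀ a b : Q, a * b = b * a := by
    intro a b
    induction a using QuotientGroup.induction_on with
    | H a =>
      induction b using QuotientGroup.induction_on with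
      | H b =>
        change (QuotientGroup.mk (a * b) : Q) = QuotientGroup.mk (b * a)
        congr 1
        ext
        exact hab a a.2 b b.2
  let iQ : CommGroup Q := { (inferInstance : Group Q) with mul_comm := hcomm }
  let iM : AddCommGroup M := Additive.addCommGroup
  obtain ⟨Φ, hΦ⟩ : ∃ Φ : C →* MulAut Q, ∀ (c : C) (w : W), Φ c (QuotientGroup.mk w : Q) =
      QuotientGroup.mk (⟨c * w * (c : G)⁻¹, conj_mem_of_normalizer hW c.2 w.2⟩ : W) :=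
    ⟨quoHom W Z C hW hX, fun c w => rfl⟩
  obtain ⟨H, hH⟩ : ∃ H : Subgroup (MulAut Q), H = Φ.range := ⟨_, rfl⟩
  have hfin : Finite M := inferInstanceAs (Finite (W ⧸ Z.subgroupOf W))
  have hfinA : Finite (MulAut Q) := Finite.of_injective (fun f : MulAut Q => (f : Q → Q)) DFunLike.coe_injective
  let iA : DistribMulAction H M :=
    { smul := fun x m => Additive.ofMul ((x : MulAut Q) m.toMul)
      one_smul := fun m => rfl
      mul_smul := fun x y m => rfl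
      smul_zero := fun x => congrArg Additive.ofMul (map_one (x : MulAut Q))
      smul_add := fun x m n => congrArg Additive.ofMul (map_mul (x : MulAut Q) m.toMul n.toMul) }
  have hmemH : ∀ c, Φ c ∈ H := fun c => by rw [hH]; exact MonoidHom.mem_range.mpr ⟨c, rfl⟩
  let piF : G → M := fun g => if hg : g ∈ W then Additive.ofMul (QuotientGroup.mk ⟨g, hg⟩) else 0
  let phiF : G → H := fun g => if hg : g ∈ C then ⟨Φ ⟨g, hg⟩, hmemH _⟩ else 1
  have piE : ∀ g (hg : g ∈ W), piF g = Additive.ofMul (QuotientGroup.mk ⟨g, hg⟩) := fun g hg => dif_pos hg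
  have phiE : ∀ g (hg : g ∈ C), phiF g = ⟨Φ ⟨g, hg⟩, hmemH _⟩ := fun g hg => dif_pos hg
  have key : ∀ c (hc : c ∈ C) w (hw : w ∈ W), Φ ⟨c, hc⟩ (QuotientGroup.mk ⟨w, hw⟩ : Q) =
      QuotientGroup.mk ⟨w, hw⟩ ↔ c * w * c⁻¹ * w⁻¹ ∈ Z := by
    intro c hc w hw
    rw [hΦ, eq_comm, QuotientGroup.eq, mem_subgroupOf]
    change w⁻¹ * (c * w * c⁻¹) ∈ Z ↔ _
    have hcw : c * w * c⁻¹ ∈ W := conj_mem_of_normalizer hW hc hw
    rw [hab w⁻¹ (inv_mem hw) _ hcw]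
  refine ⟨M, H, iM, hfin, inferInstance, inferInstance, iA, ?_, ⟨?_⟩⟩
  · refine ⟨fun {a b} hab => Subtype.ext ?_⟩
    ext m
    exact congrArg Additive.toMul (hab (Additive.ofMul m))
  · refine ⟨piF, phiF, ?_, ?_, ?_, ?_, ?_, ?_, ?_⟩
    · intro a ha b hb
      rw [piE a ha, piE b hb, piE _ (mul_mem ha hb)]
      rfl
    · intro m
      obtain ⟨w, hw⟩ := QuotientGroup.mk_surjective m.toMul
      refine ⟨w, w.2, ?_⟩
      rw [piE w w.2]
      exact congrArg Additive.ofMul hw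
    · intro w hw
      rw [piE w hw]
      change (QuotientGroup.mk (⟨w, hw⟩ : W) : Q) = 1 ↔ _
      rw [QuotientGroup.eq_one_iff, mem_subgroupOf]
    · intro c hc d hd
      rw [phiE c hc, phiE d hd, phiE _ (mul_mem hc hd)]
      apply Subtype.ext
      rw [Subgroup.coe_mul, ← map_mul]
      rfl
    · rintro ⟨x, hx⟩
      obtain ⟨c, rfl⟩ := MonoidHom.mem_range.mp (hH ▸ hx)
      exact ⟨c, c.2, phiE c c.2⟩
    · intro c hc
      rw [phiE c hc]
      constructor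
      · intro e
        have e' : Φ ⟨c, hc⟩ = 1 := congrArg Subtype.val e
        intro w hw
        refine (key c hc w hw).mp ?_
        rw [e']; rfl
      · intro hq
        apply Subtype.ext
        change Φ ⟨c, hc⟩ = 1
        ext m
        obtain ⟨w, hw⟩ := QuotientGroup.mk_surjective m
        have hm : m = QuotientGroup.mk ⟨(w : G), w.2⟩ := hw.symm
        rw [hm]
        exact (key c hc w w.2).mpr (hq w w.2)
    · intro c hc w hw
      rw [phiE c hc, piE w hw, piE _ (conj_mem_of_normalizer hW hc hw)]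
      exact congrArg Additive.ofMul (hΦ ⟨c, hc⟩ ⟨w, hw⟩)

/-- the standing hypotheses on `W`, `Z`, `C` -/
structure WRep.Ok (W Z C : Subgroup G) : Prop where
  ab : ∀ a ∈ W, ∀ b ∈ W, a * b = b * a
  ZW : Z ≤ W
  CW : C ≤ normalizer (W : Set G)

namespace WRep

variable {W Z C : Subgroup G} {M H : Type u} [AddCommGroup M] [Group H] [DistribMulAction H M]

theorem pi_one (R : WRep W Z C M H) : R.pi 1 = 0 := (R.pi_ker 1 (one_mem _)).mpr (one_mem _)

theorem phi_one (R : WRep W Z C M H) : R.phi 1 = 1 :=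
  (R.phi_ker 1 (one_mem _)).mpr fun w _ => by simp

theorem pi_inv (R : WRep W Z C M H) {w : G} (hw : w ∈ W) : R.pi w⁻¹ = - R.pi w := by
  have := R.pi_mul w hw w⁻¹ (inv_mem hw)
  rw [mul_inv_cancel, R.pi_one] at this
  exact (neg_eq_of_add_eq_zero_right this.symm).symm

theorem phi_inv (R : WRep W Z C M H) {c : G} (hc : c ∈ C) : R.phi c⁻¹ = (R.phi c)⁻¹ := by
  have := R.phi_mul c hc c⁻¹ (inv_mem hc)
  rw [mul_inv_cancel, R.phi_one] at this
  exact (inv_eq_of_mul_eq_one_right this.symm).symm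

theorem pi_eq (R : WRep W Z C M H) {a b : G} (ha : a ∈ W) (hb : b ∈ W) : R.pi a = R.pi b ↔ a * b⁻¹ ∈ Z := by
  rw [← R.pi_ker _ (mul_mem ha (inv_mem hb)), R.pi_mul a ha _ (inv_mem hb), R.pi_inv hb, ← sub_eq_add_neg,
    sub_eq_zero]

theorem phi_eq (R : WRep W Z C M H) {c d : G} (hc : c ∈ C) (hd : d ∈ C) :
    R.phi c = R.phi d ↔ R.phi (c * d⁻¹) = 1 := by
  rw [R.phi_mul c hc _ (inv_mem hd), R.phi_inv hd, mul_inv_eq_one]

/-- `[w, c]` -/
theorem pi_comm (R : WRep W Z C M H) (ok : WRep.Ok W Z C) {c w : G} (hc : c ∈ C) (hw : w ∈ W) :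
    R.pi (c * w * c⁻¹ * w⁻¹) = R.phi c • R.pi w - R.pi w := by
  rw [R.pi_mul _ (conj_mem_of_normalizer ok.CW hc hw) _ (inv_mem hw), R.pi_inv hw, R.act c hc w hw, sub_eq_add_neg]

/-- `phi` as a homomorphism -/
def hom (R : WRep W Z C M H) : C →* H where
  toFun c := R.phi c
  map_one' := R.phi_one
  map_mul' c d := R.phi_mul c c.2 d d.2

theorem hom_surj (R : WRep W Z C M H) : Function.Surjective R.hom := by
  intro x
  obtain ⟨c, hc, rfl⟩ := R.phi_surj x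
  exact ⟨⟨c, hc⟩, rfl⟩

/-- the image of `K ≤ C` in `H` -/
def img (R : WRep W Z C M H) (K : Subgroup G) : Subgroup H := (K.subgroupOf C).map R.hom

theorem mem_img (R : WRep W Z C M H) {K : Subgroup G} (hK : K ≤ C) {x : H} :
    x ∈ R.img K ↔ ∃ k ∈ K, R.phi k = x := by
  constructor
  · rintro ⟨k, hk, rfl⟩
    exact ⟨k, mem_subgroupOf.mp hk, rfl⟩
  · rintro ⟨k, hk, rfl⟩
    exact ⟨⟨k, hK hk⟩, mem_subgroupOf.mpr hk, rfl⟩

/-- the preimage of `K ≤ H` in `C` -/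
def pre (R : WRep W Z C M H) (K : Subgroup H) : Subgroup G := (K.comap R.hom).map C.subtype

theorem mem_pre (R : WRep W Z C M H) {K : Subgroup H} {c : G} : c ∈ R.pre K ↔ c ∈ C ∧ R.phi c ∈ K := by
  constructor
  · rintro ⟨c, hc, rfl⟩
    exact ⟨c.2, hc⟩
  · rintro ⟨hc, hc'⟩
    exact ⟨⟨c, hc⟩, hc', rfl⟩

theorem pre_le (R : WRep W Z C M H) (K : Subgroup H) : R.pre K ≤ C := fun _ hc => (R.mem_pre.mp hc).1

/-- the preimage of `D ≤ M` in `W` -/
def up (R : WRep W Z C M H) (D : AddSubgroup M) : Subgroup G where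
  carrier := {w | w ∈ W ∧ R.pi w ∈ D}
  mul_mem' := by
    rintro a b ⟨ha, ha1⟩ ⟨hb, hb1⟩
    refine ⟨mul_mem ha hb, ?_⟩
    rw [R.pi_mul a ha b hb]
    exact add_mem ha1 hb1
  one_mem' := ⟨one_mem _, by rw [R.pi_one]; exact zero_mem _⟩
  inv_mem' := by
    rintro a ⟨ha, ha1⟩
    refine ⟨inv_mem ha, ?_⟩
    rw [R.pi_inv ha]
    exact neg_mem ha1

theorem mem_up (R : WRep W Z C M H) {D : AddSubgroup M} {w : G} : w ∈ R.up D ↔ w ∈ W ∧ R.pi w ∈ D := Iff.rfl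

theorem up_le (R : WRep W Z C M H) (D : AddSubgroup M) : R.up D ≤ W := fun _ hw => hw.1

theorem le_up (R : WRep W Z C M H) (hZW : Z ≤ W) (D : AddSubgroup M) : Z ≤ R.up D := fun w hw =>
  ⟨hZW hw, by rw [(R.pi_ker w (hZW hw)).mpr hw]; exact zero_mem _⟩

theorem up_inf (R : WRep W Z C M H) (hZW : Z ≤ W) {D1 D2 : AddSubgroup M} (h : ∀ m, m ∈ D1 → m ∈ D2 → m = 0) :
    R.up D1 ⊓ R.up D2 = Z := by
  apply le_antisymm
  · rintro w ⟨⟨hw, h1⟩, -, h2⟩
    exact (R.pi_ker w hw).mp (h _ h1 h2)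
  · exact le_inf (R.le_up hZW D1) (R.le_up hZW D2)

theorem up_sup (R : WRep W Z C M H) (hZW : Z ≤ W) {D1 D2 : AddSubgroup M}
    (h : ∀ m : M, ∃ a ∈ D1, ∃ b ∈ D2, a + b = m) : R.up D1 ⊔ R.up D2 = W := by
  apply le_antisymm
  · exact sup_le (R.up_le D1) (R.up_le D2)
  · intro w hw
    obtain ⟨a, ha, b, hb, e⟩ := h (R.pi w)
    obtain ⟨u, hu, rfl⟩ := R.pi_surj a
    obtain ⟨v, hv, rfl⟩ := R.pi_surj b
    rw [← R.pi_mul u hu v hv, R.pi_eq (mul_mem hu hv) hw] at e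
    have e1 : w = (u * v * w⁻¹)⁻¹ * (u * v) := by group
    rw [e1]
    refine mul_mem (inv_mem ((le_sup_left : R.up D1 ≤ _) (R.le_up hZW D1 e))) (mul_mem ?_ ?_)
    · exact (le_sup_left : R.up D1 ≤ _) ⟨hu, ha⟩
    · exact (le_sup_right : R.up D2 ≤ R.up D1 ⊔ _) ⟨hv, hb⟩

/-- the image of `K` (`K ≤ W`) in `M` -/
def dn (R : WRep W Z C M H) (K : Subgroup G) : AddSubgroup M where
  carrier := {m | ∃ k ∈ K, k ∈ W ∧ R.pi k = m}
  add_mem' := by
    rintro _ _ ⟨v, hv, hv', rfl⟩ ⟨w, hw, hw', rfl⟩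
    exact ⟨v * w, mul_mem hv hw, mul_mem hv' hw', R.pi_mul v hv' w hw'⟩
  zero_mem' := ⟨1, one_mem _, one_mem _, R.pi_one⟩
  neg_mem' := by
    rintro _ ⟨v, hv, hv', rfl⟩
    exact ⟨v⁻¹, inv_mem hv, inv_mem hv', R.pi_inv hv'⟩

theorem mem_dn (R : WRep W Z C M H) {K : Subgroup G} (hK : K ≤ W) {m : M} : m ∈ R.dn K ↔ ∃ k ∈ K, R.pi k = m :=
  ⟨fun ⟨k, hk, _, e⟩ => ⟨k, hk, e⟩, fun ⟨k, hk, e⟩ => ⟨k, hk, hK hk, e⟩⟩

theorem pi_mem_dn (R : WRep W Z C M H) {K : Subgroup G} (hZK : Z ≤ K) (hK : K ≤ W) {w : G} (hw : w ∈ W) :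
    R.pi w ∈ R.dn K ↔ w ∈ K := by
  rw [R.mem_dn hK]
  constructor
  · rintro ⟨v, hv, e⟩
    rw [R.pi_eq (hK hv) hw] at e
    have e1 : w = (v * w⁻¹)⁻¹ * v := by group
    rw [e1]
    exact mul_mem (inv_mem (hZK e)) hv
  · exact fun h => ⟨w, h, rfl⟩

/-- `|M : K̄| = |W : K|`, `Z ≤ K ≤ W` -/
theorem index_dn (R : WRep W Z C M H) {K : Subgroup G} (hZK : Z ≤ K) (hK : K ≤ W) :
    (R.dn K).index = K.relIndex W := by
  let f : W →* Multiplicative M :=
    { toFun := fun w => Multiplicative.ofAdd (R.pi w)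
      map_one' := by
        change Multiplicative.ofAdd (R.pi 1) = 1
        rw [R.pi_one]; rfl
      map_mul' := fun a b => by
        change Multiplicative.ofAdd (R.pi (a * b)) = _
        rw [R.pi_mul a a.2 b b.2]; rfl }
  have hf : Function.Surjective f := by
    intro m
    obtain ⟨w, hw, e⟩ := R.pi_surj m.toAdd
    exact ⟨⟨w, hw⟩, congrArg Multiplicative.ofAdd e⟩
  have h1 : (AddSubgroup.toSubgroup (R.dn K)).comap f = K.subgroupOf W := by
    ext w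
    rw [mem_comap, mem_subgroupOf]
    exact R.pi_mem_dn hZK hK w.2
  have h2 := index_comap_of_surjective (AddSubgroup.toSubgroup (R.dn K)) hf
  rw [h1] at h2
  rw [relIndex, h2]
  rfl

theorem ext_up (R : WRep W Z C M H) {D1 D2 : AddSubgroup M} (h : R.up D1 = R.up D2) : D1 = D2 := by
  ext m
  obtain ⟨w, hw, rfl⟩ := R.pi_surj m
  exact ⟨fun h1 => ((h ▸ (⟨hw, h1⟩ : w ∈ R.up D1) : w ∈ R.up D2)).2,
    fun h1 => ((h ▸ (⟨hw, h1⟩ : w ∈ R.up D2) : w ∈ R.up D1)).2⟩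

/-! ### normalisers -/

variable {n : G}

/-- the automorphism of `M` induced by `n` -/
theorem exists_th (R : WRep W Z C M H) (hnW : n ∈ normalizer (W : Set G)) (hnZ : n ∈ normalizer (Z : Set G)) :
    ∃ θ : M ≃+ M, ∀ w ∈ W, θ (R.pi w) = R.pi (n * w * n⁻¹) := by
  classical
  choose s hsW hs using R.pi_surj
  have hcj : ∀ {g w : G}, g ∈ normalizer (W : Set G) → w ∈ W → g * w * g⁻¹ ∈ W := fun hg hw =>
    (mem_normalizer_iff.1 hg _).1 hw
  have hcz : ∀ {g w : G}, g ∈ normalizer (Z : Set G) → w ∈ Z → g * w * g⁻¹ ∈ Z := fun hg hw =>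
    (mem_normalizer_iff.1 hg _).1 hw
  have hwd : ∀ {g : G}, g ∈ normalizer (W : Set G) → g ∈ normalizer (Z : Set G) → ∀ {a b : G}, a ∈ W → b ∈ W →
      R.pi a = R.pi b → R.pi (g * a * g⁻¹) = R.pi (g * b * g⁻¹) := by
    intro g hg hg' a b ha hb e
    rw [R.pi_eq ha hb] at e
    rw [R.pi_eq (hcj hg ha) (hcj hg hb)]
    have : g * a * g⁻¹ * (g * b * g⁻¹)⁻¹ = g * (a * b⁻¹) * g⁻¹ := by group
    rw [this]
    exact hcz hg' e
  have hval : ∀ {g : G}, g ∈ normalizer (W : Set G) → g ∈ normalizer (Z : Set G) → ∀ {w : G}, w ∈ W →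
      R.pi (g * s (R.pi w) * g⁻¹) = R.pi (g * w * g⁻¹) := fun hg hg' w hw =>
    hwd hg hg' (hsW _) hw (hs _)
  have hadd : ∀ {g : G}, g ∈ normalizer (W : Set G) → g ∈ normalizer (Z : Set G) → ∀ m m' : M,
      R.pi (g * s (m + m') * g⁻¹) = R.pi (g * s m * g⁻¹) + R.pi (g * s m' * g⁻¹) := by
    intro g hg hg' m m'
    rw [← R.pi_mul _ (hcj hg (hsW m)) _ (hcj hg (hsW m'))]
    have : g * s m * g⁻¹ * (g * s m' * g⁻¹) = g * (s m * s m') * g⁻¹ := by group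
    rw [this]
    refine hwd hg hg' (hsW _) (mul_mem (hsW m) (hsW m')) ?_
    rw [hs, R.pi_mul _ (hsW m) _ (hsW m'), hs, hs]
  have hnW' := inv_mem hnW
  have hnZ' := inv_mem hnZ
  refine ⟨{ toFun := fun m => R.pi (n * s m * n⁻¹)
            invFun := fun m => R.pi (n⁻¹ * s m * n⁻¹⁻¹)
            left_inv := ?_
            right_inv := ?_
            map_add' := hadd hnW hnZ }, ?_⟩
  · intro m
    change R.pi (n⁻¹ * s (R.pi (n * s m * n⁻¹)) * n⁻¹⁻¹) = m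
    rw [hval hnW' hnZ' (hcj hnW (hsW m))]
    have : n⁻¹ * (n * s m * n⁻¹) * n⁻¹⁻¹ = s m := by group
    rw [this, hs]
  · intro m
    change R.pi (n * s (R.pi (n⁻¹ * s m * n⁻¹⁻¹)) * n⁻¹) = m
    rw [hval hnW hnZ (hcj hnW' (hsW m))]
    have : n * (n⁻¹ * s m * n⁻¹⁻¹) * n⁻¹ = s m := by group
    rw [this, hs]
  · intro w hw
    exact hval hnW hnZ hw

/-- the automorphism of `H` induced by `n` -/
theorem exists_ka (R : WRep W Z C M H) (hnW : n ∈ normalizer (W : Set G)) (hnZ : n ∈ normalizer (Z : Set G))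
    (hnC : n ∈ normalizer (C : Set G)) :
    ∃ κ : H ≃* H, ∀ c ∈ C, κ (R.phi c) = R.phi (n * c * n⁻¹) := by
  classical
  choose s hsC hs using R.phi_surj
  have hcj : ∀ {g c : G}, g ∈ normalizer (C : Set G) → c ∈ C → g * c * g⁻¹ ∈ C := fun hg hw =>
    (mem_normalizer_iff.1 hg _).1 hw
  have hcw : ∀ {g w : G}, g ∈ normalizer (W : Set G) → w ∈ W → g * w * g⁻¹ ∈ W := fun hg hw =>
    (mem_normalizer_iff.1 hg _).1 hw
  have hcz : ∀ {g w : G}, g ∈ normalizer (Z : Set G) → w ∈ Z → g * w * g⁻¹ ∈ Z := fun hg hw =>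
    (mem_normalizer_iff.1 hg _).1 hw
  have hwd : ∀ {g : G}, g ∈ normalizer (C : Set G) → g ∈ normalizer (W : Set G) → g ∈ normalizer (Z : Set G) →
      ∀ {a b : G}, a ∈ C → b ∈ C → R.phi a = R.phi b → R.phi (g * a * g⁻¹) = R.phi (g * b * g⁻¹) := by
    intro g hgC hg hg' a b ha hb e
    rw [R.phi_eq ha hb, R.phi_ker _ (mul_mem ha (inv_mem hb))] at e
    rw [R.phi_eq (hcj hgC ha) (hcj hgC hb), R.phi_ker _ (mul_mem (hcj hgC ha) (inv_mem (hcj hgC hb)))]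
    intro w hw
    have h1 := hcw (inv_mem hg) hw
    have h2 := hcz hg' (e _ h1)
    have e1 : g * (a * b⁻¹ * (g⁻¹ * w * g⁻¹⁻¹) * (a * b⁻¹)⁻¹ * (g⁻¹ * w * g⁻¹⁻¹)⁻¹) * g⁻¹ =
      g * a * g⁻¹ * (g * b * g⁻¹)⁻¹ * w * (g * a * g⁻¹ * (g * b * g⁻¹)⁻¹)⁻¹ * w⁻¹ := by group
    rw [← e1]; exact h2
  have hval : ∀ {g : G}, g ∈ normalizer (C : Set G) → g ∈ normalizer (W : Set G) → g ∈ normalizer (Z : Set G) →
      ∀ {c : G}, c ∈ C → R.phi (g * s (R.phi c) * g⁻¹) = R.phi (g * c * g⁻¹) := fun h1 h2 h3 c hc =>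
    hwd h1 h2 h3 (hsC _) hc (hs _)
  have hnW' := inv_mem hnW
  have hnZ' := inv_mem hnZ
  have hnC' := inv_mem hnC
  refine ⟨{ toFun := fun m => R.phi (n * s m * n⁻¹)
            invFun := fun m => R.phi (n⁻¹ * s m * n⁻¹⁻¹)
            left_inv := ?_
            right_inv := ?_
            map_mul' := ?_ }, ?_⟩
  · intro m
    change R.phi (n⁻¹ * s (R.phi (n * s m * n⁻¹)) * n⁻¹⁻¹) = m
    rw [hval hnC' hnW' hnZ' (hcj hnC (hsC m))]
    have : n⁻¹ * (n * s m * n⁻¹) * n⁻¹⁻¹ = s m := by group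
    rw [this, hs]
  · intro m
    change R.phi (n * s (R.phi (n⁻¹ * s m * n⁻¹⁻¹)) * n⁻¹) = m
    rw [hval hnC hnW hnZ (hcj hnC' (hsC m))]
    have : n * (n⁻¹ * s m * n⁻¹⁻¹) * n⁻¹ = s m := by group
    rw [this, hs]
  · intro m m'
    rw [← R.phi_mul _ (hcj hnC (hsC m)) _ (hcj hnC (hsC m'))]
    have : n * s m * n⁻¹ * (n * s m' * n⁻¹) = n * (s m * s m') * n⁻¹ := by group
    rw [this]
    refine hwd hnC hnW hnZ (hsC _) (mul_mem (hsC m) (hsC m')) ?_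
    rw [hs, R.phi_mul _ (hsC m) _ (hsC m'), hs, hs]
  · intro c hc
    exact hval hnC hnW hnZ hc

/-- compatibility -/
theorem th_smul (R : WRep W Z C M H) (ok : WRep.Ok W Z C) (hnW : n ∈ normalizer (W : Set G))
    (hnC : n ∈ normalizer (C : Set G)) {θ : M ≃+ M} (hθ : ∀ w ∈ W, θ (R.pi w) = R.pi (n * w * n⁻¹)) {κ : H ≃* H}
    (hκ : ∀ c ∈ C, κ (R.phi c) = R.phi (n * c * n⁻¹)) (x : H) (m : M) : θ (x • m) = κ x • θ m := by
  obtain ⟨c, hc, rfl⟩ := R.phi_surj x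
  obtain ⟨w, hw, rfl⟩ := R.pi_surj m
  have hcW : c * w * c⁻¹ ∈ W := conj_mem_of_normalizer ok.CW hc hw
  rw [R.act c hc w hw, hθ _ hcW, hκ c hc, hθ w hw, R.act _ ((mem_normalizer_iff.1 hnC _).1 hc) _
    ((mem_normalizer_iff.1 hnW _).1 hw)]
  congr 1
  group

/-- `[M, P]` is invariant under `n` if `P` is -/
theorem up_brs (R : WRep W Z C M H) (ok : WRep.Ok W Z C) (hnW : n ∈ normalizer (W : Set G))
    (hnZ : n ∈ normalizer (Z : Set G)) (hnC : n ∈ normalizer (C : Set G)) {P : Subgroup H} {κ : H ≃* H}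
    (hκ : ∀ c ∈ C, κ (R.phi c) = R.phi (n * c * n⁻¹)) (hP : ∀ x ∈ P, κ x ∈ P) {w : G} (hw : w ∈ R.up (brs M P)) :
    n * w * n⁻¹ ∈ R.up (brs M P) := by
  obtain ⟨θ, hθ⟩ := R.exists_th hnW hnZ
  refine ⟨(mem_normalizer_iff.1 hnW _).1 hw.1, ?_⟩
  rw [← hθ w hw.1]
  have h1 : brs M P ≤ (brs M P).comap (θ : M →+ M) := by
    refine brs_le fun k hk => ?_
    rintro _ ⟨m, rfl⟩
    rw [AddSubgroup.mem_comap]
    change θ (k • m - m) ∈ brs M P
    rw [map_sub, R.th_smul ok hnW hnC hθ hκ]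
    exact br_le_brs (hP k hk) (sub_mem_br _ _)
  exact h1 hw.2

/-- `C_M(P)` is invariant under `n` if `P` is -/
theorem up_fxs (R : WRep W Z C M H) (ok : WRep.Ok W Z C) (hnW : n ∈ normalizer (W : Set G))
    (hnZ : n ∈ normalizer (Z : Set G)) (hnC : n ∈ normalizer (C : Set G)) {P : Subgroup H} {κ : H ≃* H}
    (hκ : ∀ c ∈ C, κ (R.phi c) = R.phi (n * c * n⁻¹)) (hP : ∀ x ∈ P, κ.symm x ∈ P) {w : G}
    (hw : w ∈ R.up (fxs M P)) : n * w * n⁻¹ ∈ R.up (fxs M P) := by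
  obtain ⟨θ, hθ⟩ := R.exists_th hnW hnZ
  refine ⟨(mem_normalizer_iff.1 hnW _).1 hw.1, ?_⟩
  rw [← hθ w hw.1, mem_fxs]
  intro k hk
  have h1 := mem_fxs.mp hw.2 _ (hP k hk)
  have h2 := R.th_smul ok hnW hnC hθ hκ (κ.symm k) (R.pi w)
  rw [h1, MulEquiv.apply_symm_apply] at h2
  exact h2.symm

end WRep

end Cfsg.Agent.Omega.NO3S.OneQ

end

-- merged: Cfsg.Agent.Mrg.Omega.NO3S.OneQ.FitQ
section

section


/-!
# NO-3S, natural lines, critical distance 1 (`OneQ`): `A` centralises `F(H)` (helper279's (E) of #17428)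

`QRep V Z M H` : `M = W_Z / Z`, `H = C_G(Z) / K_Z`; `A = R.img (ws V Y)`, `Y ≠ Z` a point of `V`.

* `One.exists_rep`; `One.two`, `One.quad`, `One.elab`, `One.img_eq` (`A` does not depend on `Y`), `One.stab_A`,
  `One.card_A`, `One.index_E`;
* `One.o2h` : `O₂(H) = 1`;
* `Dec V Z` (B), `FLin V Z mz` (C) : helper258's inputs; **`One.fit_cen`** : `A` centralises every nilpotent normal subgroup of `H`.
-/

set_option autoImplicit false
set_option linter.unusedSectionVars false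

namespace Cfsg.Agent.Omega.NO3S.OneQ

open Subgroup Cfsg Cfsg.Agent.Omega.NO3S.PT Cfsg.Agent.Omega.NoFF.Basic
open Cfsg.Agent.Omega.NO3S.Fit.Abs
open Cfsg.Agent.Omega.NO3S.OneQ.FitQ
open scoped Pointwise

universe u

variable {G : Type u} [Group G]

/-- `M = W_Z / Z`, `H = C_G(Z) / K_Z` -/
abbrev QRep (V Z : Subgroup G) (M H : Type u) [AddCommGroup M] [Group H] [DistribMulAction H M] :=
  WRep (ws V Z) Z (centralizer (Z : Set G)) M H

/-- **(B)** of #17428: a decomposition of `W_Z / Z` invariant under `N_G(Z) ∩ N_G(V)`: `W_Y` is trivial on one of the parts -/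
def Dec (V Z : Subgroup G) : Prop :=
  ∀ Y, Pnt V Z Y → Y ≠ Z → ∀ A B : Subgroup G, Z ≤ A → A ≤ ws V Z → Z ≤ B → B ≤ ws V Z →
    (∀ n ∈ normalizer (Z : Set G), n ∈ normalizer (V : Set G) → ∀ w ∈ A, n * w * n⁻¹ ∈ A) →
    (∀ n ∈ normalizer (Z : Set G), n ∈ normalizer (V : Set G) → ∀ w ∈ B, n * w * n⁻¹ ∈ B) →
    A ⊔ B = ws V Z → A ⊓ B = Z →
    (∀ w ∈ A, ∀ u ∈ ws V Y, u * w * u⁻¹ * w⁻¹ ∈ Z) ∨ ∀ w ∈ B, ∀ u ∈ ws V Y, u * w * u⁻¹ * w⁻¹ ∈ Z

/-- **(C)** of #17428: the `F`-structure on `W_Z / C_{W_Z}(K_Z)`; `mz c z = c z` on `Z` -/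
structure FLin (V Z : Subgroup G) {F : Type*} (mz : F → G → G) : Prop where
  mem : ∀ c, ∀ a ∈ Z, mz c a ∈ Z
  mul : ∀ c, ∀ a ∈ Z, ∀ b ∈ Z, mz c (a * b) = mz c a * mz c b
  inj : ∀ c c', ∀ z ∈ Z, z ≠ 1 → mz c z = mz c' z → c = c'
  ex : ∀ c, ∀ w ∈ ws V Z, ∃ w' ∈ ws V Z, ∀ k ∈ kx V Z, k * w' * k⁻¹ * w'⁻¹ = mz c (k * w * k⁻¹ * w⁻¹)
  tr : ∀ u ∈ V, u ∉ Z → ∀ v ∈ V, ∃ c, ∀ k ∈ kx V Z, k * v * k⁻¹ * v⁻¹ = mz c (k * u * k⁻¹ * u⁻¹)
  rad : ∀ w ∈ ws V Z, (∀ k ∈ kx V Z, k * w = w * k) → ∀ Y, Pnt V Z Y → ∀ u ∈ ws V Y, u * w * u⁻¹ * w⁻¹ ∈ Z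

namespace One

variable [Finite G] {S : Sylow 2 G} {B P V Z : Subgroup G} (h : One S B P V Z)
include h

theorem C_norm_W : centralizer (Z : Set G) ≤ normalizer ((ws V Z : Subgroup G) : Set G) :=
  (centralizer_le_normalizer _).trans (normalizer_le_ws V Z)

theorem ok : WRep.Ok (ws V Z) Z (centralizer (Z : Set G)) :=
  ⟨fun _ ha _ hb => h.comm_W h.pl.isCj_self ha hb, h.pl.Z_le_ws, h.C_norm_W⟩

theorem exists_rep : ∃ (M H : Type u) (_ : AddCommGroup M) (_ : Finite M) (_ : Group H)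
    (_ : Finite H) (_ : DistribMulAction H M) (_ : FaithfulSMul H M), Nonempty (QRep V Z M H) :=
  exists_wrep h.ok.ab h.ok.CW (centralizer_le_normalizer _)

variable {M H : Type u} [AddCommGroup M] [Group H] [DistribMulAction H M] (R : QRep V Z M H)
variable {Y : Subgroup G} (hY : Pnt V Z Y) (hne : Y ≠ Z)

include R in
theorem two (m : M) : m + m = 0 := by
  obtain ⟨w, hw, rfl⟩ := R.pi_surj m
  rw [← R.pi_mul w hw w hw, h.sq_W h.self hw, R.pi_one]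

theorem phi_ker' {c : G} (hc : c ∈ centralizer (Z : Set G)) : R.phi c = 1 ↔ c ∈ kx V Z := by
  rw [R.phi_ker c hc, mem_kx]
  exact ⟨fun h1 => ⟨fun x hx => (mem_centralizer_iff.1 hc x hx).symm, h1⟩, fun h1 => h1.2⟩

theorem W_le_C (hY : Pnt V Z Y) : ws V Y ≤ centralizer (Z : Set G) :=
  (h.W_le_cent hY).trans (centralizer_le h.pl.ZV)

theorem V_le_W' : V ≤ ws V Z := h.V_le_W h.self

theorem K_le_C : kx V Z ≤ centralizer (Z : Set G) := kx_le_cent

theorem conj_pnt {c : G} (hc : c ∈ normalizer (Z : Set G)) (hcV : c ∈ normalizer (V : Set G)) (hY : Pnt V Z Y)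
    (hne : Y ≠ Z) : Pnt V Z (cj c Y) ∧ cj c Y ≠ Z := by
  refine ⟨hY.conj hcV, fun e => hne ?_⟩
  have : cj c Y = cj c Z := by rw [e, cj_eq_iff.2 hc]
  exact cj_inj.1 this

/-- `A` does not depend on `Y` -/
theorem img_le {Y' : Subgroup G} (hY : Pnt V Z Y) (hne : Y ≠ Z) (hY' : Pnt V Z Y') (hne' : Y' ≠ Z) :
    R.img (ws V Y') ≤ R.img (ws V Y) := by
  intro x hx
  obtain ⟨w, hw, rfl⟩ := (R.mem_img (h.W_le_C hY')).mp hx
  obtain ⟨k, hk, rfl⟩ := h.move h.self hY hY' hne hne'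
  rw [ws_cj, mem_cj] at hw
  rw [R.mem_img (h.W_le_C hY)]
  refine ⟨k⁻¹ * w * k, hw, ?_⟩
  have hkC := h.K_le_C hk
  have hwC := h.W_le_C hY hw
  have e : w = k * (k⁻¹ * w * k) * k⁻¹ := by group
  have hk1 : R.phi k = 1 := (h.phi_ker' R hkC).mpr hk
  have hk2 : R.phi k⁻¹ = 1 := by rw [R.phi_inv hkC, hk1, inv_one]
  conv_rhs => rw [e, R.phi_mul _ (mul_mem hkC hwC) _ (inv_mem hkC), R.phi_mul _ hkC _ hwC, hk1, hk2, one_mul, mul_one]

theorem img_eq {Y' : Subgroup G} (hY : Pnt V Z Y) (hne : Y ≠ Z) (hY' : Pnt V Z Y') (hne' : Y' ≠ Z) :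
    R.img (ws V Y') = R.img (ws V Y) :=
  le_antisymm (h.img_le R hY hne hY' hne') (h.img_le R hY' hne' hY hne)

/-- `A` is quadratic -/
theorem quad (hY : Pnt V Z Y) (hne : Y ≠ Z) : ∀ a ∈ R.img (ws V Y), ∀ b ∈ R.img (ws V Y), ∀ m : M,
    a • (b • m - m) = b • m - m := by
  intro a ha b hb m
  obtain ⟨u, hu, rfl⟩ := (R.mem_img (h.W_le_C hY)).mp ha
  obtain ⟨v, hv, rfl⟩ := (R.mem_img (h.W_le_C hY)).mp hb
  obtain ⟨w, hw, rfl⟩ := R.pi_surj m
  rw [← R.pi_comm h.ok (h.W_le_C hY hv) hw]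
  have h1 : v * w * v⁻¹ * w⁻¹ ∈ IV V Z := h.comm_mem hY h.self hne hv hw
  have h2 := h.I_le_W h.self h1
  rw [R.act u (h.W_le_C hY hu) _ h2]
  congr 1
  rw [← h.I_comm_W hY h1 hu, mul_inv_cancel_right]

/-- `A` is elementary abelian -/
theorem elabA (hY : Pnt V Z Y) : Cfsg.IsElementaryAbelian 2 (R.img (ws V Y)) := by
  have hm : ∀ a ∈ R.img (ws V Y), ∀ b ∈ R.img (ws V Y), a * b = b * a := by
    intro a ha b hb
    obtain ⟨u, hu, rfl⟩ := (R.mem_img (h.W_le_C hY)).mp ha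
    obtain ⟨v, hv, rfl⟩ := (R.mem_img (h.W_le_C hY)).mp hb
    rw [← R.phi_mul u (h.W_le_C hY hu) v (h.W_le_C hY hv), h.comm_W hY.cj hu hv,
      R.phi_mul v (h.W_le_C hY hv) u (h.W_le_C hY hu)]
  refine ⟨⟨⟨fun a b => Subtype.ext (hm a a.2 b b.2)⟩⟩, fun a ha => ?_⟩
  obtain ⟨u, hu, rfl⟩ := (R.mem_img (h.W_le_C hY)).mp ha
  rw [pow_two, ← R.phi_mul u (h.W_le_C hY hu) u (h.W_le_C hY hu), h.sq_W hY hu, R.phi_one]

/-- `|A| = |W_Y : E_Y|` -/
theorem card_A (hY : Pnt V Z Y) (hne : Y ≠ Z) : Nat.card (R.img (ws V Y)) = (ee V Z Y).relIndex (ws V Y) := by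
  have h1 : R.hom.ker = (kx V Z).subgroupOf (centralizer (Z : Set G)) := by
    ext c
    rw [MonoidHom.mem_ker, mem_subgroupOf]
    exact h.phi_ker' R c.2
  have h2 : Nat.card (R.img (ws V Y)) =
      R.hom.ker.relIndex ((ws V Y).subgroupOf (centralizer (Z : Set G))) := by
    rw [relIndex_ker]; rfl
  rw [h2, h1, relIndex_subgroupOf (h.W_le_C hY), h.ee_eq hY h.self hne.symm, inf_comm, inf_relIndex_right]

theorem mem_lam {m : M} : m ∈ R.dn V ↔ ∃ v ∈ V, R.pi v = m := R.mem_dn h.V_le_W'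

theorem mem_eb {m : M} : m ∈ R.dn (ee V Z Z) ↔ ∃ v ∈ ee V Z Z, R.pi v = m := R.mem_dn ee_le

theorem lam_fix (hY : Pnt V Z Y) : ∀ a ∈ R.img (ws V Y), ∀ v ∈ R.dn V, a • v = v := by
  intro a ha m hm
  obtain ⟨v, hv, rfl⟩ := (h.mem_lam R).mp hm
  obtain ⟨u, hu, rfl⟩ := (R.mem_img (h.W_le_C hY)).mp ha
  rw [R.act u (h.W_le_C hY hu) v (h.V_le_W' hv), h.cent_V (h.W_le_cent hY hu) hv, mul_inv_cancel_right]

theorem eb_act (hY : Pnt V Z Y) (hne : Y ≠ Z) : ∀ a ∈ R.img (ws V Y), ∀ m ∈ R.dn (ee V Z Z), a • m - m ∈ R.dn V := by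
  intro a ha m hm
  obtain ⟨v, hv, rfl⟩ := (h.mem_eb R).mp hm
  obtain ⟨u, hu, rfl⟩ := (R.mem_img (h.W_le_C hY)).mp ha
  rw [← R.pi_comm h.ok (h.W_le_C hY hu) (ee_le hv)]
  exact (h.mem_lam R).mpr ⟨_, hY.le (h.ee_act' hY hne hv hu), rfl⟩

theorem Z_le_ee : Z ≤ ee V Z Z := (h.X_le_dd h.self).trans (h.dd_le_ee h.self)

theorem index_eb_le (hY : Pnt V Z Y) (hne : Y ≠ Z) : (R.dn (ee V Z Z)).index ≤ Nat.card (R.img (ws V Y)) := by
  rw [R.index_dn h.Z_le_ee ee_le, h.card_A R hY hne, h.relIndex_ee h.self hY]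

/-- an element of `H` which fixes the line vectors normalises `A` -/
theorem stab_A (hY : Pnt V Z Y) (hne : Y ≠ Z) (x : H) (hx : ∀ v ∈ R.dn V, x • v = v) :
    ∀ a ∈ R.img (ws V Y), x * a * x⁻¹ ∈ R.img (ws V Y) := by
  intro a ha
  obtain ⟨u, hu, rfl⟩ := (R.mem_img (h.W_le_C hY)).mp ha
  obtain ⟨c, hc, rfl⟩ := R.phi_surj x
  have hcZ : c ∈ normalizer (Z : Set G) := centralizer_le_normalizer _ hc
  have h1 : ∀ v ∈ V, c * v * c⁻¹ ∈ V := by
    intro v hv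
    have h2 := hx _ ((h.mem_lam R).mpr ⟨v, hv, rfl⟩)
    have hvW := h.V_le_W' hv
    have hcv : c * v * c⁻¹ ∈ ws V Z := (mem_normalizer_iff.1 (h.C_norm_W hc) _).1 hvW
    rw [R.act c hc v hvW, R.pi_eq hcv hvW] at h2
    have e : c * v * c⁻¹ = c * v * c⁻¹ * v⁻¹ * v := by group
    rw [e]
    exact mul_mem (h.pl.ZV h2) hv
  have hcV : c ∈ normalizer (V : Set G) := by
    rw [← cj_eq_iff]
    refine eq_of_le_of_card_ge ?_ (by rw [card_cj])
    intro v hv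
    rw [mem_cj] at hv
    have := h1 _ hv
    have e : c * (c⁻¹ * v * c) * c⁻¹ = v := by group
    rwa [e] at this
  obtain ⟨h3, h4⟩ := h.conj_pnt hcZ hcV hY hne
  rw [← h.img_eq R hY hne h3 h4, R.mem_img (h.W_le_C h3)]
  refine ⟨c * u * c⁻¹, ?_, ?_⟩
  · rw [ws_cj]; exact conj_mem_cj hu
  · have huC := h.W_le_C hY hu
    rw [R.phi_mul _ (mul_mem hc huC) _ (inv_mem hc), R.phi_mul c hc u huC, R.phi_inv hc]

/-! ### `O₂(H) = 1` -/

theorem img_S_index : ¬ 2 ∣ (R.img B).index := by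
  intro hd
  have h1 : (R.img B).index ∣ (B.subgroupOf (centralizer (Z : Set G))).index := index_map_dvd _ R.hom_surj
  exact h.B_index (hd.trans h1)

include R in
/-- **`O₂(H) = 1`** -/
theorem o2h [Finite H] [FaithfulSMul H M] : Cfsg.pCore 2 H = ⊥ := by
  classical
  have : Fact (Nat.Prime 2) := ⟨Nat.prime_two⟩
  have hS2 : IsPGroup 2 (R.img B) := by
    have : IsPGroup 2 (B.subgroupOf (centralizer (Z : Set G))) :=
      h.isP_B.comap_of_injective _ (subtype_injective _)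
    exact this.map _
  have hle : Cfsg.pCore 2 H ≤ R.img B := by
    have h1 := Cfsg.Agent.Lib.Cores.pCore_le_sylow (hS2.toSylow (h.img_S_index R))
    exact h1
  have hch : (Cfsg.pCore 2 H).Characteristic := Cfsg.Agent.Lib.Cores.pCore_characteristic 2
  -- `O₂(H)` fixes the line vectors
  have hfix : ∀ x ∈ Cfsg.pCore 2 H, ∀ v ∈ V, x • R.pi v = R.pi v := by
    intro x hx v hv
    obtain ⟨s, hs, rfl⟩ := (R.mem_img h.B_le_C).mp (hle hx)
    have hsC := h.B_le_C hs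
    have hvW := h.V_le_W' hv
    rw [R.act s hsC v hvW, R.pi_eq ((mem_normalizer_iff.1 (h.C_norm_W hsC) _).1 hvW) hvW]
    exact h.pl.act s hs v hv
  rw [eq_bot_iff]
  intro x hx
  rw [mem_bot]
  refine FaithfulSMul.eq_of_smul_eq_smul (α := M) fun m => ?_
  rw [one_smul]
  obtain ⟨w, hw, rfl⟩ := R.pi_surj m
  let B : Subgroup G := R.up (fx M x)
  have hWB : ws V Z ≤ B := by
    refine ws_le fun L hL hZL => ?_
    obtain ⟨g, rfl⟩ := hL
    -- `g p ∈ N(Z)`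
    have h1 : Pnt V Z (cj g⁻¹ Z) := ⟨h.pl.isCj_self.cj _, cj_le_iff.2 (by rw [inv_inv]; exact hZL)⟩
    obtain ⟨p, hp, e⟩ := h.pl.exists_pt h1.cj h1.le
    have hpV : cj p V = V := cj_eq_iff.2 (h.pl.PN hp)
    set n := g * p with hn
    have hnZ : n ∈ normalizer (Z : Set G) := by
      rw [← cj_eq_iff, hn, ← cj_cj, ← e, cj_cj, mul_inv_cancel, cj_one]
    have hnV : cj g V = cj n V := by rw [hn, ← cj_cj, hpV]
    rw [hnV]
    intro v hv
    rw [mem_cj] at hv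
    have hnW : n ∈ normalizer ((ws V Z : Subgroup G) : Set G) := normalizer_le_ws V Z hnZ
    have hnC : n ∈ normalizer ((centralizer (Z : Set G) : Subgroup G) : Set G) := by
      rw [← cj_eq_iff, cj_centralizer, cj_eq_iff.2 hnZ]
    obtain ⟨θ, hθ⟩ := R.exists_th hnW hnZ
    obtain ⟨κ, hκ⟩ := R.exists_ka hnW hnZ hnC
    have hv0 : n⁻¹ * v * n ∈ ws V Z := h.V_le_W' hv
    have e1 : v = n * (n⁻¹ * v * n) * n⁻¹ := by group
    have hvW : v ∈ ws V Z := by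
      rw [e1]; exact (mem_normalizer_iff.1 hnW _).1 hv0
    refine ⟨hvW, ?_⟩
    rw [mem_fx, e1, ← hθ _ hv0]
    have h2 := R.th_smul h.ok hnW hnC hθ hκ (κ.symm x) (R.pi (n⁻¹ * v * n))
    rw [MulEquiv.apply_symm_apply] at h2
    rw [← h2, hfix _ ?_ _ hv]
    have h3 := characteristic_iff_le_comap.1 hch κ.symm hx
    exact h3
  exact (hWB hw).2

/-! ### the `F`-structure -/

theorem comm_mul {k a b : G} (hk : k ∈ kx V Z) (ha : a ∈ ws V Z) (hb : b ∈ ws V Z) :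
    k * (a * b) * k⁻¹ * (a * b)⁻¹ = (k * a * k⁻¹ * a⁻¹) * (k * b * k⁻¹ * b⁻¹) := by
  have h1 : k * b * k⁻¹ * b⁻¹ ∈ Z := (mem_kx.1 hk).2 b hb
  have h2 := h.comm_W h.pl.isCj_self ha (h.pl.Z_le_ws h1)
  calc k * (a * b) * k⁻¹ * (a * b)⁻¹ = (k * a * k⁻¹) * ((k * b * k⁻¹ * b⁻¹) * a⁻¹) := by group
    _ = (k * a * k⁻¹) * (a⁻¹ * (k * b * k⁻¹ * b⁻¹)) := by
        rw [(show Commute a (k * b * k⁻¹ * b⁻¹) from h2).inv_left.eq]
    _ = _ := by group

theorem comm_inv {k b : G} (hk : k ∈ kx V Z) (hb : b ∈ ws V Z) :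
    k * b⁻¹ * k⁻¹ * b⁻¹⁻¹ = (k * b * k⁻¹ * b⁻¹)⁻¹ := by
  have h1 := h.comm_mul hk hb (inv_mem hb)
  rw [eq_comm, inv_eq_iff_mul_eq_one, ← h1]
  group

theorem comm_Z {k z : G} (hk : k ∈ kx V Z) (hz : z ∈ Z) : k * z * k⁻¹ * z⁻¹ = 1 := by
  rw [(mem_kx.1 hk).1 z hz]; group

theorem comm_eq {k a b : G} (hk : k ∈ kx V Z) (ha : a ∈ ws V Z) (hb : b ∈ ws V Z) (hab : a * b⁻¹ ∈ Z) :
    k * a * k⁻¹ * a⁻¹ = k * b * k⁻¹ * b⁻¹ := by
  have h1 := h.comm_Z hk hab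
  rw [h.comm_mul hk ha (inv_mem hb), h.comm_inv hk hb, mul_inv_eq_one] at h1
  exact h1

omit h in
theorem rad_le : ws V Z ⊓ centralizer ((kx V Z : Subgroup G) : Set G) ≤ ws V Z := inf_le_left

theorem linRel {F : Type*} {mz : F → G → G} (L : FLin V Z mz) (hY : Pnt V Z Y) :
    LinRel H (R.img (ws V Y)) (R.dn (ws V Z ⊓ centralizer ((kx V Z : Subgroup G) : Set G)))
      (fun (c : F) (m m' : M) => ∃ w ∈ ws V Z, ∃ w' ∈ ws V Z, R.pi w = m ∧ R.pi w' = m' ∧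
        ∀ k ∈ kx V Z, k * w' * k⁻¹ * w'⁻¹ = mz c (k * w * k⁻¹ * w⁻¹)) where
  inv := by
    intro x m hm
    obtain ⟨w, hw, rfl⟩ := (R.mem_dn rad_le).mp hm
    obtain ⟨c, hc, rfl⟩ := R.phi_surj x
    have hcw := (mem_normalizer_iff.1 (h.C_norm_W hc) _).1 hw.1
    rw [R.act c hc w hw.1]
    refine (R.mem_dn rad_le).mpr ⟨_, ⟨hcw, ?_⟩, rfl⟩
    refine mem_centralizer_iff.2 fun k hk => ?_
    have hk' : c⁻¹ * k * c ∈ kx V Z := by
      have := (mem_normalizer_iff.1 (normalizer_le_kx V Z (centralizer_le_normalizer _ (inv_mem hc))) k).1 hk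
      simpa using this
    have h1 := mem_centralizer_iff.1 hw.2 _ hk'
    calc k * (c * w * c⁻¹) = c * (c⁻¹ * k * c * w) * c⁻¹ := by group
      _ = c * w * c⁻¹ * k := by rw [h1]; group
  cen := by
    intro a ha m hm
    obtain ⟨u, hu, rfl⟩ := (R.mem_img (h.W_le_C hY)).mp ha
    obtain ⟨w, hw, rfl⟩ := (R.mem_dn rad_le).mp hm
    have h1 := L.rad w hw.1 (fun k hk => (mem_centralizer_iff.1 hw.2 k hk)) Y hY u hu
    rw [← sub_eq_zero, ← R.pi_comm h.ok (h.W_le_C hY hu) hw.1]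
    exact (R.pi_ker _ (h.pl.Z_le_ws h1)).mpr h1
  ex := by
    intro c m
    obtain ⟨w, hw, rfl⟩ := R.pi_surj m
    obtain ⟨w', hw', e⟩ := L.ex c w hw
    exact ⟨R.pi w', w, hw, w', hw', rfl, rfl, e⟩
  smul := by
    rintro c _ _ x ⟨w, hw, w', hw', rfl, rfl, e⟩
    obtain ⟨g, hg, rfl⟩ := R.phi_surj x
    have hN := h.C_norm_W hg
    refine ⟨g * w * g⁻¹, (mem_normalizer_iff.1 hN _).1 hw, g * w' * g⁻¹, (mem_normalizer_iff.1 hN _).1 hw',
      (R.act g hg w hw).symm, (R.act g hg w' hw').symm, ?_⟩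
    intro k hk
    have hk' : g⁻¹ * k * g ∈ kx V Z := by
      have := (mem_normalizer_iff.1 (normalizer_le_kx V Z (centralizer_le_normalizer _ (inv_mem hg))) k).1 hk
      simpa using this
    have key : ∀ v ∈ ws V Z, k * (g * v * g⁻¹) * k⁻¹ * (g * v * g⁻¹)⁻¹ =
        (g⁻¹ * k * g) * v * (g⁻¹ * k * g)⁻¹ * v⁻¹ := by
      intro v hv
      have h1 := (mem_kx.1 hk').2 v hv
      have h2 := mem_centralizer_iff.1 hg _ h1
      calc k * (g * v * g⁻¹) * k⁻¹ * (g * v * g⁻¹)⁻¹ =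
          g * ((g⁻¹ * k * g) * v * (g⁻¹ * k * g)⁻¹ * v⁻¹) * g⁻¹ := by group
        _ = _ := by rw [← h2, mul_inv_cancel_right]
    rw [key w' hw', key w hw]
    exact e _ hk'
  sub := by
    rintro c _ _ _ _ ⟨w, hw, w', hw', rfl, rfl, e⟩ ⟨v, hv, v', hv', rfl, rfl, e'⟩
    refine ⟨w * v⁻¹, mul_mem hw (inv_mem hv), w' * v'⁻¹, mul_mem hw' (inv_mem hv'), ?_, ?_, ?_⟩
    · rw [R.pi_mul _ hw _ (inv_mem hv), R.pi_inv hv, sub_eq_add_neg]
    · rw [R.pi_mul _ hw' _ (inv_mem hv'), R.pi_inv hv', sub_eq_add_neg]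
    · intro k hk
      have hz := (mem_kx.1 hk).2 w hw
      have hz' := (mem_kx.1 hk).2 v hv
      have h1 : mz c (1 : G) = 1 := by
        have := L.mul c 1 (one_mem _) 1 (one_mem _)
        rw [mul_one] at this
        exact (mul_eq_left.mp this.symm)
      have h2 : mz c (k * v * k⁻¹ * v⁻¹)⁻¹ = (mz c (k * v * k⁻¹ * v⁻¹))⁻¹ := by
        have := L.mul c _ hz' _ (inv_mem hz')
        rw [mul_inv_cancel, h1] at this
        exact (inv_eq_of_mul_eq_one_right this.symm).symm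
      rw [h.comm_mul hk hw' (inv_mem hv'), h.comm_inv hk hv', e k hk, e' k hk, h.comm_mul hk hw (inv_mem hv),
        h.comm_inv hk hv, L.mul c _ hz _ (inv_mem hz'), h2]
  zero := by
    rintro c _ ⟨w, hw, w', hw', e0, rfl, e⟩
    have hwZ := (R.pi_ker w hw).mp e0
    have h1 : mz c (1 : G) = 1 := by
      have := L.mul c 1 (one_mem _) 1 (one_mem _)
      rw [mul_one] at this
      exact (mul_eq_left.mp this.symm)
    refine (R.mem_dn rad_le).mpr ⟨w', ⟨hw', ?_⟩, rfl⟩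
    refine mem_centralizer_iff.2 fun k hk => ?_
    have h2 := e k hk
    rw [h.comm_Z hk hwZ, h1, mul_inv_eq_one, mul_inv_eq_iff_eq_mul] at h2
    exact h2
  inj := by
    rintro c c' _ _ ⟨w, hw, w', hw', rfl, rfl, e⟩ ⟨v, hv, v', hv', e1, e2, e'⟩ hne
    refine (R.mem_dn rad_le).mpr ⟨w, ⟨hw, ?_⟩, rfl⟩
    refine mem_centralizer_iff.2 fun k hk => ?_
    rw [R.pi_eq hv hw] at e1
    rw [R.pi_eq hv' hw'] at e2
    have h1 := h.comm_eq hk hv hw e1
    have h2 := h.comm_eq hk hv' hw' e2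
    have h3 : mz c (k * w * k⁻¹ * w⁻¹) = mz c' (k * w * k⁻¹ * w⁻¹) := by
      rw [← e k hk, ← h2, e' k hk, h1]
    by_contra hcon
    apply hne
    refine L.inj c c' _ ((mem_kx.1 hk).2 w hw) ?_ h3
    intro h4
    apply hcon
    rw [mul_inv_eq_one, mul_inv_eq_iff_eq_mul] at h4
    exact h4

/-! ### `|A| > 2` -/

omit h in
/-- two elements of `W` outside `E`, `|W : E| ≤ 2`, differ by an element of `E` -/
theorem mem_of_relIndex {E W : Subgroup G} (hi : E.relIndex W ≤ 2) {a b : G} (ha : a ∈ W) (hb : b ∈ W)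
    (ha' : a ∉ E) (hb' : b ∉ E) : a⁻¹ * b ∈ E := by
  have hi2 : E.relIndex W = 2 := by
    have h1 : E.relIndex W ≠ 0 := Subgroup.FiniteIndex.index_ne_zero
    have h2 : E.relIndex W ≠ 1 := by
      rw [Ne, relIndex_eq_one]
      exact fun e => ha' (e ha)
    omega
  have h1 := mul_mem_iff_of_index_two (H := E.subgroupOf W) hi2 (a := (⟨a, ha⟩ : W)⁻¹) (b := ⟨b, hb⟩)
  simp only [inv_mem_iff, mem_subgroupOf, coe_mul, coe_inv] at h1
  exact h1.mpr (iff_of_false ha' hb')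

omit h in
/-- `|Z⟨r⟩| ≤ 2 |Z|` -/
theorem exists_ext {Z : Subgroup G} {r : G} (hr : r * r = 1) (hc : ∀ z ∈ Z, z * r = r * z) :
    ∃ B : Subgroup G, Z ≤ B ∧ r ∈ B ∧ Nat.card B ≤ Nat.card Z * 2 := by
  classical
  let B : Subgroup G :=
    { carrier := {x | x ∈ Z ∨ x * r ∈ Z}
      one_mem' := Or.inl (one_mem _)
      mul_mem' := by
        rintro x y (hx | hx) (hy | hy)
        · exact Or.inl (mul_mem hx hy)
        · refine Or.inr ?_
          rw [mul_assoc]; exact mul_mem hx hy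
        · refine Or.inr ?_
          rw [mul_assoc, hc y hy, ← mul_assoc]; exact mul_mem hx hy
        · refine Or.inl ?_
          have h1 : r * (y * r) = y * r * r := (hc _ hy).symm
          have h2 : x * y = x * r * (y * r) := by
            calc x * y = x * (y * (r * r)) := by rw [hr, mul_one]
              _ = x * (y * r * r) := by group
              _ = x * (r * (y * r)) := by rw [h1]
              _ = _ := by group
          rw [h2]; exact mul_mem hx hy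
      inv_mem' := by
        rintro x (hx | hx)
        · exact Or.inl (inv_mem hx)
        · refine Or.inr ?_
          have h1 := inv_mem hx
          have h2 := hc _ h1
          have h3 : x⁻¹ * r = (x * r)⁻¹ := by
            have hr' : r⁻¹ = r := inv_eq_of_mul_eq_one_left hr
            rw [mul_inv_rev, hr'] at h2 ⊢
            calc x⁻¹ * r = r * (r * x⁻¹ * r) := by
                  rw [← mul_assoc, ← mul_assoc, hr, one_mul]
              _ = r * (r * (r * x⁻¹)) := by rw [h2]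
              _ = (r * r) * (r * x⁻¹) := by group
              _ = _ := by rw [hr, one_mul]
          rw [h3]; exact h1 }
  refine ⟨B, fun z hz => Or.inl hz, Or.inr (by rw [hr]; exact one_mem _), ?_⟩
  have h1 : Nat.card B ≤ Nat.card (Z × Bool) := by
    refine Nat.card_le_card_of_injective
      (fun x : B => if hx : (x : G) ∈ Z then ((⟨x, hx⟩ : Z), false)
        else ((⟨x * r, x.2.resolve_left hx⟩ : Z), true)) ?_
    intro x y hxy
    simp only at hxy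
    by_cases hx : (x : G) ∈ Z <;> by_cases hy : (y : G) ∈ Z
    · rw [dif_pos hx, dif_pos hy] at hxy
      exact Subtype.ext (congrArg (fun t => (t.1 : G)) hxy)
    · rw [dif_pos hx, dif_neg hy] at hxy
      exact absurd (congrArg Prod.snd hxy) Bool.false_ne_true
    · rw [dif_neg hx, dif_pos hy] at hxy
      exact absurd (congrArg Prod.snd hxy).symm Bool.false_ne_true
    · rw [dif_neg hx, dif_neg hy] at hxy
      exact Subtype.ext (mul_right_cancel (congrArg (fun t => (t.1 : G)) hxy))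
  rw [Nat.card_prod, Nat.card_eq_fintype_card (α := Bool), Fintype.card_bool] at h1
  exact h1

/-- `|A| ≤ 2` implies that `E_Y` centralises `W_Z` -/
theorem cent_EY {F : Type*} {mz : F → G → G} (L : FLin V Z mz) (hF : 4 ≤ Nat.card F)
    (hY : Pnt V Z Y) (hne : Y ≠ Z) (hlt : (ee V Z Z).relIndex (ws V Z) ≤ 2) :
    ∀ e ∈ ee V Z Y, ∀ w ∈ ws V Z, e * w = w * e := by
  classical
  intro e he w hw
  have hek : e ∈ kx V Z := (mem_ee.1 he).2 Z h.self hne.symm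
  by_contra hcon
  have hz1 : e * w * e⁻¹ * w⁻¹ ≠ 1 := by
    rw [Ne, mul_inv_eq_one, mul_inv_eq_iff_eq_mul]; exact hcon
  choose g hgW hg using fun c => L.ex c w hw
  have hval : ∀ c, mz c (e * w * e⁻¹ * w⁻¹) = 1 ∨ mz c (e * w * e⁻¹ * w⁻¹) = e * w * e⁻¹ * w⁻¹ := by
    intro c
    rw [← hg c e hek]
    have hwE : w ∉ ee V Z Z := fun hwE => hcon (h.ee_comm hY h.self hne he hwE)
    by_cases hgE : g c ∈ ee V Z Z
    · left
      rw [h.ee_comm hY h.self hne he hgE]; group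
    · right
      have h1 := mem_of_relIndex hlt hw (hgW c) hwE hgE
      have h2 : g c = w * (w⁻¹ * g c) := by group
      have h3 : e * (w⁻¹ * g c) * e⁻¹ * (w⁻¹ * g c)⁻¹ = 1 := by
        rw [h.ee_comm hY h.self hne he h1]; group
      rw [h2, h.comm_mul hek hw (mul_mem (inv_mem hw) (hgW c)), h3, mul_one]
  have h1 : Nat.card F ≤ Nat.card ({1, e * w * e⁻¹ * w⁻¹} : Set G) := by
    refine Nat.card_le_card_of_injective
      (fun c => (⟨mz c (e * w * e⁻¹ * w⁻¹), by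
        rcases hval c with h | h
        · rw [h]; exact Set.mem_insert _ _
        · rw [h]; exact Set.mem_insert_of_mem _ rfl⟩ : ({1, e * w * e⁻¹ * w⁻¹} : Set G))) ?_
    intro c c' hc
    exact L.inj c c' _ ((mem_kx.1 hek).2 w hw) hz1 (congrArg Subtype.val hc)
  have h2 : Nat.card ({1, e * w * e⁻¹ * w⁻¹} : Set G) ≤ 2 := by
    rw [Nat.card_coe_set_eq]
    exact Set.ncard_insert_le _ _ |>.trans (by rw [Set.ncard_singleton])
  omega

/-- `|A| > 2` -/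
theorem two_lt_card {F : Type*} {mz : F → G → G} (L : FLin V Z mz) (hF : 4 ≤ Nat.card F)
    (hY : Pnt V Z Y) (hne : Y ≠ Z)
    (hV : ∀ B : Subgroup G, Z ≤ B → (∀ w ∈ ws V Z, ∀ u ∈ ws V Y, u * w * u⁻¹ * w⁻¹ ∈ B) → V ≤ B) :
    2 < Nat.card (R.img (ws V Y)) := by
  classical
  rw [h.card_A R hY hne]
  by_contra hlt
  push Not at hlt
  have hltZ : (ee V Z Z).relIndex (ws V Z) ≤ 2 := by rw [h.relIndex_ee h.self hY]; exact hlt
  have hEY := h.cent_EY L hF hY hne hltZ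
  -- `E_Z` centralises `W_Y`
  have hEZ : ∀ e ∈ ee V Z Z, ∀ u ∈ ws V Y, e * u = u * e := by
    intro e he u hu
    obtain ⟨k, hk, -, hkZ, hkY⟩ := h.pl.swap h.hf h.self.cj h.self.le hY.cj hY.le
    have h1 : k * e * k⁻¹ ∈ ee V Z Y := by
      have h2 := conj_mem_cj (g := k) he
      rwa [cj_ee (h.pl.XV_le_N hk), hkZ] at h2
    have h2 : k * u * k⁻¹ ∈ ws V Z := by
      have h2 := conj_mem_cj (g := k) hu
      rwa [← ws_cj, hkY] at h2
    have h3 := hEY _ h1 _ h2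
    have h4 : k * (e * u) * k⁻¹ = k * (u * e) * k⁻¹ := by
      calc k * (e * u) * k⁻¹ = k * e * k⁻¹ * (k * u * k⁻¹) := by group
        _ = k * u * k⁻¹ * (k * e * k⁻¹) := h3
        _ = _ := by group
    exact mul_left_cancel (mul_right_cancel h4)
  obtain ⟨w, hw, hwE⟩ : ∃ w ∈ ws V Z, w ∉ ee V Z Z := by
    by_contra hcon
    push Not at hcon
    exact h.ee_ne h.self (le_antisymm ee_le hcon)
  obtain ⟨u, hu, huE⟩ : ∃ u ∈ ws V Y, u ∉ ee V Z Y := by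
    by_contra hcon
    push Not at hcon
    exact h.ee_ne hY (le_antisymm ee_le hcon)
  have hrI : u * w * u⁻¹ * w⁻¹ ∈ IV V Z := h.comm_mem hY h.self hne hu hw
  obtain ⟨B, hZB, hrB, hcB⟩ := exists_ext (Z := Z) (h.I_sq hrI)
    (fun z hz => (h.I_comm_W h.self hrI (h.pl.Z_le_ws hz)).symm)
  have hVB : V ≤ B := by
    refine hV _ hZB fun w1 hw1 u1 hu1 => ?_
    by_cases h1 : w1 ∈ ee V Z Z
    · have : u1 * w1 * u1⁻¹ * w1⁻¹ = 1 := by rw [← hEZ _ h1 _ hu1]; group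
      rw [this]; exact one_mem _
    by_cases h2 : u1 ∈ ee V Z Y
    · have : u1 * w1 * u1⁻¹ * w1⁻¹ = 1 := by rw [hEY _ h2 _ hw1]; group
      rw [this]; exact one_mem _
    have h3 := mem_of_relIndex hltZ hw hw1 hwE h1
    have h4 := mem_of_relIndex hlt hu hu1 huE h2
    have key : ∀ f ∈ ee V Z Z, ∀ g ∈ ee V Z Y, u * g * (w * f) * (u * g)⁻¹ * (w * f)⁻¹ = u * w * u⁻¹ * w⁻¹ := by
      intro f hf g hg
      have c1 : g * w = w * g := hEY _ hg _ hw
      have c2 : g * f = f * g := hEY _ hg _ (ee_le hf)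
      have c3 : f * u = u * f := hEZ _ hf _ hu
      calc u * g * (w * f) * (u * g)⁻¹ * (w * f)⁻¹ = u * (g * w) * f * g⁻¹ * u⁻¹ * f⁻¹ * w⁻¹ := by group
        _ = u * w * (g * f) * g⁻¹ * u⁻¹ * f⁻¹ * w⁻¹ := by rw [c1]; group
        _ = u * w * u⁻¹ * (u * f) * u⁻¹ * f⁻¹ * w⁻¹ := by rw [c2]; group
        _ = u * w * u⁻¹ * w⁻¹ := by rw [← c3]; group
    have e1 : w1 = w * (w⁻¹ * w1) := by group
    have e2 : u1 = u * (u⁻¹ * u1) := by group
    have e3 := key _ h3 _ h4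
    rw [← e1, ← e2] at e3
    rw [e3]; exact hrB
  -- the order
  have hZle : 4 ≤ Nat.card Z := by
    obtain ⟨z, hz, hz1⟩ := h.pl.pt_ne_bot h.self.cj
    refine hF.trans (Nat.card_le_card_of_injective (fun c : F => (⟨mz c z, L.mem c z hz⟩ : Z)) ?_)
    intro c c' hc
    exact L.inj c c' z hz hz1 (congrArg Subtype.val hc)
  have h2 := (Nat.le_of_dvd Nat.card_pos (card_dvd_of_le hVB)).trans hcB
  rw [h.pl.card] at h2
  nlinarith

/-! ### the theorem -/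

/-- **(B)** for `[N, A]`, `N` a characteristic subgroup of `H` -/
theorem hB (D : Dec V Z) (hY : Pnt V Z Y) (hne : Y ≠ Z) [Finite H] (two : ∀ m : M, m + m = 0) {N : Subgroup H}
    (hN : N.Characteristic) (hNo : Odd (Nat.card N)) :
    (∀ a ∈ R.img (ws V Y), ∀ m ∈ brs M (cmm N (R.img (ws V Y))), a • m = m) ∨
      ∀ a ∈ R.img (ws V Y), ∀ m ∈ fxs M (cmm N (R.img (ws V Y))), a • m = m := by
  classical
  set A := R.img (ws V Y) with hA
  have hNn : N.Normal := inferInstance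
  have hPN : cmm N A ≤ N := cmm_le fun a _ f hf => hNn.conj_mem f hf a
  have hPo : Odd (Nat.card (cmm N A)) := hNo.of_dvd_nat (card_dvd_of_le hPN)
  -- the automorphisms of `H` induced by `N_G(Z) ∩ N_G(V)` normalise `[N, A]`
  have hκ : ∀ n ∈ normalizer (Z : Set G), n ∈ normalizer (V : Set G) → ∀ κ : H ≃* H,
      (∀ c ∈ centralizer (Z : Set G), κ (R.phi c) = R.phi (n * c * n⁻¹)) → ∀ x ∈ cmm N A, κ x ∈ cmm N A := by
    intro n hnZ hnV κ hκ x hx
    obtain ⟨h3, h4⟩ := h.conj_pnt hnZ hnV hY hne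
    have hκA : ∀ a ∈ A, κ a ∈ A := by
      intro a ha
      obtain ⟨u, hu, rfl⟩ := (R.mem_img (h.W_le_C hY)).mp ha
      rw [hκ u (h.W_le_C hY hu), hA, ← h.img_eq R hY hne h3 h4, R.mem_img (h.W_le_C h3)]
      exact ⟨_, by rw [ws_cj]; exact conj_mem_cj hu, rfl⟩
    have h1 : cmm N A ≤ (cmm N A).comap κ.toMonoidHom := by
      rw [cmm, closure_le]
      rintro _ ⟨f, hf, a, ha, rfl⟩
      change κ (f * a * f⁻¹ * a⁻¹) ∈ cmm N A
      rw [map_mul, map_mul, map_mul, map_inv, map_inv]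
      exact subset_closure ⟨κ f, characteristic_iff_le_comap.1 hN κ hf, κ a, hκA a ha, rfl⟩
    exact h1 hx
  have hinv : ∀ n ∈ normalizer (Z : Set G), n ∈ normalizer (V : Set G) →
      n ∈ normalizer ((ws V Z : Subgroup G) : Set G) ∧
      n ∈ normalizer ((centralizer (Z : Set G) : Subgroup G) : Set G) := by
    intro n hnZ hnV
    refine ⟨normalizer_le_ws V Z hnZ, ?_⟩
    rw [← cj_eq_iff, cj_centralizer, cj_eq_iff.2 hnZ]
  have h1 := D Y hY hne (R.up (brs M (cmm N A))) (R.up (fxs M (cmm N A))) (R.le_up h.pl.Z_le_ws _) (R.up_le _)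
    (R.le_up h.pl.Z_le_ws _) (R.up_le _) ?_ ?_ (R.up_sup h.pl.Z_le_ws (exists_decomp_sub two hPo))
    (R.up_inf h.pl.Z_le_ws fun m hm hm' => brs_inf_fxs two hPo hm hm')
  · refine h1.imp ?_ ?_
    all_goals
      intro h2 a ha m hm
      obtain ⟨u, hu, rfl⟩ := (R.mem_img (h.W_le_C hY)).mp ha
      obtain ⟨w, hw, rfl⟩ := R.pi_surj m
      have h3 := h2 w ⟨hw, hm⟩ u hu
      rw [← sub_eq_zero, ← R.pi_comm h.ok (h.W_le_C hY hu) hw]
      exact (R.pi_ker _ (h.pl.Z_le_ws h3)).mpr h3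
  · intro n hnZ hnV w hw
    obtain ⟨hnW, hnC⟩ := hinv n hnZ hnV
    obtain ⟨κ, hk⟩ := R.exists_ka hnW hnZ hnC
    exact R.up_brs h.ok hnW hnZ hnC hk (hκ n hnZ hnV κ hk) hw
  · intro n hnZ hnV w hw
    obtain ⟨hnW, hnC⟩ := hinv n hnZ hnV
    obtain ⟨κ, hk⟩ := R.exists_ka hnW hnZ hnC
    refine R.up_fxs h.ok hnW hnZ hnC hk ?_ hw
    intro x hx
    have h3 : (cmm N A).map κ.toMonoidHom = cmm N A := by
      refine eq_of_le_of_card_ge ?_ ?_
      · rintro _ ⟨y, hy, rfl⟩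
        exact hκ n hnZ hnV κ hk y hy
      · rw [card_map_of_injective κ.injective]
    have h4 : x ∈ (cmm N A).map κ.toMonoidHom := by rw [h3]; exact hx
    obtain ⟨y, hy, rfl⟩ := h4
    change κ.symm (κ y) ∈ cmm N A
    rw [MulEquiv.symm_apply_apply]
    exact hy

/-- `A` centralises `O_p(H)`, `p` odd -/
theorem pcore_cen [Finite M] [Finite H] [FaithfulSMul H M] (D : Dec V Z) {F : Type*} {mz : F → G → G}
    (L : FLin V Z mz) (hF : 4 ≤ Nat.card F) (hY : Pnt V Z Y) (hne : Y ≠ Z)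
    (hV : ∀ B : Subgroup G, Z ≤ B → (∀ w ∈ ws V Z, ∀ u ∈ ws V Y, u * w * u⁻¹ * w⁻¹ ∈ B) → V ≤ B)
    {p : ℕ} (hp : p.Prime) (hp2 : p ≠ 2) :
    ∀ a ∈ R.img (ws V Y), ∀ f ∈ Cfsg.pCore p H, a * f = f * a := by
  have : Fact p.Prime := ⟨hp⟩
  have hch : (Cfsg.pCore p H).Characteristic := Cfsg.Agent.Lib.Cores.pCore_characteristic p
  have hpg : IsPGroup p (Cfsg.pCore p H) := Cfsg.Agent.Lib.Cores.pCore_isPGroup p
  have hodd : Odd (Nat.card (Cfsg.pCore p H)) := by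
    obtain ⟨k, hk⟩ := IsPGroup.iff_card.mp hpg
    rw [hk]
    exact (hp.odd_of_ne_two hp2).pow
  have hsol : Group.IsSolvable (Cfsg.pCore p H) := by
    have : Group.IsNilpotent (Cfsg.pCore p H) := hpg.isNilpotent
    infer_instance
  have hn : (Cfsg.pCore p H).Normal := inferInstance
  refine comm_of (h.two R) (h.quad R hY hne) (h.elabA R hY) hsol hodd (fun a _ f hf => hn.conj_mem f hf a)
    (h.hB R D hY hne (h.two R) hch hodd) (h.lam_fix R hY) (h.eb_act R hY hne) (h.index_eb_le R hY hne)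
    (h.stab_A R hY hne) (h.linRel R L hY) ?_ hF (h.two_lt_card R L hF hY hne hV)
  intro u' hu' hu0 v' hv'
  obtain ⟨u, hu, rfl⟩ := (h.mem_lam R).mp hu'
  obtain ⟨v, hv, rfl⟩ := (h.mem_lam R).mp hv'
  have huZ : u ∉ Z := fun e => hu0 ((R.pi_ker u (h.V_le_W' hu)).mpr e)
  obtain ⟨c, hc⟩ := L.tr u hu huZ v hv
  exact ⟨c, u, h.V_le_W' hu, v, h.V_le_W' hv, rfl, rfl, hc⟩

/-- **(E) of #17428**: `A` centralises every nilpotent normal subgroup of `H` -/
theorem fit_cen [Finite M] [Finite H] [FaithfulSMul H M] (D : Dec V Z) {F : Type*} {mz : F → G → G}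
    (L : FLin V Z mz) (hF : 4 ≤ Nat.card F) (hY : Pnt V Z Y) (hne : Y ≠ Z)
    (hV : ∀ B : Subgroup G, Z ≤ B → (∀ w ∈ ws V Z, ∀ u ∈ ws V Y, u * w * u⁻¹ * w⁻¹ ∈ B) → V ≤ B)
    {N : Subgroup H} (hN : N.Normal) (hnil : Group.IsNilpotent N) :
    R.img (ws V Y) ≤ centralizer (N : Set H) := by
  classical
  intro a ha
  rw [mem_centralizer_iff]
  intro n hn
  by_contra hcon
  let K : Subgroup N := (centralizer ({a} : Set H)).subgroupOf N
  have hK : ∀ x : N, x ∈ K ↔ a * x = x * a := by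
    intro x
    rw [mem_subgroupOf, mem_centralizer_singleton_iff]
    exact ⟨fun e => e.symm, fun e => e.symm⟩
  obtain ⟨p, hp, hpK⟩ : ∃ p, p.Prime ∧ p ∣ K.index := by
    by_contra hcon'
    push Not at hcon'
    have h1 : K.index = 1 := by
      by_contra h2
      obtain ⟨p, hp, hd⟩ := Nat.exists_prime_and_dvd h2
      exact hcon' p hp hd
    have h2 : (⟨n, hn⟩ : N) ∈ K := by
      rw [index_eq_one.mp h1]; exact mem_top _
    exact hcon ((hK _).mp h2).symm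
  have : Fact p.Prime := ⟨hp⟩
  obtain ⟨P'⟩ : Nonempty (Sylow p N) := inferInstance
  have hPn : (P' : Subgroup N).Normal := by
    have := (Group.isNilpotent_of_finite_tfae (G := N)).out 0 3
    exact (this.mp hnil) p ⟨hp⟩ P'
  have hPK : ¬ (P' : Subgroup N) ≤ K := by
    intro hle
    exact P'.not_dvd_index (hpK.trans (index_dvd_of_le hle))
  have hPc : (P' : Subgroup N).Characteristic := P'.characteristic_of_normal hPn
  set E : Subgroup H := (P' : Subgroup N).map N.subtype with hE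
  have hEn : E.Normal := ConjAct.normal_of_characteristic_of_normal
  have hEp : IsPGroup p E := P'.isPGroup'.map _
  have hEle : E ≤ Cfsg.pCore p H := le_sSup ⟨hEn, hEp⟩
  obtain ⟨x, hx, hxK⟩ := SetLike.not_le_iff_exists.mp hPK
  have hxE : (x : H) ∈ Cfsg.pCore p H := hEle ⟨x, hx, rfl⟩
  apply hxK
  rw [hK]
  by_cases hp2 : p = 2
  · subst hp2
    rw [h.o2h R, mem_bot] at hxE
    rw [hxE, mul_one, one_mul]
  · exact h.pcore_cen R D L hF hY hne hV hp hp2 a ha x hxE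

end One

end Cfsg.Agent.Omega.NO3S.OneQ

end

section


/-!
# NO-3S, `OneQ`: `A` centralises the nilpotent normal subgroups of `H = C_G(Z) / K_Z` (bb OMEGA #17428 (E))

* `Co.dec`, `Co.flin` : the hypotheses `Dec`, `FLin` of `FitQ.lean`; `Co.fit` : (E).
-/

set_option autoImplicit false
set_option linter.unusedSectionVars false

namespace Cfsg.Agent.Omega.NO3S.OneQ.Co

open Subgroup Cfsg.Agent.Omega.NO3S.PT Cfsg.Agent.Omega.NoFF.Basic
open scoped Pointwise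

universe u

variable {G : Type u} [Group G] [Finite G] {F : Type*} [Field F] [CharP F 2] {S : Sylow 2 G} {B P V Z : Subgroup G}
  (h : Co F S B P V Z)

theorem flip_mem {w u : G} (hm : w * u * w⁻¹ * u⁻¹ ∈ Z) : u * w * u⁻¹ * w⁻¹ ∈ Z := by
  have := inv_mem hm
  have e : (w * u * w⁻¹ * u⁻¹)⁻¹ = u * w * u⁻¹ * w⁻¹ := by group
  rwa [e] at this

include h in
theorem dec : Dec V Z := by
  intro Y hY hYZ A A' hZA hA hZA' hA' hn hn' _ hinf
  have key : ∀ A : Subgroup G, Z ≤ A →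
      (∀ n ∈ normalizer (Z : Set G), n ∈ normalizer (V : Set G) → ∀ w ∈ A, n * w * n⁻¹ ∈ A) → h.Inv A := by
    intro A hZA hn
    refine Inv.of_norm hZA ?_
    rintro n ⟨h1, h2⟩
    rw [mem_normalizer_iff]
    intro x
    refine ⟨fun hx => hn n h1 h2 x hx, fun hx => ?_⟩
    have h3 := hn n⁻¹ (inv_mem h1) (inv_mem h2) _ hx
    have e : n⁻¹ * (n * x * n⁻¹) * n⁻¹⁻¹ = x := by group
    rwa [e] at h3
  rcases (key A hZA hn).decomp (key A' hZA' hn') hA hA' hinf.le with h1 | h1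
  · exact Or.inl fun w hw u hu => flip_mem (h1 Y hY hYZ w hw u hu)
  · exact Or.inr fun w hw u hu => flip_mem (h1 Y hY hYZ w hw u hu)

/-- the scalars on `Z` -/
noncomputable def mz (c : F) (g : G) : G := h.e (c * h.zv g) 0

theorem mz_e {c : F} {g : G} {a : F} (hg : g = h.e a 0) : h.mz c g = h.e (c * a) 0 := by
  rw [mz, hg, h.zv_e]

theorem flin : FLin V Z h.mz where
  mem := fun c a _ => h.e_memZ _
  mul := by
    intro c a ha b hb
    rw [mz, mz, mz, h.zv_mul ha hb, mul_add, ← h.e_add, add_zero]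
  inj := by
    intro c c' z hz hz1 he
    have h1 := (h.e_inj he).1
    exact mul_right_cancel₀ (fun e => hz1 ((h.zv_eq_zero hz).1 e)) h1
  ex := by
    intro c w hw
    obtain ⟨w', hw', he⟩ := h.exists_smul c hw
    refine ⟨w', hw', fun k hk => ?_⟩
    rw [← h.e_fn hw' hk, ← h.e_fn hw hk, he k hk, h.mz_e rfl]
  tr := by
    intro u hu huZ v hv
    obtain ⟨c, hc⟩ := h.exists_scal hu huZ hv
    refine ⟨c, fun k hk => ?_⟩
    rw [← h.e_fn (h.one.V_le_W h.one.self hv) hk, ← h.e_fn (h.one.V_le_W h.one.self hu) hk, hc k hk, h.mz_e rfl]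
  rad := by
    intro w hw hwk Y hY u hu
    have hd : w ∈ rd V Z := mem_rd.2 ⟨hw, hwk⟩
    by_cases hYZ : Y = Z
    · rw [hYZ] at hu
      rw [h.one.comm_W h.one.self.cj hu hw]
      have e : w * u * u⁻¹ * w⁻¹ = 1 := by group
      rw [e]
      exact one_mem _
    · exact flip_mem (h.rd_comm hY hYZ hd hu)

/-- `[W_Z, W_Y] Z` -/
def cw (V Z Y : Subgroup G) : Subgroup G := Z ⊔ ⁅ws V Z, ws V Y⁆

include h in
/-- `[W_Z, W_Y] Z` does not depend on `Y` -/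
theorem cw_le {Y Y' : Subgroup G} (hY : Pnt V Z Y) (hne : Y ≠ Z) (hY' : Pnt V Z Y') (hne' : Y' ≠ Z) :
    cw V Z Y' ≤ cw V Z Y := by
  refine sup_le le_sup_left ?_
  rw [commutator_le]
  intro w hw u hu
  obtain ⟨k, hk, rfl⟩ := h.one.move h.one.self hY hY' hne hne'
  rw [ws_cj, mem_cj] at hu
  rw [commutatorElement_def]
  have hwk : k⁻¹ * w * k ∈ ws V Z := by
    have := h.W_conj (inv_mem (centralizer_le_normalizer _ (kx_le_cent hk))) hw
    rwa [inv_inv] at this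
  -- `[w, u] = [k⁻¹ w k, k⁻¹ u k]^k`
  have h1 : k⁻¹ * w * k * (k⁻¹ * u * k) * (k⁻¹ * w * k)⁻¹ * (k⁻¹ * u * k)⁻¹ ∈ cw V Z Y := by
    refine le_sup_right (a := Z) (commutator_mem_commutator hwk hu)
  have h2 : k⁻¹ * w * k * (k⁻¹ * u * k) * (k⁻¹ * w * k)⁻¹ * (k⁻¹ * u * k)⁻¹ ∈ ws V Z :=
    h.one.I_le_W h.one.self (h.one.comm_mem h.one.self hY hne.symm hwk hu)
  have h3 := h.kw_mem h2 hk
  have e : w * u * w⁻¹ * u⁻¹ = k * (k⁻¹ * w * k * (k⁻¹ * u * k) * (k⁻¹ * w * k)⁻¹ * (k⁻¹ * u * k)⁻¹) * k⁻¹ *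
    (k⁻¹ * w * k * (k⁻¹ * u * k) * (k⁻¹ * w * k)⁻¹ * (k⁻¹ * u * k)⁻¹)⁻¹ *
    (k⁻¹ * w * k * (k⁻¹ * u * k) * (k⁻¹ * w * k)⁻¹ * (k⁻¹ * u * k)⁻¹) := by group
  rw [e]
  exact mul_mem (le_sup_left (a := Z) h3) h1

/-- `[W_Z, W_Y] Z` is invariant under `N_G(Z) ∩ N_G(V)` -/
theorem inv_cw {Y : Subgroup G} (hY : Pnt V Z Y) (hne : Y ≠ Z) : h.Inv (cw V Z Y) := by
  refine Inv.of_norm le_sup_left ?_
  have key : ∀ n ∈ normalizer (Z : Set G) ⊓ normalizer (V : Set G), PT.cj n (cw V Z Y) ≤ cw V Z Y := by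
    rintro n ⟨hnZ, hnV⟩
    have hY' : Pnt V Z (PT.cj n Y) := hY.conj hnV
    have hne' : PT.cj n Y ≠ Z := by
      intro e
      apply hne
      rw [← cj_inj (g := n), e, cj_eq_iff.2 hnZ]
    have h1 : PT.cj n (cw V Z Y) = cw V Z (PT.cj n Y) := by
      unfold cw
      rw [ws_cj, PT.cj, smul_sup]
      have h2 : MulAut.conj n • ⁅ws V Z, ws V Y⁆ = ⁅MulAut.conj n • ws V Z, MulAut.conj n • ws V Y⁆ :=
        map_commutator _ _ _
      rw [h2]
      have h3 : MulAut.conj n • Z = Z := cj_eq_iff.2 hnZ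
      have h4 : MulAut.conj n • ws V Z = ws V Z := cj_eq_iff.2 (normalizer_le_ws V Z hnZ)
      rw [h3, h4]
    rw [h1]
    exact h.cw_le hY hne hY' hne'
  intro n hn
  rw [← cj_eq_iff]
  refine le_antisymm (key n hn) ?_
  rw [le_cj_iff]
  exact key _ (inv_mem hn)

include h in
/-- `V ≤ [W_Z, W_Y] Z` -/
theorem V_le_cw {Y : Subgroup G} (hY : Pnt V Z Y) (hne : Y ≠ Z) : V ≤ cw V Z Y := by
  refine h.V_le_of_comm (h.inv_cw hY hne) hY hne fun w hw u hu => ?_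
  have := commutator_mem_commutator hw hu
  rw [commutatorElement_def] at this
  exact le_sup_right (a := Z) this

variable {M H : Type u} [AddCommGroup M] [Group H] [DistribMulAction H M] [Finite M] [Finite H] [FaithfulSMul H M]

include h in
/-- **(E) of #17428** -/
theorem fit (R : QRep V Z M H) (hF : 4 ≤ Nat.card F) {Y : Subgroup G} (hY : Pnt V Z Y) (hne : Y ≠ Z) {N : Subgroup H}
    (hN : N.Normal) (hnil : Group.IsNilpotent N) : R.img (ws V Y) ≤ centralizer (N : Set H) := by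
  refine h.one.fit_cen R h.dec h.flin hF hY hne (fun B' hZB hB => ?_) hN hnil
  refine (h.V_le_cw hY hne).trans (sup_le hZB ?_)
  rw [commutator_le]
  intro w hw u hu
  rw [commutatorElement_def]
  have h1 := inv_mem (hB w hw u hu)
  have e : (u * w * u⁻¹ * w⁻¹)⁻¹ = w * u * w⁻¹ * u⁻¹ := by group
  rwa [e] at h1

end Cfsg.Agent.Omega.NO3S.OneQ.Co

end

end
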