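import Mathlib.GroupTheory.SpecificGroups.Cyclic
import Mathlib.FieldTheory.Finite.Basic
import Mathlib.RingTheory.IntegralDomain
import Mathlib.Algebra.CharP.Two
import Cfsg.Agent.Mrg.Omega.NO3S.OneQ.Fix

-- merged: Cfsg.Agent.Omega.NO3S.OneQ.SLExt
section

/-!
# Central extensions of `SL₂(F)` generated by two root groups (bb OMEGA #17428 (A))

`Ext xp xm ρ` : `Q` is generated by the groups `xp(F)`, `xm(F)`, `ρ : Q →* Perm (F × F)` maps them to the root groups, the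
kernel of `ρ` is central and `Q` permutes the root groups as `SL₂(F)` does.  `Ext.inj` : `ρ` is injective.
-/

set_option autoImplicit false
set_option linter.unusedSectionVars false

namespace Cfsg.Agent.Omega.NO3S.OneQ.SLExt

variable {F : Type*} [Field F] [CharP F 2] {Q : Type*} [Group Q]

/-- the hypotheses -/
structure Ext (xp xm : F → Q) (ρ : Q →* Equiv.Perm (F × F)) : Prop where
  addp : ∀ s t, xp (s + t) = xp s * xp t
  addm : ∀ s t, xm (s + t) = xm s * xm t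
  actp : ∀ s x y, ρ (xp s) (x, y) = (x + s * y, y)
  actm : ∀ s x y, ρ (xm s) (x, y) = (x, y + s * x)
  cen : ∀ g, ρ g = 1 → ∀ g', g * g' = g' * g
  torp : ∀ (g : Q) (ζ : F), ζ ≠ 0 → (∀ x y, ρ g (x, y) = (ζ * x, ζ⁻¹ * y)) → ∀ s, ∃ s', g * xp s * g⁻¹ = xp s'
  torm : ∀ (g : Q) (ζ : F), ζ ≠ 0 → (∀ x y, ρ g (x, y) = (ζ * x, ζ⁻¹ * y)) → ∀ s, ∃ s', g * xm s * g⁻¹ = xm s'
  swap : ∀ g : Q, (∀ x y, ρ g (x, y) = (y, x)) → ∀ s, ∃ s', g * xp s * g⁻¹ = xm s'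
  gen : Subgroup.closure (Set.range xp ∪ Set.range xm) = ⊤

namespace Ext

variable {xp xm : F → Q} {ρ : Q →* Equiv.Perm (F × F)} (h : Ext xp xm ρ)
include h

theorem xp_zero : xp 0 = 1 := by
  have := h.addp 0 0
  rw [add_zero] at this
  exact left_eq_mul.1 this

theorem xm_zero : xm 0 = 1 := by
  have := h.addm 0 0
  rw [add_zero] at this
  exact left_eq_mul.1 this

theorem xp_sq (s : F) : xp s * xp s = 1 := by rw [← h.addp, CharTwo.add_self_eq_zero, h.xp_zero]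

theorem xm_sq (s : F) : xm s * xm s = 1 := by rw [← h.addm, CharTwo.add_self_eq_zero, h.xm_zero]

theorem xp_inj {s t : F} (e : xp s = xp t) : s = t := by
  have h1 := h.actp s 0 1
  rw [e, h.actp] at h1
  have h2 := congrArg Prod.fst h1
  simp only [mul_one, zero_add] at h2
  exact h2.symm

theorem xm_inj {s t : F} (e : xm s = xm t) : s = t := by
  have h1 := h.actm s 1 0
  rw [e, h.actm] at h1
  have h2 := congrArg Prod.snd h1
  simp only [mul_one, zero_add] at h2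
  exact h2.symm

omit h in
theorem conj_act {g k : Q} (p : F × F) : ρ (g * k * g⁻¹) (ρ g p) = ρ g (ρ k p) := by
  have e : g * k * g⁻¹ * g = g * k := by group
  rw [← Equiv.Perm.mul_apply, ← map_mul, e, map_mul, Equiv.Perm.mul_apply]

/-- conjugation by a torus element -/
theorem tor_xp {g : Q} {ζ : F} (hζ : ζ ≠ 0) (hg : ∀ x y, ρ g (x, y) = (ζ * x, ζ⁻¹ * y)) (s : F) :
    g * xp s * g⁻¹ = xp (ζ * ζ * s) := by
  obtain ⟨s', hs⟩ := h.torp g ζ hζ hg s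
  have h1 := conj_act (ρ := ρ) (g := g) (k := xp s) (0, ζ)
  rw [hs, hg, h.actp, h.actp, hg] at h1
  have h2 := congrArg Prod.fst h1
  simp only [mul_zero, zero_add, inv_mul_cancel₀ hζ, mul_one] at h2
  rw [hs, h2]
  congr 1
  ring

theorem tor_xm {g : Q} {ζ : F} (hζ : ζ ≠ 0) (hg : ∀ x y, ρ g (x, y) = (ζ * x, ζ⁻¹ * y)) (s : F) :
    g * xm s * g⁻¹ = xm (ζ⁻¹ * ζ⁻¹ * s) := by
  obtain ⟨s', hs⟩ := h.torm g ζ hζ hg s
  have h1 := conj_act (ρ := ρ) (g := g) (k := xm s) (ζ⁻¹, 0)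
  rw [hs, hg, h.actm, h.actm, hg] at h1
  have h2 := congrArg Prod.snd h1
  simp only [mul_zero, zero_add, mul_inv_cancel₀ hζ, mul_one] at h2
  rw [hs, h2]
  congr 1
  ring

/-- `n(s)` -/
theorem n_sq {s : F} : (xp s * xm s⁻¹ * xp s) * (xp s * xm s⁻¹ * xp s) = 1 := by
  calc (xp s * xm s⁻¹ * xp s) * (xp s * xm s⁻¹ * xp s) = xp s * xm s⁻¹ * (xp s * xp s) * xm s⁻¹ * xp s := by group
    _ = xp s * (xm s⁻¹ * xm s⁻¹) * xp s := by rw [h.xp_sq]; group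
    _ = 1 := by rw [h.xm_sq, mul_one, h.xp_sq]

theorem n_act {s : F} (hs : s ≠ 0) (x y : F) : ρ (xp s * xm s⁻¹ * xp s) (x, y) = (s * y, s⁻¹ * x) := by
  rw [map_mul, map_mul, Equiv.Perm.mul_apply, Equiv.Perm.mul_apply, h.actp, h.actm, h.actp]
  have h1 : y + s⁻¹ * (x + s * y) = s⁻¹ * x := by
    rw [mul_add, inv_mul_cancel_left₀ hs, add_comm y, add_assoc, CharTwo.add_self_eq_zero, add_zero]
  rw [h1, mul_inv_cancel_left₀ hs, add_right_comm, CharTwo.add_self_eq_zero, zero_add]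

end Ext

/-- `n(s) = xp(s) xm(s⁻¹) xp(s)` -/
def nn (xp xm : F → Q) (s : F) : Q := xp s * xm s⁻¹ * xp s

/-- `h(s) = n(s) n(1)` -/
def hh (xp xm : F → Q) (s : F) : Q := nn xp xm s * nn xp xm 1

/-- the torus -/
def tor (ρ : Q →* Equiv.Perm (F × F)) : Subgroup Q where
  carrier := {g | ∃ ζ : F, ζ ≠ 0 ∧ ∀ x y, ρ g (x, y) = (ζ * x, ζ⁻¹ * y)}
  one_mem' := ⟨1, one_ne_zero, fun x y => by rw [map_one, inv_one, one_mul, one_mul]; rfl⟩
  mul_mem' := by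
    rintro a b ⟨ζ, hζ, ha⟩ ⟨ξ, hξ, hb⟩
    refine ⟨ζ * ξ, mul_ne_zero hζ hξ, fun x y => ?_⟩
    rw [map_mul, Equiv.Perm.mul_apply, hb, ha, mul_inv_rev, mul_assoc, ← mul_assoc ζ⁻¹, mul_comm ζ⁻¹]
  inv_mem' := by
    rintro a ⟨ζ, hζ, ha⟩
    refine ⟨ζ⁻¹, inv_ne_zero hζ, fun x y => ?_⟩
    rw [map_inv, Equiv.Perm.inv_eq_iff_eq, ha, mul_inv_cancel_left₀ hζ, inv_inv, inv_mul_cancel_left₀ hζ]

open Classical in
/-- the character of the torus -/
noncomputable def chi (ρ : Q →* Equiv.Perm (F × F)) : tor ρ →* Fˣ where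
  toFun g := Units.mk0 (g.2.choose) g.2.choose_spec.1
  map_one' := by
    have h1 := (1 : tor ρ).2.choose_spec.2 1 1
    have h2 : ρ ((1 : tor ρ) : Q) (1, 1) = (1, 1) := by rw [OneMemClass.coe_one, map_one]; rfl
    rw [h2] at h1
    apply Units.ext
    have h3 := congrArg Prod.fst h1
    simp only [mul_one] at h3
    exact h3.symm
  map_mul' := by
    intro a b
    have h1 := (a * b).2.choose_spec.2 1 1
    have h2 : ρ ((a * b : tor ρ) : Q) (1, 1) = ρ (a : Q) (ρ (b : Q) (1, 1)) := by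
      rw [Subgroup.coe_mul, map_mul, Equiv.Perm.mul_apply]
    rw [h2, b.2.choose_spec.2, a.2.choose_spec.2] at h1
    have h3 := congrArg Prod.fst h1
    apply Units.ext
    simp only [mul_one] at h3
    exact h3.symm


namespace Ext

variable {xp xm : F → Q} {ρ : Q →* Equiv.Perm (F × F)} (h : Ext xp xm ρ)
include h

theorem nn_sq (s : F) : nn xp xm s * nn xp xm s = 1 := h.n_sq

theorem nn_inv (s : F) : (nn xp xm s)⁻¹ = nn xp xm s := inv_eq_of_mul_eq_one_right (h.nn_sq s)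

theorem nn_act {s : F} (hs : s ≠ 0) (x y : F) : ρ (nn xp xm s) (x, y) = (s * y, s⁻¹ * x) := h.n_act hs x y

theorem nn_one_act (x y : F) : ρ (nn xp xm 1) (x, y) = (y, x) := by
  rw [h.nn_act one_ne_zero, inv_one, one_mul, one_mul]

theorem hh_act {s : F} (hs : s ≠ 0) (x y : F) : ρ (hh xp xm s) (x, y) = (s * x, s⁻¹ * y) := by
  rw [hh, map_mul, Equiv.Perm.mul_apply, h.nn_one_act, h.nn_act hs]

theorem hh_one : hh xp xm (1 : F) = 1 := h.nn_sq 1

/-- `n(1) xp(s) n(1) = xm(s)` -/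
theorem nn_xp (s : F) : nn xp xm 1 * xp s * nn xp xm 1 = xm s := by
  obtain ⟨s', hs⟩ := h.swap (nn xp xm 1) h.nn_one_act s
  have h1 := conj_act (ρ := ρ) (g := nn xp xm 1) (k := xp s) (0, 1)
  rw [hs, h.nn_one_act, h.actm, h.actp, h.nn_one_act] at h1
  have h2 := congrArg Prod.snd h1
  simp only [mul_one, zero_add] at h2
  rw [h.nn_inv] at hs
  rw [hs, h2]

theorem nn_hh (s : F) : nn xp xm 1 * hh xp xm s = (hh xp xm s)⁻¹ * nn xp xm 1 := by
  rw [hh, mul_inv_rev, h.nn_inv, h.nn_inv]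
  group

theorem tor_nn {g : Q} {ζ : F} (hζ : ζ ≠ 0) (hg : ∀ x y, ρ g (x, y) = (ζ * x, ζ⁻¹ * y)) (t : F) :
    g * nn xp xm t * g⁻¹ = nn xp xm (ζ * ζ * t) := by
  have e : g * nn xp xm t * g⁻¹ = g * xp t * g⁻¹ * (g * xm t⁻¹ * g⁻¹) * (g * xp t * g⁻¹) := by
    rw [nn]; group
  rw [e, h.tor_xp hζ hg, h.tor_xm hζ hg, nn]
  congr 3
  rw [mul_inv_rev, mul_inv_rev]
  ring

/-- `h(ζ²) = g n(1) g⁻¹ n(1)` -/
theorem hh_sq {g : Q} {ζ : F} (hζ : ζ ≠ 0) (hg : ∀ x y, ρ g (x, y) = (ζ * x, ζ⁻¹ * y)) :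
    hh xp xm (ζ * ζ) = g * nn xp xm 1 * g⁻¹ * nn xp xm 1 := by
  rw [h.tor_nn hζ hg, mul_one, hh]

theorem hh_mem {s : F} (hs : s ≠ 0) : hh xp xm s ∈ tor ρ := ⟨s, hs, h.hh_act hs⟩

theorem nn_tor {g : Q} (hg : g ∈ tor ρ) : nn xp xm 1 * g * nn xp xm 1 ∈ tor ρ := by
  obtain ⟨ζ, hζ, ha⟩ := hg
  refine ⟨ζ⁻¹, inv_ne_zero hζ, fun x y => ?_⟩
  rw [map_mul, map_mul, Equiv.Perm.mul_apply, Equiv.Perm.mul_apply, h.nn_one_act, ha, h.nn_one_act, inv_inv]

theorem chi_ker [Finite F] : (chi ρ).ker ≤ Subgroup.center (tor ρ) := by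
  intro g hg
  rw [MonoidHom.mem_ker] at hg
  rw [Subgroup.mem_center_iff]
  intro k
  have h1 := congrArg Units.val hg
  have h2 : g.2.choose = 1 := h1
  have h3 : ρ (g : Q) = 1 := by
    ext p
    · have := g.2.choose_spec.2 p.1 p.2
      rw [h2, inv_one, one_mul, one_mul] at this
      rw [show p = (p.1, p.2) from rfl, this]
      rfl
    · have := g.2.choose_spec.2 p.1 p.2
      rw [h2, inv_one, one_mul, one_mul] at this
      rw [show p = (p.1, p.2) from rfl, this]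
      rfl
  exact Subtype.ext (h.cen g h3 k).symm

/-- the torus is abelian -/
theorem tor_comm [Finite F] {a b : Q} (ha : a ∈ tor ρ) (hb : b ∈ tor ρ) : a * b = b * a :=
  congrArg Subtype.val ((MonoidHom.isMulCommutative_of_isCyclic_of_ker_le_center (chi ρ) h.chi_ker).is_comm.comm
    ⟨a, ha⟩ ⟨b, hb⟩)

theorem exists_sq [Finite F] (s : F) : ∃ t, t * t = s := by
  have h1 : Function.Surjective (frobenius F 2) := Finite.surjective_of_injective (frobenius_inj F 2)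
  obtain ⟨c, hc⟩ := h1 s
  exact ⟨c, by rw [← pow_two]; exact hc⟩

/-- `h(s t) = h(s) h(t)` -/
theorem hh_mul [Finite F] {s t : F} (hs : s ≠ 0) (ht : t ≠ 0) : hh xp xm (s * t) = hh xp xm s * hh xp xm t := by
  obtain ⟨ζ, rfl⟩ := h.exists_sq s
  obtain ⟨ξ, rfl⟩ := h.exists_sq t
  have hζ : ζ ≠ 0 := fun e => hs (by rw [e, mul_zero])
  have hξ : ξ ≠ 0 := fun e => ht (by rw [e, mul_zero])
  have h1 := h.hh_act hζ
  have h2 := h.hh_act hξ
  have h3 : ∀ x y, ρ (hh xp xm ζ * hh xp xm ξ) (x, y) = (ζ * ξ * x, (ζ * ξ)⁻¹ * y) := by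
    intro x y
    rw [map_mul, Equiv.Perm.mul_apply, h2, h1, mul_inv_rev, mul_assoc, ← mul_assoc ζ⁻¹, mul_comm ζ⁻¹]
  have e : ζ * ζ * (ξ * ξ) = ζ * ξ * (ζ * ξ) := by ring
  rw [e, h.hh_sq (mul_ne_zero hζ hξ) h3, h.hh_sq hζ h1, h.hh_sq hξ h2]
  set n := nn xp xm (1 : F)
  set a := hh xp xm ζ
  set b := hh xp xm ξ
  have ha : a ∈ tor ρ := h.hh_mem hζ
  have hb : b ∈ tor ρ := h.hh_mem hξ
  have hnn : n * n = 1 := h.nn_sq 1
  have hna : n * a⁻¹ * n ∈ tor ρ := h.nn_tor (inv_mem ha)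
  have hnb : n * b⁻¹ * n ∈ tor ρ := h.nn_tor (inv_mem hb)
  calc a * b * n * (a * b)⁻¹ * n = a * b * (n * b⁻¹ * n) * (n * n)⁻¹ * (n * a⁻¹ * n) := by group
    _ = a * (b * (n * b⁻¹ * n) * (n * a⁻¹ * n)) := by rw [hnn]; group
    _ = a * (n * a⁻¹ * n * (b * (n * b⁻¹ * n))) := by rw [h.tor_comm (mul_mem hb hnb) hna]
    _ = a * n * a⁻¹ * n * (b * n * b⁻¹ * n) := by group

theorem hh_inv [Finite F] {s : F} (hs : s ≠ 0) : (hh xp xm s)⁻¹ = hh xp xm s⁻¹ := by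
  rw [inv_eq_iff_mul_eq_one, ← h.hh_mul hs (inv_ne_zero hs), mul_inv_cancel₀ hs, h.hh_one]

/-- `xp(b) h(s) = h(s) xp(s⁻² b)` -/
theorem xp_hh [Finite F] {s : F} (hs : s ≠ 0) (b : F) :
    xp b * hh xp xm s = hh xp xm s * xp (s⁻¹ * s⁻¹ * b) := by
  have h1 := h.tor_xp (inv_ne_zero hs) (h.hh_act (inv_ne_zero hs)) b
  rw [← h1, ← h.hh_inv hs]
  group

/-- the normal form -/
def NF (xp xm : F → Q) (g : Q) : Prop :=
  ∃ a s : F, s ≠ 0 ∧ (g = xp a * hh xp xm s ∨ ∃ b, g = xp a * hh xp xm s * nn xp xm 1 * xp b)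

theorem nf_xp {g : Q} (c : F) (hg : NF xp xm g) : NF xp xm (xp c * g) := by
  obtain ⟨a, s, hs, rfl | ⟨b, rfl⟩⟩ := hg
  · exact ⟨c + a, s, hs, Or.inl (by rw [h.addp]; group)⟩
  · exact ⟨c + a, s, hs, Or.inr ⟨b, by rw [h.addp]; group⟩⟩

/-- `xm(a) = xp(a⁻¹) h(a⁻¹) n xp(a⁻¹)` -/
theorem xm_eq {a : F} (ha : a ≠ 0) : xm a = xp a⁻¹ * hh xp xm a⁻¹ * nn xp xm 1 * xp a⁻¹ := by
  have h1 : hh xp xm a⁻¹ * nn xp xm 1 = nn xp xm a⁻¹ := by
    rw [hh, mul_assoc, h.nn_sq, mul_one]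
  calc xm a = xp a⁻¹ * xp a⁻¹ * xm a * (xp a⁻¹ * xp a⁻¹) := by rw [h.xp_sq]; group
    _ = xp a⁻¹ * (xp a⁻¹ * xm a⁻¹⁻¹ * xp a⁻¹) * xp a⁻¹ := by rw [inv_inv]; group
    _ = xp a⁻¹ * (hh xp xm a⁻¹ * nn xp xm 1) * xp a⁻¹ := by rw [h1]; rfl
    _ = _ := by group

theorem nf_nn [Finite F] {g : Q} (hg : NF xp xm g) : NF xp xm (nn xp xm 1 * g) := by
  obtain ⟨a, s, hs, rfl | ⟨b, rfl⟩⟩ := hg
  · refine ⟨0, s⁻¹, inv_ne_zero hs, Or.inr ⟨s⁻¹ * s⁻¹ * a, ?_⟩⟩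
    rw [h.xp_hh hs, ← mul_assoc, h.nn_hh, h.hh_inv hs, h.xp_zero, one_mul]
  · by_cases ha : a = 0
    · subst ha
      refine ⟨s⁻¹ * s⁻¹ * b, s⁻¹, inv_ne_zero hs, Or.inl ?_⟩
      have h1 := h.xp_hh (inv_ne_zero hs) (s⁻¹ * s⁻¹ * b)
      have h2 : s⁻¹⁻¹ * s⁻¹⁻¹ * (s⁻¹ * s⁻¹ * b) = b := by
        rw [inv_inv]
        field_simp
      rw [h2] at h1
      have h3 : nn xp xm 1 * (xp 0 * hh xp xm s * nn xp xm 1 * xp b) =
          nn xp xm 1 * hh xp xm s * nn xp xm 1 * xp b := by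
        rw [h.xp_zero]; group
      rw [h3, h.nn_hh, h.hh_inv hs, h1]
      calc hh xp xm s⁻¹ * nn xp xm 1 * nn xp xm 1 * xp b = hh xp xm s⁻¹ * (nn xp xm 1 * nn xp xm 1) * xp b := by group
        _ = _ := by rw [h.nn_sq, mul_one]
    · refine ⟨a⁻¹, a⁻¹ * s, mul_ne_zero (inv_ne_zero ha) hs, Or.inr ⟨s * s * a⁻¹ + b, ?_⟩⟩
      have h1 := h.xp_hh (inv_ne_zero hs) a⁻¹
      rw [inv_inv] at h1
      have h4 : nn xp xm 1 * hh xp xm s⁻¹ = hh xp xm s * nn xp xm 1 := by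
        rw [h.nn_hh, h.hh_inv (inv_ne_zero hs), inv_inv]
      calc nn xp xm 1 * (xp a * hh xp xm s * nn xp xm 1 * xp b)
          = nn xp xm 1 * xp a * nn xp xm 1 * (nn xp xm 1)⁻¹ * hh xp xm s * nn xp xm 1 * xp b := by group
        _ = xm a * (nn xp xm 1 * hh xp xm s * nn xp xm 1) * xp b := by rw [h.nn_xp, h.nn_inv]; group
        _ = xm a * hh xp xm s⁻¹ * (nn xp xm 1 * nn xp xm 1) * xp b := by rw [h.nn_hh, h.hh_inv hs]; group
        _ = xp a⁻¹ * hh xp xm a⁻¹ * nn xp xm 1 * xp a⁻¹ * hh xp xm s⁻¹ * xp b := by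
            rw [h.nn_sq, mul_one, h.xm_eq ha]
        _ = xp a⁻¹ * hh xp xm a⁻¹ * (nn xp xm 1 * (xp a⁻¹ * hh xp xm s⁻¹)) * xp b := by group
        _ = xp a⁻¹ * hh xp xm a⁻¹ * (nn xp xm 1 * hh xp xm s⁻¹) * (xp (s * s * a⁻¹) * xp b) := by rw [h1]; group
        _ = xp a⁻¹ * (hh xp xm a⁻¹ * hh xp xm s) * nn xp xm 1 * xp (s * s * a⁻¹ + b) := by
            rw [h4, ← h.addp]; group
        _ = xp a⁻¹ * hh xp xm (a⁻¹ * s) * nn xp xm 1 * xp (s * s * a⁻¹ + b) := by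
            rw [h.hh_mul (inv_ne_zero ha) hs]

theorem nf_xm [Finite F] {g : Q} (c : F) (hg : NF xp xm g) : NF xp xm (xm c * g) := by
  have e : xm c * g = nn xp xm 1 * (xp c * (nn xp xm 1 * g)) := by rw [← h.nn_xp]; group
  rw [e]
  exact h.nf_nn (h.nf_xp c (h.nf_nn hg))

/-- every element has a normal form -/
theorem nf [Finite F] (g : Q) : NF xp xm g := by
  have hg : g ∈ Subgroup.closure (Set.range xp ∪ Set.range xm) := by rw [h.gen]; trivial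
  refine Subgroup.closure_induction_left (p := fun g _ => NF xp xm g) ?_ ?_ ?_ hg
  · exact ⟨0, 1, one_ne_zero, Or.inl (by rw [h.xp_zero, h.hh_one, mul_one])⟩
  · rintro x (⟨c, rfl⟩ | ⟨c, rfl⟩) y _ hy
    · exact h.nf_xp c hy
    · exact h.nf_xm c hy
  · rintro x (⟨c, rfl⟩ | ⟨c, rfl⟩) y _ hy
    · have e : (xp c)⁻¹ = xp c := inv_eq_of_mul_eq_one_right (h.xp_sq c)
      rw [e]
      exact h.nf_xp c hy
    · have e : (xm c)⁻¹ = xm c := inv_eq_of_mul_eq_one_right (h.xm_sq c)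
      rw [e]
      exact h.nf_xm c hy

/-- **`ρ` is injective** -/
theorem inj [Finite F] {g : Q} (hg : ρ g = 1) : g = 1 := by
  obtain ⟨a, s, hs, rfl | ⟨b, rfl⟩⟩ := h.nf g
  · have h1 : ∀ x y, ρ (xp a * hh xp xm s) (x, y) = (s * x + a * (s⁻¹ * y), s⁻¹ * y) := by
      intro x y
      rw [map_mul, Equiv.Perm.mul_apply, h.hh_act hs, h.actp]
    rw [hg] at h1
    have h2 := congrArg Prod.fst (h1 1 0)
    have h3 := congrArg Prod.fst (h1 0 1)
    simp only [Equiv.Perm.coe_one, id_eq, mul_one, mul_zero, add_zero, zero_add] at h2 h3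
    have h4 : a = 0 := by
      rcases mul_eq_zero.1 h3.symm with h5 | h5
      · exact h5
      · exact absurd h5 (inv_ne_zero hs)
    rw [h4, ← h2, h.xp_zero, h.hh_one, mul_one]
  · exfalso
    have h1 : ρ (xp a * hh xp xm s * nn xp xm 1 * xp b) (1, 0) = (a * s⁻¹, s⁻¹) := by
      rw [map_mul, map_mul, map_mul, Equiv.Perm.mul_apply, Equiv.Perm.mul_apply, Equiv.Perm.mul_apply, h.actp,
        h.nn_one_act, h.hh_act hs, h.actp]
      simp
    rw [hg] at h1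
    have h2 := congrArg Prod.snd h1
    simp only [Equiv.Perm.coe_one, id_eq] at h2
    exact inv_ne_zero hs h2.symm

end Ext

end Cfsg.Agent.Omega.NO3S.OneQ.SLExt

end

-- merged: Cfsg.Agent.Mrg.Omega.NO3S.OneQ.Tor
section

/-!
# NO-3S, `OneQ`: `C_{X_l}(V) = Y_l` and the torus (bb OMEGA #17428 (A))

* `Co.XV_cent` : `X_l ∩ C_G(V) = Y_l`;
* `Tor.uniq`, `Tor.comm` : `Tor τ ζ` is unique modulo `Y_l`, the torus is commutative modulo `Y_l`;
* `One.yl_ee`, `One.yl_dd` : `[Y_l, W_X] ≤ E_X`, `[Y_l, E_X] ≤ D_X`.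
-/

set_option autoImplicit false
set_option linter.unusedSectionVars false

namespace Cfsg.Agent.Omega.NO3S.OneQ

open Subgroup Cfsg.Agent.Omega.NO3S.PT Cfsg.Agent.Omega.NoFF.Basic
open scoped Pointwise

variable {G : Type*} [Group G]

namespace Co

variable [Finite G] {F : Type*} [Field F] [CharP F 2] {S : Sylow 2 G} {B P V Z : Subgroup G} (h : Co F S B P V Z)

/-- coordinates of `V` -/
noncomputable def ev : F × F ≃ V :=
  Equiv.ofBijective (fun p => ⟨h.e p.1 p.2, h.e_memV _ _⟩) ⟨by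
    rintro ⟨a, b⟩ ⟨c, d⟩ hab
    have h1 : h.e a b = h.e c d := congrArg Subtype.val hab
    obtain ⟨rfl, rfl⟩ := h.e_inj h1
    rfl, by
    rintro ⟨v, hv⟩
    obtain ⟨a, b, hab⟩ := (h.mem_V v).1 hv
    exact ⟨(a, b), Subtype.ext hab⟩⟩

theorem ev_apply (a b : F) : (h.ev (a, b) : G) = h.e a b := rfl

/-- the action of `X_l` on the coordinates -/
noncomputable def rho : XV V Z →* Equiv.Perm (F × F) where
  toFun g :=
    { toFun := fun p => h.ev.symm ⟨g * h.ev p * (g : G)⁻¹,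
        (mem_normalizer_iff.1 (h.one.pl.XV_le_N g.2) _).1 (h.ev p).2⟩
      invFun := fun p => h.ev.symm ⟨(g : G)⁻¹ * h.ev p * ((g : G)⁻¹)⁻¹,
        (mem_normalizer_iff.1 (inv_mem (h.one.pl.XV_le_N g.2)) _).1 (h.ev p).2⟩
      left_inv := fun p => by
        rw [Equiv.symm_apply_eq]
        apply Subtype.ext
        rw [Equiv.apply_symm_apply]
        simp only
        group
      right_inv := fun p => by
        rw [Equiv.symm_apply_eq]
        apply Subtype.ext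
        rw [Equiv.apply_symm_apply]
        simp only
        group }
  map_one' := by
    ext1 p
    show h.ev.symm _ = p
    rw [Equiv.symm_apply_eq]
    apply Subtype.ext
    simp
  map_mul' := by
    intro a b
    ext1 p
    show h.ev.symm _ = h.ev.symm _
    rw [Equiv.symm_apply_eq, Equiv.apply_symm_apply]
    apply Subtype.ext
    show ((a * b : XV V Z) : G) * h.ev p * (((a * b : XV V Z) : G))⁻¹ = (a : G) * (h.ev (h.ev.symm _) : G) * (a : G)⁻¹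
    rw [Equiv.apply_symm_apply]
    simp [mul_assoc]

theorem rho_apply (g : XV V Z) {f : F → F → F × F} (hg : ∀ x y, (g : G) * h.e x y * (g : G)⁻¹ = h.e (f x y).1 (f x y).2)
    (x y : F) : h.rho g (x, y) = f x y := by
  show h.ev.symm _ = f x y
  rw [Equiv.symm_apply_eq]
  exact Subtype.ext (hg x y)

theorem rho_apply' (g : XV V Z) {f : F → F → F × F} (hg : ∀ x y, h.rho g (x, y) = f x y)
    (x y : F) : (g : G) * h.e x y * (g : G)⁻¹ = h.e (f x y).1 (f x y).2 := by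
  have h1 : h.ev.symm _ = f x y := hg x y
  rw [Equiv.symm_apply_eq] at h1
  exact congrArg Subtype.val h1

theorem rho_ker {g : XV V Z} : h.rho g = 1 ↔ (g : G) ∈ centralizer (V : Set G) := by
  constructor
  · intro h1
    refine h.mem_cent fun a b => ?_
    exact h.rho_apply' g (f := fun x y => (x, y)) (fun x y => by rw [h1]; rfl) a b
  · intro h1
    ext1 ⟨x, y⟩
    rw [h.rho_apply g (f := fun x y => (x, y)) (fun x y => h.comm_e h1 x y)]
    rfl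

/-- `Y_l` as a subgroup of `X_l` -/
def ylX (V Z : Subgroup G) : Subgroup (XV V Z) := (yl V Z).subgroupOf (XV V Z)

theorem ylX_normal (h1 : XV V Z ≤ normalizer (V : Set G)) : (ylX V Z).Normal := by
  rw [ylX]
  exact Subgroup.normal_subgroupOf_of_le_normalizer (h1.trans (norm_yl V Z))

include h in
theorem finF : Finite F := by
  refine Finite.of_injective (fun a : F => (⟨h.e a 0, h.e_memV a 0⟩ : V)) fun a b hab => ?_
  exact (h.e_inj (congrArg Subtype.val hab)).1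

theorem ylX_le : ylX V Z ≤ h.rho.ker := by
  intro g hg
  rw [MonoidHom.mem_ker, h.rho_ker]
  exact yl_le_cent V Z (mem_subgroupOf.1 hg)

/-- representatives in `K_Z` -/
noncomputable def kp (s : F) : G := (h.exists_K s).choose

theorem kp_mem (s : F) : h.kp s ∈ kx V Z := (h.exists_K s).choose_spec.1

theorem kp_act (s : F) (x y : F) : h.kp s * h.e x y * (h.kp s)⁻¹ = h.e (x + s * y) y := (h.exists_K s).choose_spec.2.2 x y

theorem kp_XV (s : F) : h.kp s ∈ XV V Z := le_XV h.one.self.cj h.one.self.le (h.kp_mem s)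

/-- representatives in `K_Y` -/
noncomputable def km (s : F) : G := (h.exists_K' s).choose

theorem km_mem (s : F) : h.km s ∈ kx V h.Yp := (h.exists_K' s).choose_spec.1

theorem km_act (s : F) (x y : F) : h.km s * h.e x y * (h.km s)⁻¹ = h.e x (y + s * x) := (h.exists_K' s).choose_spec.2 x y

theorem km_XV (s : F) : h.km s ∈ XV V Z := le_XV h.pY.cj h.pY.le (h.km_mem s)

/-- two elements of `K_X` with the same action on `V` agree modulo `Y_l` -/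
theorem K_yl {X : Subgroup G} (hX : Pnt V Z X) {k l : G} (hk : k ∈ kx V X) (hl : l ∈ kx V X)
    (hkl : ∀ x y, k * h.e x y * k⁻¹ = l * h.e x y * l⁻¹) : k⁻¹ * l ∈ yl V Z := by
  refine mem_yl_of hX (mul_mem (inv_mem hk) hl) (h.mem_cent fun a b => ?_)
  have e : k⁻¹ * l * h.e a b * (k⁻¹ * l)⁻¹ = k⁻¹ * (l * h.e a b * l⁻¹) * k := by group
  rw [e, ← hkl]
  group

theorem cj_Y_of {g : G} {f : F → F} (hf : Function.Surjective f) (hg : ∀ y, g * h.e 0 y * g⁻¹ = h.e 0 (f y)) :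
    PT.cj g h.Yp = h.Yp := by
  ext v
  rw [mem_cj, h.mem_Yp, h.mem_Yp]
  constructor
  · rintro ⟨a, ha⟩
    refine ⟨f a, ?_⟩
    rw [← hg, ha]; group
  · rintro ⟨a, rfl⟩
    obtain ⟨b, rfl⟩ := hf a
    refine ⟨b, ?_⟩
    rw [← hg]; group

include h in
/-- `X_l = ⟨K_Z, K_Y⟩` -/
theorem XV_le : XV V Z ≤ kx V Z ⊔ kx V h.Yp := by
  refine sSup_le ?_
  rintro _ ⟨X, hX, hXV, rfl⟩
  by_cases hXZ : X = Z
  · rw [hXZ]
    exact le_sup_left
  obtain ⟨k, hk, rfl⟩ := h.one.move h.one.self h.pY ⟨hX, hXV⟩ h.Yp_ne hXZ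
  have h1 : kx V (PT.cj k h.Yp) = PT.cj k (kx V h.Yp) := by
    exact kx_cj ..
  rw [h1]
  intro x hx
  rw [mem_cj] at hx
  have e : x = k * (k⁻¹ * x * k) * k⁻¹ := by group
  rw [e]
  exact mul_mem (mul_mem (mem_sup_left hk) (mem_sup_right hx)) (mem_sup_left (inv_mem hk))

include h in
/-- **(A)** `X_l ∩ C_G(V) = Y_l` -/
theorem XV_cent : XV V Z ⊓ centralizer (V : Set G) = yl V Z := by
  refine le_antisymm ?_ (le_inf (yl_le_XV V Z) (yl_le_cent V Z))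
  rintro g ⟨hg, hgV⟩
  have hN : (ylX V Z).Normal := ylX_normal h.one.pl.XV_le_N
  let Q := XV V Z ⧸ ylX V Z
  let ρ : Q →* Equiv.Perm (F × F) := QuotientGroup.lift (ylX V Z) h.rho fun x hx => h.ylX_le hx
  let q : XV V Z →* Q := QuotientGroup.mk' (ylX V Z)
  let xp : F → Q := fun s => q ⟨h.kp s, h.kp_XV s⟩
  let xm : F → Q := fun s => q ⟨h.km s, h.km_XV s⟩
  have hρ : ∀ x, ρ (q x) = h.rho x := fun x => QuotientGroup.lift_mk' _ _ x
  have hq : ∀ x y : XV V Z, q x = q y ↔ (x : G)⁻¹ * y ∈ yl V Z := fun x y => by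
    rw [show (q x = q y ↔ x⁻¹ * y ∈ ylX V Z) from QuotientGroup.eq]
    exact mem_subgroupOf
  have hxp : ∀ (x : XV V Z) (s : F), (x : G) ∈ kx V Z → (∀ a b, (x : G) * h.e a b * (x : G)⁻¹ = h.e (a + s * b) b) →
      q x = xp s := by
    intro x s hx hxs
    refine (hq _ _).2 (h.K_yl h.one.self hx (h.kp_mem s) fun a b => ?_)
    rw [hxs, h.kp_act]
  have hxm : ∀ (x : XV V Z) (s : F), (x : G) ∈ kx V h.Yp → (∀ a b, (x : G) * h.e a b * (x : G)⁻¹ = h.e a (b + s * a)) →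
      q x = xm s := by
    intro x s hx hxs
    refine (hq _ _).2 (h.K_yl h.pY hx (h.km_mem s) fun a b => ?_)
    rw [hxs, h.km_act]
  have hext : SLExt.Ext xp xm ρ := by
    refine ⟨?_, ?_, ?_, ?_, ?_, ?_, ?_, ?_, ?_⟩
    · intro s t
      have h1 := hxp (⟨h.kp s, h.kp_XV s⟩ * ⟨h.kp t, h.kp_XV t⟩) (s + t) (mul_mem (h.kp_mem s) (h.kp_mem t)) fun a b => by
        rw [Subgroup.coe_mul]
        have e : h.kp s * h.kp t * h.e a b * (h.kp s * h.kp t)⁻¹ = h.kp s * (h.kp t * h.e a b * (h.kp t)⁻¹) * (h.kp s)⁻¹ := by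
          group
        rw [e, h.kp_act, h.kp_act]
        congr 1
        ring
      rw [← h1, map_mul]
    · intro s t
      have h1 := hxm (⟨h.km s, h.km_XV s⟩ * ⟨h.km t, h.km_XV t⟩) (s + t) (mul_mem (h.km_mem s) (h.km_mem t)) fun a b => by
        rw [Subgroup.coe_mul]
        have e : h.km s * h.km t * h.e a b * (h.km s * h.km t)⁻¹ = h.km s * (h.km t * h.e a b * (h.km t)⁻¹) * (h.km s)⁻¹ := by
          group
        rw [e, h.km_act, h.km_act]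
        congr 1
        ring
      rw [← h1, map_mul]
    · intro s x y
      rw [hρ]
      exact h.rho_apply _ (f := fun x y => (x + s * y, y)) (h.kp_act s) x y
    · intro s x y
      rw [hρ]
      exact h.rho_apply _ (f := fun x y => (x, y + s * x)) (h.km_act s) x y
    · intro a ha b
      obtain ⟨a, rfl⟩ := QuotientGroup.mk'_surjective (ylX V Z) a
      obtain ⟨b, rfl⟩ := QuotientGroup.mk'_surjective (ylX V Z) b
      have ha' : h.rho a = 1 := by rw [← hρ]; exact ha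
      have h1 := h.one.comm_yl (inv_mem b.2) (inv_mem (h.rho_ker.1 ha'))
      rw [← map_mul, ← map_mul]
      refine (hq _ _).2 ?_
      have e : ((a * b : XV V Z) : G)⁻¹ * ((b * a : XV V Z) : G) = (b : G)⁻¹ * (a : G)⁻¹ * (b : G)⁻¹⁻¹ * (a : G)⁻¹⁻¹ := by
        rw [Subgroup.coe_mul, Subgroup.coe_mul]; group
      rw [e]
      exact h1
    · intro a ζ hζ ha s
      obtain ⟨a, rfl⟩ := QuotientGroup.mk'_surjective (ylX V Z) a
      have ha' : ∀ x y, h.rho a (x, y) = (ζ * x, ζ⁻¹ * y) := fun x y => by rw [← hρ]; exact ha x y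
      have h1 := h.rho_apply' a (f := fun x y => (ζ * x, ζ⁻¹ * y)) ha'
      have h2 : PT.cj (a : G) Z = Z := h.cj_Z_of (f := fun x => ζ * x) (fun x => ⟨ζ⁻¹ * x, mul_inv_cancel_left₀ hζ x⟩)
        fun x => by rw [h1]; simp
      have h3 : (a : G) * h.kp s * (a : G)⁻¹ ∈ kx V Z := by
        have h4 := conj_mem_cj (g := (a : G)) (h.kp_mem s)
        rwa [← kx_cj, h2] at h4
      obtain ⟨t, ht⟩ := h.K_tv h3
      exact ⟨t, by rw [← hxp (a * ⟨h.kp s, h.kp_XV s⟩ * a⁻¹) t h3 ht]; simp only [map_mul, map_inv]; rfl⟩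
    · intro a ζ hζ ha s
      obtain ⟨a, rfl⟩ := QuotientGroup.mk'_surjective (ylX V Z) a
      have ha' : ∀ x y, h.rho a (x, y) = (ζ * x, ζ⁻¹ * y) := fun x y => by rw [← hρ]; exact ha x y
      have h1 := h.rho_apply' a (f := fun x y => (ζ * x, ζ⁻¹ * y)) ha'
      have h2 : PT.cj (a : G) h.Yp = h.Yp := h.cj_Y_of (f := fun x => ζ⁻¹ * x)
        (fun x => ⟨ζ * x, inv_mul_cancel_left₀ hζ x⟩) fun x => by rw [h1]; simp
      have h3 : (a : G) * h.km s * (a : G)⁻¹ ∈ kx V h.Yp := by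
        have h4 := conj_mem_cj (g := (a : G)) (h.km_mem s)
        rwa [← kx_cj, h2] at h4
      obtain ⟨t, ht⟩ := h.K_tv' h3
      exact ⟨t, by rw [← hxm (a * ⟨h.km s, h.km_XV s⟩ * a⁻¹) t h3 ht]; simp only [map_mul, map_inv]; rfl⟩
    · intro a ha s
      obtain ⟨a, rfl⟩ := QuotientGroup.mk'_surjective (ylX V Z) a
      have ha' : ∀ x y, h.rho a (x, y) = (y, x) := fun x y => by rw [← hρ]; exact ha x y
      have h1 := h.rho_apply' a (f := fun x y => (y, x)) ha'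
      have h2 : PT.cj (a : G) Z = h.Yp := h.cj_swap h1
      have h3 : (a : G) * h.kp s * (a : G)⁻¹ ∈ kx V h.Yp := by
        have h4 := conj_mem_cj (g := (a : G)) (h.kp_mem s)
        rwa [← kx_cj, h2] at h4
      obtain ⟨t, ht⟩ := h.K_tv' h3
      exact ⟨t, by rw [← hxm (a * ⟨h.kp s, h.kp_XV s⟩ * a⁻¹) t h3 ht]; simp only [map_mul, map_inv]; rfl⟩
    · rw [eq_top_iff]
      have h1 : ∀ x (hx : x ∈ XV V Z), x ∈ kx V Z ∨ x ∈ kx V h.Yp →
          q ⟨x, hx⟩ ∈ closure (Set.range xp ∪ Set.range xm) := by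
        rintro x hx (hx' | hx')
        · obtain ⟨t, ht⟩ := h.K_tv hx'
          rw [hxp ⟨x, hx⟩ t hx' ht]
          exact subset_closure (Or.inl ⟨t, rfl⟩)
        · obtain ⟨t, ht⟩ := h.K_tv' hx'
          rw [hxm ⟨x, hx⟩ t hx' ht]
          exact subset_closure (Or.inr ⟨t, rfl⟩)
      have h2 : XV V Z ≤ ((closure (Set.range xp ∪ Set.range xm)).comap q).map (XV V Z).subtype := by
        refine h.XV_le.trans (sup_le ?_ ?_)
        · intro x hx
          exact ⟨⟨x, le_XV h.one.self.cj h.one.self.le hx⟩, h1 x _ (Or.inl hx), rfl⟩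
        · intro x hx
          exact ⟨⟨x, le_XV h.pY.cj h.pY.le hx⟩, h1 x _ (Or.inr hx), rfl⟩
      rintro a -
      obtain ⟨a, rfl⟩ := QuotientGroup.mk'_surjective (ylX V Z) a
      obtain ⟨b, hb, hba⟩ := h2 a.2
      have h3 : b = a := Subtype.ext hba
      rw [← h3]
      exact hb
  have hF : Finite F := h.finF
  have h1 : ρ (q ⟨g, hg⟩) = 1 := by rw [hρ, h.rho_ker]; exact hgV
  have h2 := hext.inj h1
  have h3 := (hq 1 ⟨g, hg⟩).1 (by rw [h2, map_one])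
  simpa using h3

variable {h}

/-- the torus is unique modulo `Y_l` -/
theorem Tor.uniq {τ τ' : G} {ζ : F} (hτ : h.Tor τ ζ) (hτ' : h.Tor τ' ζ) : τ⁻¹ * τ' ∈ yl V Z := by
  rw [← h.XV_cent]
  have h0 : τ⁻¹ * τ' ∈ XV V Z := mul_mem (inv_mem hτ.mem) hτ'.mem
  refine ⟨h0, h.mem_cent fun a b => ?_⟩
  have e : τ⁻¹ * τ' * h.e a b * (τ⁻¹ * τ')⁻¹ = τ⁻¹ * (τ' * h.e a b * τ'⁻¹) * τ := by group
  rw [e, hτ'.act, ← hτ.act]
  group

theorem Tor.mul {τ τ' : G} {ζ ζ' : F} (hτ : h.Tor τ ζ) (hτ' : h.Tor τ' ζ') : h.Tor (τ * τ') (ζ * ζ') where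
  mem := mul_mem hτ.mem hτ'.mem
  norm := mul_mem hτ.norm hτ'.norm
  act := fun x y => by
    have e : τ * τ' * h.e x y * (τ * τ')⁻¹ = τ * (τ' * h.e x y * τ'⁻¹) * τ⁻¹ := by group
    rw [e, hτ'.act, hτ.act]
    congr 1
    · ring
    · rw [mul_inv_rev]; ring

theorem Tor.inv {τ : G} {ζ : F} (hτ : h.Tor τ ζ) (hζ : ζ ≠ 0) : h.Tor τ⁻¹ ζ⁻¹ where
  mem := inv_mem hτ.mem
  norm := inv_mem hτ.norm
  act := fun x y => by
    have h1 := hτ.act (ζ⁻¹ * x) (ζ * y)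
    rw [mul_inv_cancel_left₀ hζ, inv_mul_cancel_left₀ hζ] at h1
    rw [← h1, inv_inv]
    group

variable (h) in
theorem Tor.one : h.Tor 1 1 where
  mem := one_mem _
  norm := one_mem _
  act := fun x y => by
    rw [inv_one, inv_one, one_mul, one_mul, one_mul, mul_one]

theorem Tor.pow {τ : G} {ζ : F} (hτ : h.Tor τ ζ) (n : ℕ) : h.Tor (τ ^ n) (ζ ^ n) := by
  induction n with
  | zero => rw [pow_zero, pow_zero]; exact Tor.one h
  | succ n ih => rw [pow_succ, pow_succ]; exact ih.mul hτ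

/-- the torus is commutative modulo `Y_l` -/
theorem Tor.comm {τ τ' : G} {ζ ζ' : F} (hτ : h.Tor τ ζ) (hτ' : h.Tor τ' ζ') : (τ * τ')⁻¹ * (τ' * τ) ∈ yl V Z := by
  have h1 := hτ'.mul hτ
  rw [mul_comm ζ' ζ] at h1
  exact (hτ.mul hτ').uniq h1

/-- an element of `X_l ∩ N_G(Z) ∩ N_G(B)` is in the torus -/
theorem exists_pow_yl {τ : G} {ζ : F} (hτ : h.Tor τ ζ) (hζ : ζ ≠ 0) : τ ^ (Nat.card F - 1) ∈ yl V Z := by
  have := h.finF
  have : Fintype F := Fintype.ofFinite F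
  have h1 := hτ.pow (Nat.card F - 1)
  rw [Nat.card_eq_fintype_card, FiniteField.pow_card_sub_one_eq_one ζ hζ] at h1
  have h2 := (Tor.one h).uniq h1
  rwa [inv_one, one_mul, ← Nat.card_eq_fintype_card] at h2

end Co

namespace One

variable [Finite G] {S : Sylow 2 G} {B P V Z : Subgroup G} (h : One S B P V Z)
include h

/-- `[Y_l, W_X] ≤ E_X` -/
theorem yl_ee {X : Subgroup G} (hX : Pnt V Z X) {k w : G} (hk : k ∈ yl V Z) (hw : w ∈ ws V X) :
    k * w * k⁻¹ * w⁻¹ ∈ ee V Z X := by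
  let E : Subgroup G :=
    { carrier := {g | g ∈ centralizer (V : Set G) ∧ ∀ w ∈ ws V X, g * w * g⁻¹ * w⁻¹ ∈ ee V Z X}
      one_mem' := ⟨one_mem _, fun c _ => by
        have : (1 : G) * c * 1⁻¹ * c⁻¹ = 1 := by group
        rw [this]; exact one_mem _⟩
      mul_mem' := by
        rintro a b ⟨ha, ha'⟩ ⟨hb, hb'⟩
        refine ⟨mul_mem ha hb, fun c hc => ?_⟩
        have e : a * b * c * (a * b)⁻¹ * c⁻¹ = a * (b * c * b⁻¹ * c⁻¹) * a⁻¹ * (a * c * a⁻¹ * c⁻¹) := by group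
        rw [e]
        exact mul_mem (h.n_ee hX ha (hb' c hc)) (ha' c hc)
      inv_mem' := by
        rintro a ⟨ha, ha'⟩
        refine ⟨inv_mem ha, fun c hc => ?_⟩
        have e : a⁻¹ * c * a⁻¹⁻¹ * c⁻¹ = a⁻¹ * (a * c * a⁻¹ * c⁻¹)⁻¹ * a⁻¹⁻¹ := by group
        rw [e]
        exact h.n_ee hX (inv_mem ha) (inv_mem (ha' c hc)) }
  have key : yl V Z ≤ E := by
    refine sSup_le ?_
    rintro _ ⟨Y, hY, rfl⟩
    rintro k ⟨hk, hkV⟩
    exact ⟨hkV, fun w hw => h.kx_ee hX hY hk hkV hw⟩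
  exact (key hk).2 w hw

/-- `[Y_l, E_X] ≤ D_X` -/
theorem yl_dd {X : Subgroup G} (hX : Pnt V Z X) {k w : G} (hk : k ∈ yl V Z) (hw : w ∈ ee V Z X) :
    k * w * k⁻¹ * w⁻¹ ∈ dd V Z X := by
  let E : Subgroup G :=
    { carrier := {g | g ∈ centralizer (V : Set G) ∧ ∀ w ∈ ee V Z X, g * w * g⁻¹ * w⁻¹ ∈ dd V Z X}
      one_mem' := ⟨one_mem _, fun c _ => by
        have : (1 : G) * c * 1⁻¹ * c⁻¹ = 1 := by group
        rw [this]; exact one_mem _⟩
      mul_mem' := by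
        rintro a b ⟨ha, ha'⟩ ⟨hb, hb'⟩
        refine ⟨mul_mem ha hb, fun c hc => ?_⟩
        have e : a * b * c * (a * b)⁻¹ * c⁻¹ = a * (b * c * b⁻¹ * c⁻¹) * a⁻¹ * (a * c * a⁻¹ * c⁻¹) := by group
        rw [e]
        exact mul_mem (h.n_dd hX ha (hb' c hc)) (ha' c hc)
      inv_mem' := by
        rintro a ⟨ha, ha'⟩
        refine ⟨inv_mem ha, fun c hc => ?_⟩
        have e : a⁻¹ * c * a⁻¹⁻¹ * c⁻¹ = a⁻¹ * (a * c * a⁻¹ * c⁻¹)⁻¹ * a⁻¹⁻¹ := by group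
        rw [e]
        exact h.n_dd hX (inv_mem ha) (inv_mem (ha' c hc)) }
  have key : yl V Z ≤ E := by
    refine sSup_le ?_
    rintro _ ⟨Y, hY, rfl⟩
    rintro k ⟨hk, hkV⟩
    exact ⟨hkV, fun w hw => h.kx_dd hX hY hk hkV hw⟩
  exact (key hk).2 w hw

/-- `[Y_l, I] = ` trivial on `I / V` -/
theorem XV_I {g u : G} (hg : g ∈ XV V Z) (hu : u ∈ IV V Z) : g * u * g⁻¹ * u⁻¹ ∈ V := h.pl.XV_act hg hu

end One

end Cfsg.Agent.Omega.NO3S.OneQ

end
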