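import Cfsg.Agent.Mrg.Omega.NO3S.OneQ.PlaneEnd
import Cfsg.Agent.Mrg.Omega.NO3S.OneQ.Tor
import Cfsg.Agent.Mrg.Omega.NO3S.OneQ.POne
import Mathlib
import Cfsg.Agent.Mrg.Omega.NO3S.OneQ.Fix
import Cfsg.Agent.Mrg.Omega.NO3S.OneQ.FitQ
import Cfsg.Agent.Mrg.Omega.NO3S.OneQ.AlphaDual
import Cfsg.Agent.Mrg.Omega.NO3S.OneQ.TIq.Phi

-- merged: Cfsg.Agent.Mrg.Omega.NO3S.OneQ.LemK
section

/-!
# NO-3S, critical distance 1: LEMMA K (bb OMEGA, helper382)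

`M ≠ V` a line on `Z`, `Q ≠ Z` a point of `M`, `g ∈ X_V`, `Y = Z^g ≠ Z`.

* `Co.XV_sl` : `X_V` acts on `V` by matrices of determinant 1;
* `Co.XV_ee` : `g ∈ X_V ∩ C(X)` satisfies `[g, W_X] ≤ E_X`;
* `One.fix_I` : for `u ∈ I - V`, `g ∈ X_V` some `s ∈ Y_V` has `(s g) u = u (s g)`;
* `One.line_le_I` : a line `M` on `Z` with an element of `I_V` outside `V` is in `I_V`;
* `One.comm_mod` : `[w ε, w' ε'] = [w, w']` modulo `V` for `ε ∈ E_Y`, `ε' ∈ E_T`;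
* **`Co.lemK`** : if `e ∈ W_Q ∩ K_Z` has `(z^g)^e = z z^g` for `z ∈ Z` and `[M, W_Y] ≤ E_Z(M)`, then `[v, v^g] ∈ Z` for `v ∈ M`.
-/

set_option autoImplicit false
set_option linter.unusedSectionVars false

namespace Cfsg.Agent.Omega.NO3S.OneQ

open Subgroup Cfsg.Agent.Omega.NO3S.PT Cfsg.Agent.Omega.NoFF.Basic
open scoped Pointwise

variable {G : Type*} [Group G]

namespace One

variable [Finite G] {S : Sylow 2 G} {B P V Z : Subgroup G} (h : One S B P V Z)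
include h

/-- for `u ∈ I - V`, `g ∈ X_V` some element of `Y_V g` centralises `u` -/
theorem fix_I {u g : G} (hu : u ∈ IV V Z) (huV : u ∉ V) (hg : g ∈ XV V Z) :
    ∃ s ∈ yl V Z, (s * g) * u = u * (s * g) := by
  obtain ⟨Y, hY, hYZ⟩ := h.exists_ne h.self
  have h1 : g * u * g⁻¹ * u⁻¹ ∈ V := h.XV_I hg hu
  obtain ⟨x, hx, y, hy, hxy⟩ := h.pl.exists_mul h.self.cj h.self.le hY.cj hY.le hYZ.symm (V.inv_mem h1)
  obtain ⟨d1, hd1, hd1V, hd1u⟩ := h.pl.F2' h.hf h.hO hu huV h.self.cj h.self.le hx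
  obtain ⟨d2, hd2, hd2V, hd2u⟩ := h.pl.F2' h.hf h.hO hu huV hY.cj hY.le hy
  refine ⟨d1 * d2, mul_mem (mem_yl_of h.self hd1 hd1V) (mem_yl_of hY hd2 hd2V), ?_⟩
  have hyV := hY.le hy
  have hxV := h.self.le hx
  have e1 : d1 * u * d1⁻¹ = x * u := by rw [← hd1u]; group
  have e2 : d2 * u * d2⁻¹ = y * u := by rw [← hd2u]; group
  have c1 : d1 * y * d1⁻¹ = y := by rw [h.cent_V hd1V hyV, mul_inv_cancel_right]
  have hxyc : x * y = y * x := h.pl.Vcomm hxV hyV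
  have e3 : (d1 * d2) * u * (d1 * d2)⁻¹ = (x * y) * u := by
    calc (d1 * d2) * u * (d1 * d2)⁻¹ = d1 * (d2 * u * d2⁻¹) * d1⁻¹ := by group
      _ = (d1 * y * d1⁻¹) * (d1 * u * d1⁻¹) := by rw [e2]; group
      _ = (x * y) * u := by rw [c1, e1, ← mul_assoc, hxyc]
  set v0 := g * u * g⁻¹ * u⁻¹ with hv0
  have e4 : g * u * g⁻¹ = v0 * u := by rw [hv0]; group
  have hdV : d1 * d2 ∈ centralizer (V : Set G) := mul_mem hd1V hd2V
  have e5 : (d1 * d2) * v0 * (d1 * d2)⁻¹ = v0 := by rw [h.cent_V hdV h1, mul_inv_cancel_right]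
  have e6 : (d1 * d2 * g) * u * (d1 * d2 * g)⁻¹ = u := by
    calc (d1 * d2 * g) * u * (d1 * d2 * g)⁻¹ = (d1 * d2) * (g * u * g⁻¹) * (d1 * d2)⁻¹ := by group
      _ = ((d1 * d2) * v0 * (d1 * d2)⁻¹) * ((d1 * d2) * u * (d1 * d2)⁻¹) := by rw [e4]; group
      _ = v0 * (v0⁻¹ * u) := by rw [e5, e3, ← hxy]
      _ = u := by group
  rw [← mul_inv_eq_iff_eq_mul]
  exact e6

/-- a line on `Z` with an element of `I_V` outside `V` is contained in `I_V` -/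
theorem line_le_I {M : Subgroup G} (hM : IsCj V M) (hZM : Z ≤ M) {u : G} (hu : u ∈ IV V Z) (huV : u ∉ V)
    (huM : u ∈ M) : M ≤ IV V Z := by
  have hu1 : u ≠ 1 := fun e => huV (by rw [e]; exact one_mem _)
  obtain ⟨T, hT, hTM, huT⟩ := h.line_pt hM huM hu1
  have hTZ : T ≠ Z := fun e => huV (h.pl.ZV (e ▸ huT))
  obtain ⟨Y, hY, hYZ⟩ := h.exists_ne h.self
  obtain ⟨k, hk, -, hkZ, -⟩ := h.pl.swap h.hf h.self.cj h.self.le hY.cj hY.le
  obtain ⟨s, hs, hsu⟩ := h.fix_I hu huV hk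
  have hsV : s ∈ centralizer (V : Set G) := yl_le_cent V Z hs
  -- `s k` moves `Z` to `Y` and fixes `T`
  have h1 : PT.cj (s * k) Z = Y := by
    rw [← cj_cj, hkZ]
    exact h.cent_fix hY hsV
  have h2 : PT.cj (s * k) T = T := cj_eq_iff.2 (h.pl.norm_of_comm hT huT hu1 hsu)
  have h3 : Y ≤ PT.cj (s * k) M := by rw [← h1]; exact cj_le_cj.2 hZM
  have h4 : T ≤ PT.cj (s * k) M := by
    have := cj_le_cj (g := s * k) |>.2 hTM
    rwa [h2] at this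
  have h5 : T ≤ IV V Z := by
    rw [← h.pl.IV_eq h.hf h.self.cj h.self.le hY.cj hY.le hYZ.symm]
    exact le_inf (hTM.trans (h.line_le_ws hM hZM)) (h4.trans (h.line_le_ws (hM.cj _) h3))
  intro m hm
  obtain ⟨z, hz, t, ht, rfl⟩ := h.line_mul hM h.self.cj hZM hT hTM hTZ.symm hm
  exact mul_mem (h.pl.V_le_IV (h.pl.ZV hz)) (h5 ht)

/-- `[w ε, w' ε'] = [w, w']` modulo `V` -/
theorem comm_mod {Y T : Subgroup G} (hY : Pnt V Z Y) (hT : Pnt V Z T) (hne : Y ≠ T) {w w' ε ε' : G}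
    (hw : w ∈ ws V Y) (hw' : w' ∈ ws V T) (hε : ε ∈ ee V Z Y) (hε' : ε' ∈ ee V Z T) :
    (w * ε) * (w' * ε') * (w * ε)⁻¹ * (w' * ε')⁻¹ * (w * w' * w⁻¹ * w'⁻¹)⁻¹ ∈ V := by
  have hwC := h.W_le_cent hY hw
  have hwC' := h.W_le_cent hT hw'
  have hεW : ε ∈ ws V Y := ee_le hε
  have hεW' : ε' ∈ ws V T := ee_le hε'
  have hεC := h.W_le_cent hY hεW
  have hεC' := h.W_le_cent hT hεW'
  -- `[ε, w'] ∈ V`, `[w, ε'] ∈ V`
  have h1 : ε * w' * ε⁻¹ * w'⁻¹ ∈ V := hT.le (h.ee_act hT hne.symm hε hw')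
  have h2 : w * ε' * w⁻¹ * ε'⁻¹ ∈ V := by
    have h3 := hY.le (h.ee_act hY hne hε' hw)
    have h4 := V.inv_mem h3
    have e : (ε' * w * ε'⁻¹ * w⁻¹)⁻¹ = w * ε' * w⁻¹ * ε'⁻¹ := by group
    rwa [e] at h4
  have h3 : ε * ε' = ε' * ε := h.ee_comm hY hT hne hε hε'
  set a := ε * w' * ε⁻¹ * w'⁻¹ with ha
  set b := w * ε' * w⁻¹ * ε'⁻¹ with hb
  have ca : ∀ {c : G}, c ∈ centralizer (V : Set G) → c * a = a * c := fun {c} hc => h.cent_V hc h1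
  have cb : ∀ {c : G}, c ∈ centralizer (V : Set G) → c * b = b * c := fun {c} hc => h.cent_V hc h2
  -- `w ε w' ε' = a w w' ε ε'`, `w' ε' w ε = w' b⁻¹ w ε' ε`
  have e1 : ε * w' = a * (w' * ε) := by rw [ha]; group
  have e2 : w * ε' = b * (ε' * w) := by rw [hb]; group
  have e3 : (w * ε) * (w' * ε') = a * (w * w' * (ε * ε')) := by
    calc (w * ε) * (w' * ε') = w * (ε * w') * ε' := by group
      _ = (w * a) * (w' * ε) * ε' := by rw [e1]; group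
      _ = a * (w * w' * (ε * ε')) := by rw [ca hwC]; group
  have e2' : ε' * w = b⁻¹ * (w * ε') := by rw [e2]; group
  have cb' : w' * b⁻¹ = b⁻¹ * w' := by
    rw [eq_inv_mul_iff_mul_eq, ← mul_assoc, ← cb hwC', mul_inv_cancel_right]
  have e4 : (w' * ε') * (w * ε) = b⁻¹ * (w' * w * (ε * ε')) := by
    calc (w' * ε') * (w * ε) = w' * (ε' * w) * ε := by group
      _ = (w' * b⁻¹) * (w * (ε' * ε)) := by rw [e2']; group
      _ = b⁻¹ * (w' * w * (ε * ε')) := by rw [cb', h3]; group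
  have e5 : (w * ε) * (w' * ε') * (w * ε)⁻¹ * (w' * ε')⁻¹ = a * (w * w' * w⁻¹ * w'⁻¹) * b := by
    calc (w * ε) * (w' * ε') * (w * ε)⁻¹ * (w' * ε')⁻¹ = ((w * ε) * (w' * ε')) * ((w' * ε') * (w * ε))⁻¹ := by group
      _ = a * (w * w' * w⁻¹ * w'⁻¹) * b := by rw [e3, e4]; group
  have hc : w * w' * w⁻¹ * w'⁻¹ ∈ centralizer (V : Set G) :=
    mul_mem (mul_mem (mul_mem hwC hwC') (inv_mem hwC)) (inv_mem hwC')
  rw [e5, mul_assoc a, cb hc, ← mul_assoc, mul_inv_cancel_right]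
  exact mul_mem h1 h2

end One

namespace Co

variable [Finite G] {F : Type*} [Field F] [CharP F 2] {S : Sylow 2 G} {B P V Z : Subgroup G} (h : Co F S B P V Z)

/-- `X_V` acts on `V` by matrices of determinant 1 -/
theorem XV_sl {g : G} (hg : g ∈ XV V Z) : ∃ a b c d : F, a * d + b * c = 1 ∧
    ∀ x y, g * h.e x y * g⁻¹ = h.e (a * x + b * y) (c * x + d * y) := by
  let D : Subgroup G :=
    { carrier := {g | ∃ a b c d : F, a * d + b * c = 1 ∧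
        ∀ x y, g * h.e x y * g⁻¹ = h.e (a * x + b * y) (c * x + d * y)}
      one_mem' := ⟨1, 0, 0, 1, by ring, fun x y => by rw [one_mul, inv_one, mul_one]; congr 1 <;> ring⟩
      mul_mem' := by
        rintro g k ⟨a, b, c, d, h1, h2⟩ ⟨a', b', c', d', h1', h2'⟩
        refine ⟨a * a' + b * c', a * b' + b * d', c * a' + d * c', c * b' + d * d', ?_, fun x y => ?_⟩
        · have h3 : (a * d + b * c) * (a' * d' + b' * c') = 1 := by rw [h1, h1', one_mul]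
          have h4 : (2 : F) = 0 := CharTwo.two_eq_zero
          linear_combination h3 + (a * a' * b' * c + b * c' * d * d') * h4
        · have e : g * k * h.e x y * (g * k)⁻¹ = g * (k * h.e x y * k⁻¹) * g⁻¹ := by group
          rw [e, h2', h2]
          congr 1 <;> ring
      inv_mem' := by
        rintro g ⟨a, b, c, d, h1, h2⟩
        refine ⟨d, b, c, a, by rw [← h1]; ring, fun x y => ?_⟩
        have h4 : (2 : F) = 0 := CharTwo.two_eq_zero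
        have h3 : h.e x y = g * h.e (d * x + b * y) (c * x + a * y) * g⁻¹ := by
          rw [h2]
          congr 1
          · linear_combination (-x) * h1 + (-a * b * y) * h4
          · linear_combination (-y) * h1 + (-c * d * x) * h4
        rw [h3]; group }
  have hK : XV V Z ≤ D := by
    refine h.XV_le.trans (sup_le ?_ ?_)
    · intro k hk
      obtain ⟨t, ht⟩ := h.K_tv hk
      exact ⟨1, t, 0, 1, by ring, fun x y => by rw [ht]; congr 1 <;> ring⟩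
    · intro k hk
      obtain ⟨t, ht⟩ := h.K_tv' hk
      exact ⟨1, 0, t, 1, by ring, fun x y => by rw [ht]; congr 1 <;> ring⟩
  exact hK hg

include h in
/-- `g ∈ X_V ∩ C(Z)` satisfies `[g, W_Z] ≤ E_Z` -/
theorem XV_ee {g w : G} (hg : g ∈ XV V Z) (hgZ : ∀ z ∈ Z, g * z * g⁻¹ = z) (hw : w ∈ ws V Z) :
    g * w * g⁻¹ * w⁻¹ ∈ ee V Z Z := by
  obtain ⟨a, b, c, d, h1, h2⟩ := h.XV_sl hg
  have h3 := h2 1 0
  rw [hgZ _ (h.e_memZ 1)] at h3
  have h4 := h.e_inj h3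
  have ha : a = 1 := by have := h4.1; rw [mul_one, mul_zero, add_zero] at this; exact this.symm
  have hc : c = 0 := by have := h4.2; rw [mul_one, mul_zero, add_zero] at this; exact this.symm
  have hd : d = 1 := by rw [ha, hc, one_mul, mul_zero, add_zero] at h1; exact h1
  have h5 : (h.kp b)⁻¹ * g ∈ yl V Z := by
    rw [← h.XV_cent]
    refine ⟨(XV V Z).mul_mem ((XV V Z).inv_mem (h.kp_XV b)) hg, h.mem_cent fun x y => ?_⟩
    have e : (h.kp b)⁻¹ * g * h.e x y * ((h.kp b)⁻¹ * g)⁻¹ = (h.kp b)⁻¹ * (g * h.e x y * g⁻¹) * h.kp b := by group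
    have e2 : g * h.e x y * g⁻¹ = h.kp b * h.e x y * (h.kp b)⁻¹ := by
      rw [h2, h.kp_act, ha, hc, hd]
      congr 1 <;> ring
    rw [e, e2]; group
  set y := (h.kp b)⁻¹ * g with hy
  have e : g * w * g⁻¹ * w⁻¹ = (h.kp b * (y * w * y⁻¹) * (h.kp b)⁻¹ * (y * w * y⁻¹)⁻¹) * (y * w * y⁻¹ * w⁻¹) := by
    rw [hy]; group
  have h6 := h.one.yl_ee h.one.self h5 hw
  have h7 : y * w * y⁻¹ ∈ ws V Z := by
    have e : y * w * y⁻¹ = (y * w * y⁻¹ * w⁻¹) * w := by group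
    rw [e]
    exact mul_mem (ee_le h6) hw
  rw [e]
  refine mul_mem ?_ h6
  exact h.one.dd_le_ee h.one.self (h.one.X_le_dd h.one.self ((mem_kx.1 (h.kp_mem b)).2 _ h7))

include h in
/-- `g ∈ X_V ∩ C(X)` satisfies `[g, W_X] ≤ E_X`, `X = Z^k`, `k ∈ X_V` -/
theorem XV_ee' {k g w : G} (hk : k ∈ XV V Z) (hg : g ∈ XV V Z) (hgZ : ∀ z ∈ Z, g * (k * z * k⁻¹) * g⁻¹ = k * z * k⁻¹)
    (hw : w ∈ ws V (PT.cj k Z)) : g * w * g⁻¹ * w⁻¹ ∈ ee V Z (PT.cj k Z) := by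
  have h1 := h.XV_ee (g := k⁻¹ * g * k) (w := k⁻¹ * w * k) ((XV V Z).mul_mem ((XV V Z).mul_mem ((XV V Z).inv_mem hk) hg) hk)
    (fun z hz => by
      have h2 := hgZ z hz
      calc k⁻¹ * g * k * z * (k⁻¹ * g * k)⁻¹ = k⁻¹ * (g * (k * z * k⁻¹) * g⁻¹) * k := by group
        _ = z := by rw [h2]; group)
    (by rw [ws_cj, mem_cj] at hw; exact hw)
  rw [← cj_ee (h.one.pl.XV_le_N hk), mem_cj]
  have e : k⁻¹ * (g * w * g⁻¹ * w⁻¹) * k = k⁻¹ * g * k * (k⁻¹ * w * k) * (k⁻¹ * g * k)⁻¹ * (k⁻¹ * w * k)⁻¹ := by group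
  rw [e]
  exact h1

section lemK

variable {M Q : Subgroup G} {g e : G}

include h in
/-- the element `k ∈ X_V` with `z^k = z^g`, `(z^g)^k = z z^g` -/
theorem exists_k (hg : g ∈ XV V Z) (hgZ : PT.cj g Z ≠ Z) : ∃ k ∈ XV V Z, g⁻¹ * k ∈ kx V Z ∧
    (∀ z ∈ Z, k * (g * z * g⁻¹) * k⁻¹ = z * (g * z * g⁻¹)) := by
  obtain ⟨a, b, c, d, h1, h2⟩ := h.XV_sl hg
  have hc : c ≠ 0 := by
    rintro rfl
    apply hgZ
    have hN := h.one.pl.XV_le_N hg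
    rw [mul_zero, add_zero] at h1
    have ha : a ≠ 0 := fun e => by rw [e, zero_mul] at h1; exact zero_ne_one h1
    refine h.cj_Z_of (f := fun x => a * x) (fun y => ⟨a⁻¹ * y, mul_inv_cancel_left₀ ha y⟩) fun x => ?_
    rw [h2]
    congr 1 <;> ring
  have h4 : (2 : F) = 0 := CharTwo.two_eq_zero
  set s := (1 + a + d) * c⁻¹ with hs
  have hsc : s * c = 1 + a + d := by rw [hs, inv_mul_cancel_right₀ hc]
  refine ⟨g * h.kp s, mul_mem hg (h.kp_XV s), by rw [inv_mul_cancel_left]; exact h.kp_mem s, fun z hz => ?_⟩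
  obtain ⟨x, rfl⟩ := (h.mem_Z z).1 hz
  have e1 : g * h.kp s * (g * h.e x 0 * g⁻¹) * (g * h.kp s)⁻¹ =
      g * (h.kp s * (g * h.e x 0 * g⁻¹) * (h.kp s)⁻¹) * g⁻¹ := by group
  rw [e1, h2 x 0, h.kp_act, h2, ← h.e_add]
  congr 1
  · linear_combination (a * x) * hsc + x * h1 + (a ^ 2 * x) * h4
  · linear_combination (c * x) * hsc + (c * a * x + c * d * x) * h4
include h in
/-- **(1)** `[w, w^e] = [v, w]` modulo `V` for `w = v^g` -/
theorem kap_mod (hg : g ∈ XV V Z) (hgZ : PT.cj g Z ≠ Z) (heX : e ∈ kx V Z)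
    (hge : ∀ z ∈ Z, e * (g * z * g⁻¹) * e⁻¹ = z * (g * z * g⁻¹)) (heY : PT.cj e (PT.cj g Z) ≠ PT.cj g Z)
    {v : G} (hv : v ∈ ws V Z) :
    (g * v * g⁻¹) * (e * (g * v * g⁻¹) * e⁻¹) * (g * v * g⁻¹)⁻¹ * (e * (g * v * g⁻¹) * e⁻¹)⁻¹ *
      (v * (g * v * g⁻¹) * v⁻¹ * (g * v * g⁻¹)⁻¹)⁻¹ ∈ V := by
  have hgN := h.one.pl.XV_le_N hg
  have heXV : e ∈ XV V Z := le_XV h.one.self.cj h.one.self.le heX
  have heN := h.one.pl.XV_le_N heXV
  have hY : Pnt V Z (PT.cj g Z) := h.one.self.conj hgN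
  have hY' : Pnt V Z (PT.cj e (PT.cj g Z)) := hY.conj heN
  obtain ⟨k, hk, hgk, hkY⟩ := h.exists_k hg hgZ
  set w := g * v * g⁻¹ with hw
  have hwY : w ∈ ws V (PT.cj g Z) := by rw [ws_cj]; exact conj_mem_cj hv
  set w' := e * w * e⁻¹ with hw'
  have hwY' : w' ∈ ws V (PT.cj e (PT.cj g Z)) := by rw [ws_cj]; exact conj_mem_cj hwY
  -- `k v k⁻¹ = y w`
  obtain ⟨y, hy, hkv⟩ : ∃ y ∈ V, k * v * k⁻¹ = y * w := by
    have h1 : (g⁻¹ * k) * v * (g⁻¹ * k)⁻¹ * v⁻¹ ∈ Z := (mem_kx.1 hgk).2 v hv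
    refine ⟨g * ((g⁻¹ * k) * v * (g⁻¹ * k)⁻¹ * v⁻¹) * g⁻¹, (mem_normalizer_iff.1 hgN _).1 (h.one.pl.ZV h1), ?_⟩
    rw [hw]; group
  -- `k w k⁻¹ = ε' w'`
  obtain ⟨ε', hε', hkw⟩ : ∃ ε' ∈ ee V Z (PT.cj e (PT.cj g Z)), k * w * k⁻¹ = w' * ε' := by
    have h1 := h.XV_ee' (k := g) (g := e⁻¹ * k) (w := w) hg ((XV V Z).mul_mem ((XV V Z).inv_mem heXV) hk)
      (fun z hz => by
        calc e⁻¹ * k * (g * z * g⁻¹) * (e⁻¹ * k)⁻¹ = e⁻¹ * (k * (g * z * g⁻¹) * k⁻¹) * e := by group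
          _ = e⁻¹ * (e * (g * z * g⁻¹) * e⁻¹) * e := by rw [hkY z hz, hge z hz]
          _ = g * z * g⁻¹ := by group) hwY
    have h2 : e * (e⁻¹ * k * w * (e⁻¹ * k)⁻¹ * w⁻¹) * e⁻¹ ∈ ee V Z (PT.cj e (PT.cj g Z)) := by
      rw [← cj_ee heN]; exact conj_mem_cj h1
    refine ⟨_, h2, ?_⟩
    have h3 : e * (e⁻¹ * k * w * (e⁻¹ * k)⁻¹ * w⁻¹) * e⁻¹ ∈ ws V (PT.cj e (PT.cj g Z)) := ee_le h2
    rw [h.one.comm_W hY'.cj hwY' h3, hw']
    group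
  have h1 := h.one.comm_mod hY hY' heY.symm (ε := 1) hwY hwY' (one_mem _) hε'
  rw [mul_one] at h1
  have hwC := h.one.W_le_cent hY hwY
  have hwC' := h.one.W_le_cent hY' hwY'
  have hεC := h.one.W_le_cent hY' (ee_le hε')
  -- `k c k⁻¹ = [y w, w' ε'] = [w, w' ε']`
  set c := v * w * v⁻¹ * w⁻¹ with hc
  have hcI : c ∈ IV V Z := h.one.comm_mem h.one.self hY (fun e => hgZ e.symm) hv hwY
  have h2 : k * c * k⁻¹ = w * (w' * ε') * w⁻¹ * (w' * ε')⁻¹ := by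
    have e1 : k * c * k⁻¹ = (k * v * k⁻¹) * (k * w * k⁻¹) * (k * v * k⁻¹)⁻¹ * (k * w * k⁻¹)⁻¹ := by rw [hc]; group
    rw [e1, hkv, hkw]
    have h3 : w' * ε' ∈ centralizer (V : Set G) := mul_mem hwC' hεC
    have h4 : w * (w' * ε') * w⁻¹ * (w' * ε')⁻¹ ∈ centralizer (V : Set G) :=
      mul_mem (mul_mem (mul_mem hwC h3) (inv_mem hwC)) (inv_mem h3)
    have h5 : y⁻¹ * (w' * ε')⁻¹ = (w' * ε')⁻¹ * y⁻¹ := (h.one.cent_V (inv_mem h3) (V.inv_mem hy)).symm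
    calc y * w * (w' * ε') * (y * w)⁻¹ * (w' * ε')⁻¹
        = y * (w * (w' * ε') * w⁻¹) * (y⁻¹ * (w' * ε')⁻¹) := by group
      _ = y * (w * (w' * ε') * w⁻¹ * (w' * ε')⁻¹) * y⁻¹ := by rw [h5]; group
      _ = _ := by rw [← h.one.cent_V h4 hy, mul_inv_cancel_right]
  have h3 : k * c * k⁻¹ * c⁻¹ ∈ V := h.one.XV_I hk hcI
  rw [h2] at h3
  have e1 : w * w' * w⁻¹ * w'⁻¹ * c⁻¹ = (w * (w' * ε') * w⁻¹ * (w' * ε')⁻¹ * (w * w' * w⁻¹ * w'⁻¹)⁻¹)⁻¹ *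
      (w * (w' * ε') * w⁻¹ * (w' * ε')⁻¹ * c⁻¹) := by group
  rw [e1]
  exact V.mul_mem (V.inv_mem h1) h3

include h in
/-- **LEMMA K** -/
theorem lemK (hM : IsCj V M) (hZM : Z ≤ M) (hQ : IsCj Z Q) (hQM : Q ≤ M) (hQZ : Q ≠ Z)
    (hg : g ∈ XV V Z) (hgZ : PT.cj g Z ≠ Z) (he : e ∈ ws V Q) (heX : e ∈ kx V Z)
    (hge : ∀ z ∈ Z, e * (g * z * g⁻¹) * e⁻¹ = z * (g * z * g⁻¹))
    (hp : ∀ w ∈ ws V (PT.cj g Z), ∀ v ∈ M, w * v * w⁻¹ * v⁻¹ ∈ ee M Z Z)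
    {v : G} (hv : v ∈ M) : v * (g * v * g⁻¹) * v⁻¹ * (g * v * g⁻¹)⁻¹ ∈ Z := by
  have hVV : IsCj V V := ⟨1, (cj_one V).symm⟩
  have hZ := h.one.pl.isCj_self
  have hgN := h.one.pl.XV_le_N hg
  have hY : Pnt V Z (PT.cj g Z) := h.one.self.conj hgN
  have hvW : v ∈ ws V Z := h.one.line_le_ws hM hZM hv
  -- `e` moves `Y`
  have heY : PT.cj e (PT.cj g Z) ≠ PT.cj g Z := by
    intro e1
    obtain ⟨z, hz, hz1⟩ := h.one.pl.pt_ne_bot hZ
    have h1 : g * z * g⁻¹ ∈ PT.cj g Z := conj_mem_cj hz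
    have h2 : e * (g * z * g⁻¹) * e⁻¹ ∈ PT.cj g Z := by
      rw [← e1] ; exact conj_mem_cj h1
    rw [hge z hz] at h2
    exact hgZ (h.one.pl.pts_eq hY.cj hZ ((Subgroup.mul_mem_cancel_right _ h1).1 h2) hz hz1)
  set w := g * v * g⁻¹ with hw
  have hwY : w ∈ ws V (PT.cj g Z) := by rw [ws_cj]; exact conj_mem_cj hvW
  -- `E_Q(M)` and `E_Z(M)` commute
  have heE : e ∈ ee M Z Q := by
    rw [h.one.ee_line hM hQ hQM hZ hZM hQZ.symm]; exact ⟨he, heX⟩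
  obtain ⟨T, C, Q', h'⟩ := h.one.flag hM hZ hZM
  have hQM' : Pnt M Z Q := ⟨hQ, hQM⟩
  have hEE : ∀ x ∈ ee M Z Z, e * x = x * e := fun x hx => h'.ee_comm hQM' h'.self hQZ heE hx
  have hpv : w * v * w⁻¹ * v⁻¹ ∈ ee M Z Z := hp w hwY v hv
  -- `V ∩ E_Z(M) ≤ Z`
  have hVE : ∀ x ∈ V, x ∈ ee M Z Z → x ∈ Z := by
    intro x hx hxE
    by_contra hxZ
    have h1 := h.one.lin_base (k := e) (fun z hz => (mem_kx.1 heX).1 z hz) hx hxZ (hEE x hxE)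
    exact heY (h.one.cent_fix hY h1)
  have hIE : IV M Z ≤ ee M Z Z := (h'.I_le_dd h'.self).trans (h'.dd_le_ee h'.self)
  -- KAPPA
  have hkap := h.one.kappa hVV hM hZ h.one.pl.ZV hZM hY.cj hY.le hgZ hQ hQM hQZ hwY he heX heY (fun q hq => by
    have h1 : w * q * w⁻¹ * q⁻¹ ∈ ee M Z Z := hp w hwY q (hQM hq)
    have h2 : e * q = q * e := h.one.comm_W hQ he (h.one.line_le_ws hM hQM (hQM hq))
    have e1 : w * q * w⁻¹ = (w * q * w⁻¹ * q⁻¹) * q := by group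
    rw [e1, ← mul_assoc, hEE _ h1, mul_assoc, h2, ← mul_assoc])
  obtain ⟨huV, huM, -⟩ := hkap
  have hmod := h.kap_mod hg hgZ heX hge heY hvW
  rw [← hw] at hmod
  set u := w * (e * w * e⁻¹) * w⁻¹ * (e * w * e⁻¹)⁻¹ with hu
  set c := v * w * v⁻¹ * w⁻¹ with hc
  -- `c ∈ E_Z(M)`
  have hcE : c ∈ ee M Z Z := by
    have e1 : c = (w * v * w⁻¹ * v⁻¹)⁻¹ := by rw [hc]; group
    rw [e1]; exact inv_mem hpv
  have hucZ : u * c⁻¹ ∈ Z := hVE _ hmod (mul_mem (hIE huM) (inv_mem hcE))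
  have hcM : c ∈ IV M Z := by
    have e1 : c = (u * c⁻¹)⁻¹ * u := by group
    rw [e1]; exact mul_mem (inv_mem (h'.pl.V_le_IV (hZM hucZ))) huM
  by_contra hcZ
  have hcIV : c ∈ IV V Z := h.one.comm_mem h.one.self hY (fun e => hgZ e.symm) hvW hwY
  have hwZ : w ∈ centralizer (Z : Set G) := centralizer_le h.one.pl.ZV (h.one.W_le_cent hY hwY)
  have hcw : w * c = c * w := (h.one.comm_W hY.cj hwY (by
    rw [← h.one.pl.IV_eq h.one.hf h.one.self.cj h.one.self.le hY.cj hY.le (fun e => hgZ e.symm)] at hcIV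
    exact hcIV.2))
  have hvc : w * v * w⁻¹ = c⁻¹ * v := by rw [hc]; group
  -- the line `M' = M^w`
  set M' := PT.cj w M with hM'
  have hM'c : IsCj V M' := hM.cj w
  have hwZ' : PT.cj w Z = Z := cj_eq_iff.2 (centralizer_le_normalizer _ hwZ)
  have hZM' : Z ≤ M' := by rw [← hwZ']; exact cj_le_cj.2 hZM
  have hv'M' : c⁻¹ * v ∈ M' := by rw [← hvc]; exact conj_mem_cj hv
  have hv'I : c⁻¹ * v ∈ IV M Z := mul_mem (inv_mem hcM) (h'.pl.V_le_IV hv)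
  have hv'M : c⁻¹ * v ∉ M := by
    intro h1
    have hcM' : c ∈ M := by
      have e1 : c = v * (c⁻¹ * v)⁻¹ := by group
      rw [e1]; exact M.mul_mem hv (M.inv_mem h1)
    have hc1 : c ≠ 1 := fun e => hcZ (by rw [e]; exact one_mem _)
    obtain ⟨R, hR, hRM, hcR⟩ := h.one.line_pt hM hcM' hc1
    have hRZ : Z ≠ R := fun e => hcZ (by rw [e]; exact hcR)
    have h2 := h.one.lin_fix hM hZ hZM hR hRM hRZ hwZ hcR hc1 hcw
    apply hc1
    rw [hc, mem_centralizer_iff.1 h2 v hv]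
    group
  have hM'I : M' ≤ IV M Z := h'.line_le_I ⟨w, rfl⟩ hZM' hv'I hv'M hv'M'
  have hne : M' ≠ M := fun e1 => hv'M (e1 ▸ hv'M')
  have hpl := h'.plg_of ⟨w, rfl⟩ hZM' hne hM'I
  -- `u` is in a point `R` of the plane
  have hcQ : c ∈ M ⊔ M' := by
    have e1 : c = v * (c⁻¹ * v)⁻¹ := by group
    rw [e1]; exact mul_mem (mem_sup_left hv) (inv_mem (mem_sup_right hv'M'))
  have huQ : u ∈ M ⊔ M' := by
    have e1 : u = (u * c⁻¹) * c := by group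
    rw [e1]; exact mul_mem (mem_sup_left (hZM hucZ)) hcQ
  have huZ : u ∉ Z := by
    intro h1
    apply hcZ
    have e1 : c = (u * c⁻¹)⁻¹ * u := by group
    rw [e1]; exact Z.mul_mem (Z.inv_mem hucZ) h1
  have hu1 : u ≠ 1 := fun e1 => huZ (by rw [e1]; exact one_mem _)
  have huVn : u ∉ V := fun h1 => huZ (hVE u h1 (hIE huM))
  obtain ⟨R, hR, hRQ, huR⟩ := hpl.cov u huQ hu1
  have hRW := hpl.leW R hR hRQ
  rw [ws_line hM] at hRW
  have hvR : v ∈ ws V R := hRW (mem_sup_left hv)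
  obtain ⟨s, hs, hsu⟩ := h.one.fix_I huV huVn hg
  have hsR : PT.cj (s * g) R = R := cj_eq_iff.2 (h.one.pl.norm_of_comm hR huR hu1 hsu)
  have hxR : (s * g) * v * (s * g)⁻¹ ∈ ws V R := by
    have h1 := conj_mem_cj (g := s * g) hvR
    rwa [← ws_cj, hsR] at h1
  have hcomm := h.one.comm_W hR hvR hxR
  set ε := s * w * s⁻¹ * w⁻¹ with hεdef
  have hε : ε ∈ ee V Z (PT.cj g Z) := h.one.yl_ee hY hs hwY
  have hx : (s * g) * v * (s * g)⁻¹ = ε * w := by rw [hεdef, hw]; group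
  rw [hx] at hcomm
  have hz0 : ε * v * ε⁻¹ * v⁻¹ ∈ Z := h.one.ee_act h.one.self (fun e => hgZ e.symm) hε hvW
  set z0 := ε * v * ε⁻¹ * v⁻¹ with hz0def
  have e0 : ε * v = z0 * (v * ε) := by rw [hz0def]; group
  have e1 : ε⁻¹ * z0 * ε = z0 := by
    rw [mul_assoc, ← h.one.cent_V (h.one.W_le_cent hY (ee_le hε)) (h.one.pl.ZV hz0), inv_mul_cancel_left]
  have e2 : v * w = z0 * (w * v) := by
    calc v * w = ε⁻¹ * (ε * v) * w := by group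
      _ = (ε⁻¹ * z0) * (v * (ε * w)) := by rw [e0]; group
      _ = (ε⁻¹ * z0 * ε) * (w * v) := by rw [hcomm]; group
      _ = z0 * (w * v) := by rw [e1]
  apply hcZ
  rw [hc, e2]
  have e3 : z0 * (w * v) * v⁻¹ * w⁻¹ = z0 := by group
  rw [e3]
  exact hz0

end lemK

end Co

end Cfsg.Agent.Omega.NO3S.OneQ

end

-- merged: Cfsg.Agent.Mrg.Omega.NO3S.OneQ.LemKDual
section

/-!
# NO-3S, `OneQ`: LEMMA K from duality, and in the module `MF`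

`dual` : every functional of `MF` which vanishes on `Ē` is induced by an element of `E_Y` (`Y = Yp`).

* `Co.dual_line` : the same for the line `V^c`, `c ∈ C_G(Z)`;
* `Co.exists_e` : the element `e` of `Co.lemK`;
* `Co.lemK_cj` : **LEMMA K** for `V^c`: `V ≰ E_Z(V^c)` and `[V^c, W_Y] ≤ E_Z(V^c)` imply `[v, v^g] ∈ Z` for `v ∈ V^c`;
* `Co.lemKM` : the same in `MF`.
-/

set_option autoImplicit false
set_option linter.unusedSectionVars false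

namespace Cfsg.Agent.Omega.NO3S.OneQ.Co

open Subgroup Cfsg Cfsg.Agent.Omega.NO3S.PT Cfsg.Agent.Omega.NoFF.Basic
open scoped Pointwise

universe u

variable {G : Type u} [Group G] [Finite G] {F : Type*} [Field F] [CharP F 2] {S : Sylow 2 G} {B P V Z : Subgroup G}
  (h : Co F S B P V Z)

/-- duality for `V` -/
def Dual : Prop := ∀ φ : h.MF →ₗ[F] F, (∀ m ∈ h.Eb, φ m = 0) → ∃ e ∈ ee V Z h.Yp, ∀ w : ws V Z, h.fn w e = φ (h.fm w)

variable {h}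

/-- duality for the line `V^c` -/
theorem dual_line (dual : h.Dual) {c : G} (hc : c ∈ centralizer (Z : Set G)) (φ : h.MF →ₗ[F] F)
    (hφ : ∀ m ∈ h.Eb, φ (h.rp ⟨c, h.C_le_hat hc⟩ m) = 0) :
    ∃ e ∈ ee (PT.cj c V) Z (PT.cj c h.Yp), e ∈ ws V (PT.cj c h.Yp) ∧ e ∈ kx V Z ∧
      ∀ w : ws V Z, h.fn w e = φ (h.fm w) := by
  have hcN := centralizer_le_normalizer _ hc
  obtain ⟨e, he, hee⟩ := dual (φ.comp (h.rp ⟨c, h.C_le_hat hc⟩)) fun m hm => hφ m hm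
  have heK : e ∈ kx V Z := (mem_ee.1 he).2 Z h.one.self h.Yp_ne.symm
  have hcK : c * e * c⁻¹ ∈ kx V Z := (mem_normalizer_iff.1 (normalizer_le_kx V Z hcN) e).1 heK
  refine ⟨c * e * c⁻¹, ?_, ?_, hcK, fun w => ?_⟩
  · rw [← cj_conj_ee]; exact conj_mem_cj he
  · rw [ws_cj]; exact conj_mem_cj (ee_le he)
  · have hw' : c⁻¹ * w * c ∈ ws V Z := by
      have := h.W_conj (inv_mem hcN) w.2
      rwa [inv_inv] at this
    have h1 := h.fn_conj hc hw' hcK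
    have e1 : c * (c⁻¹ * (w : G) * c) * c⁻¹ = w := by group
    have e2 : c⁻¹ * (c * e * c⁻¹) * c = e := by group
    rw [e1, e2] at h1
    rw [h1]
    have h2 := hee ⟨_, hw'⟩
    rw [h2, LinearMap.comp_apply, h.rp_fm' (h.C_le_hat hc) hw']
    congr 2
    exact Subtype.ext e1

variable (h)

/-- `Ē` of the line `V^c` -/
theorem fm_Ec_iff (hN : NTr V Z) {c : G} (hc : c ∈ centralizer (Z : Set G)) {w : G} (hw : w ∈ ws V Z) :
    h.fm ⟨w, hw⟩ ∈ (h.Eb).map (h.rp ⟨c, h.C_le_hat hc⟩) ↔ w ∈ ee (PT.cj c V) Z Z := by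
  have hcN := centralizer_le_normalizer _ hc
  have hcZ : PT.cj c Z = Z := cj_eq_iff.2 hcN
  have hEc : ee (PT.cj c V) Z Z = PT.cj c (ee V Z Z) := by
    rw [cj_conj_ee, hcZ]
  rw [hEc, mem_cj]
  have hw' : c⁻¹ * w * c ∈ ws V Z := by
    have := h.W_conj (inv_mem hcN) hw
    rwa [inv_inv] at this
  constructor
  · rintro ⟨m, hm, hmv⟩
    obtain ⟨u, rfl⟩ := h.fm_surj m
    have huE : (u : G) ∈ ee V Z Z := (h.fm_Eb_iff hN).1 hm
    rw [h.rp_fm, h.fm_eq] at hmv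
    have h3 : c⁻¹ * (c * u * c⁻¹ * w⁻¹) * c ∈ rd V Z := by
      have := (mem_normalizer_iff.1 (inv_mem (norm_rd V Z hcN)) _).1 hmv
      rwa [inv_inv] at this
    have e1 : c⁻¹ * w * c = (c⁻¹ * (c * u * c⁻¹ * w⁻¹) * c)⁻¹ * u := by group
    rw [e1]
    exact mul_mem (inv_mem (h.rd_le_ee hN h3)) huE
  · intro h1
    refine ⟨h.fm ⟨_, hw'⟩, h.fm_Eb h1, ?_⟩
    rw [h.rp_fm' (h.C_le_hat hc) hw']
    congr 1
    exact Subtype.ext (by show c * (c⁻¹ * w * c) * c⁻¹ = w; group)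

variable {h}

/-- the element `e` of LEMMA K -/
theorem exists_e (hN : NTr V Z) (dual : h.Dual) {c g : G} (hc : c ∈ centralizer (Z : Set G))
    (hVc : ¬ V ≤ ee (PT.cj c V) Z Z) (hg : g ∈ XV V Z) (hgZ : PT.cj g Z ≠ Z) :
    ∃ e ∈ ws V (PT.cj c h.Yp), e ∈ kx V Z ∧ ∀ z ∈ Z, e * (g * z * g⁻¹) * e⁻¹ = z * (g * z * g⁻¹) := by
  obtain ⟨a, b, c', d, h1, h2⟩ := h.XV_sl hg
  have hc' : c' ≠ 0 := by
    rintro rfl
    apply hgZ
    rw [mul_zero, add_zero] at h1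
    have ha : a ≠ 0 := fun e => by rw [e, zero_mul] at h1; exact zero_ne_one h1
    refine h.cj_Z_of (f := fun x => a * x) (fun y => ⟨a⁻¹ * y, mul_inv_cancel_left₀ ha y⟩) fun x => ?_
    rw [h2]
    congr 1 <;> ring
  -- `v₀` is not in `Ē(V^c)`
  have hv0 : h.v0 ∉ (h.Eb).map (h.rp ⟨c, h.C_le_hat hc⟩) := by
    intro hm
    apply hVc
    intro v hv
    obtain ⟨x, y, rfl⟩ := (h.mem_V v).1 hv
    rw [← h.fm_Ec_iff hN hc (h.W_V x y), h.fm_e]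
    exact Submodule.smul_mem _ _ hm
  obtain ⟨φ, hφ, hk⟩ := Submodule.exists_le_ker_of_notMem hv0
  obtain ⟨e, -, he, heK, hee⟩ := dual_line dual hc ((c' * φ h.v0)⁻¹ • φ) fun m hm => by
    rw [LinearMap.smul_apply, show φ (h.rp ⟨c, h.C_le_hat hc⟩ m) = 0 from hk ⟨m, hm, rfl⟩, smul_zero]
  refine ⟨e, he, heK, fun z hz => ?_⟩
  obtain ⟨x, rfl⟩ := (h.mem_Z z).1 hz
  have h3 := hee ⟨h.e (a * x + b * 0) (c' * x + d * 0), h.W_V _ _⟩
  rw [h.fm_e, map_smul, LinearMap.smul_apply, smul_eq_mul, smul_eq_mul] at h3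
  have h4 : (c' * x + d * 0) * ((c' * φ h.v0)⁻¹ * φ h.v0) = x := by
    field_simp
    ring
  rw [h4] at h3
  have h5 := h.e_fn (h.W_V (a * x + b * 0) (c' * x + d * 0)) heK
  rw [h3] at h5
  rw [h2, h5]
  group

/-- **LEMMA K** for the line `V^c` -/
theorem lemK_cj (hN : NTr V Z) (dual : h.Dual) {c g v : G} (hc : c ∈ centralizer (Z : Set G))
    (hVc : ¬ V ≤ ee (PT.cj c V) Z Z) (hg : g ∈ XV V Z) (hgZ : PT.cj g Z ≠ Z)
    (hp : ∀ w ∈ ws V (PT.cj g Z), ∀ v ∈ PT.cj c V, w * v * w⁻¹ * v⁻¹ ∈ ee (PT.cj c V) Z Z)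
    (hv : v ∈ PT.cj c V) : v * (g * v * g⁻¹) * v⁻¹ * (g * v * g⁻¹)⁻¹ ∈ Z := by
  have hcZ : PT.cj c Z = Z := cj_eq_iff.2 (centralizer_le_normalizer _ hc)
  have hZM : Z ≤ PT.cj c V := by
    nth_rewrite 1 [← hcZ]
    exact cj_le_cj.2 h.one.pl.ZV
  obtain ⟨e, he, heK, hee⟩ := exists_e hN dual hc hVc hg hgZ
  refine h.lemK (Q := PT.cj c h.Yp) ⟨c, rfl⟩ hZM (h.pY.cj.cj c) (cj_le_cj.2 h.pY.le) (fun e1 => ?_) hg hgZ he heK hee hp hv
  exact h.Yp_ne (cj_inj.1 (e1.trans hcZ.symm))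

variable (h)

/-- **LEMMA K** in `MF` -/
theorem lemKM (hN : NTr V Z) (dual : h.Dual) {c : G} (hc : c ∈ centralizer (Z : Set G))
    (h1 : h.v0 ∉ (h.Eb).map (h.rp ⟨c, h.C_le_hat hc⟩))
    (h2 : ∀ a (ha : a ∈ ws V h.Yp), h.rp ⟨a, h.W_hat h.pY ha⟩ (h.rp ⟨c, h.C_le_hat hc⟩ h.v0) - h.rp ⟨c, h.C_le_hat hc⟩ h.v0 ∈
      (h.Eb).map (h.rp ⟨c, h.C_le_hat hc⟩)) (a : F) :
    h.al (a • h.rp ⟨c, h.C_le_hat hc⟩ h.v0) (h.rp ⟨c, h.C_le_hat hc⟩ h.v0) = h.rp ⟨c, h.C_le_hat hc⟩ h.v0 := by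
  by_cases ha0 : a = 0
  · rw [ha0, zero_smul, h.al_zero hN]; rfl
  have hcN := centralizer_le_normalizer _ hc
  have hVc : ¬ V ≤ ee (PT.cj c V) Z Z := by
    intro h3
    apply h1
    exact (h.fm_Ec_iff hN hc (h.W_V 0 1)).2 (h3 (h.e_memV 0 1))
  have hcv : ∀ (x y : F), h.fm ⟨c * h.e x y * c⁻¹, h.W_conj hcN (h.W_V x y)⟩ = y • h.rp ⟨c, h.C_le_hat hc⟩ h.v0 := by
    intro x y
    rw [← map_smul, ← h.fm_e x y, h.rp_fm' (h.C_le_hat hc) (h.W_V x y)]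
  have hp : ∀ w ∈ ws V (PT.cj h.sw Z), ∀ v ∈ PT.cj c V, w * v * w⁻¹ * v⁻¹ ∈ ee (PT.cj c V) Z Z := by
    intro w hw v hv
    rw [h.cj_sw] at hw
    rw [mem_cj] at hv
    obtain ⟨x, y, hxy⟩ := (h.mem_V _).1 hv
    obtain rfl : v = c * h.e x y * c⁻¹ := by rw [hxy]; group
    have hvW := h.W_conj hcN (h.W_V x y)
    have hwN : w ∈ normalizer (Z : Set G) := h.hat_norm (h.W_hat h.pY hw)
    have hwv := h.W_conj hwN hvW
    have hmem : w * (c * h.e x y * c⁻¹) * w⁻¹ * (c * h.e x y * c⁻¹)⁻¹ ∈ ws V Z := (ws V Z).mul_mem hwv ((ws V Z).inv_mem hvW)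
    rw [← h.fm_Ec_iff hN hc hmem]
    have e1 : (⟨w * (c * h.e x y * c⁻¹) * w⁻¹ * (c * h.e x y * c⁻¹)⁻¹, hmem⟩ : ws V Z) =
      ⟨w * (c * h.e x y * c⁻¹) * w⁻¹, hwv⟩ * (⟨c * h.e x y * c⁻¹, hvW⟩ : ws V Z)⁻¹ := Subtype.ext rfl
    rw [e1, h.fm_mul, h.fm_inv, ← h.rp_fm' (h.W_hat h.pY hw) hvW, hcv, map_smul, ← smul_add, ← h.sub_eq]
    exact Submodule.smul_mem _ _ (h2 w hw)
  have h3 := lemK_cj hN dual hc hVc h.sw_XV (by rw [h.cj_sw]; exact h.Yp_ne) hp (v := c * h.e 0 a * c⁻¹)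
    (conj_mem_cj (h.e_memV 0 a))
  have h4 : h.al (h.fm ⟨c * h.e 0 a * c⁻¹, h.W_conj hcN (h.W_V 0 a)⟩) (h.fm ⟨c * h.e 0 a * c⁻¹, h.W_conj hcN (h.W_V 0 a)⟩) =
      h.fm ⟨c * h.e 0 a * c⁻¹, h.W_conj hcN (h.W_V 0 a)⟩ := by
    rw [h.al_fm hN]
    show h.rp ⟨h.sw * (c * h.e 0 a * c⁻¹) * h.sw⁻¹, _⟩ _ = _
    rw [h.rp_fm', h.fm_eq]
    have h5 := inv_mem h3
    have e : ((c * h.e 0 a * c⁻¹) * (h.sw * (c * h.e 0 a * c⁻¹) * h.sw⁻¹) * (c * h.e 0 a * c⁻¹)⁻¹ *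
        (h.sw * (c * h.e 0 a * c⁻¹) * h.sw⁻¹)⁻¹)⁻¹ =
      h.sw * (c * h.e 0 a * c⁻¹) * h.sw⁻¹ * (c * h.e 0 a * c⁻¹) * (h.sw * (c * h.e 0 a * c⁻¹) * h.sw⁻¹)⁻¹ *
        (c * h.e 0 a * c⁻¹)⁻¹ := by group
    rw [e] at h5
    exact h.Z_le_rd h5
  rw [hcv, map_smul] at h4
  exact smul_right_injective _ ha0 h4

end Cfsg.Agent.Omega.NO3S.OneQ.Co

end

-- merged: Cfsg.Agent.Omega.NO3S.OneQ.QuadNat
section

/-!
# Quadratic modules for `SL₂(F)`, `F` finite of characteristic 2, without any list (bb OMEGA #18875 (4))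

`X = ⟨U₁, U₂⟩` acts on `F²` through the root groups and on the elementary abelian 2-group `A`; `U₁`, `U₂` act
quadratically, through their action on `F²`.

* `Quad.exists_hom` : for `e ∈ C_A(U₁)` there is an additive `φ : F² → A` with `φ(1, 0) ≡ e`, `g φ(p) ≡ φ(g p)` modulo
  `C_A(X)`;
* `Quad.add_of` : if `g_r`, `g_s`, `g_t` map `(1, 0)` to `(s + t, 0)`, `(s, 0)`, `(t, 0)`, then
  `g_r e ≡ g_s e + g_t e` modulo `C_A(X)`.
-/

set_option autoImplicit false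
set_option linter.unusedSectionVars false

namespace Cfsg.Agent.Omega.NO3S.OneQ.QuadNat

variable {F : Type*} [Field F] {X : Type*} [Group X] {A : Type*} [AddCommGroup A] [DistribMulAction X A]

/-- `X = ⟨U₁, U₂⟩` acts as `SL₂(F)` on `F²` and quadratically on `A` -/
structure Quad (F : Type*) [Field F] (A : Type*) [AddCommGroup A] {X : Type*} [Group X] [DistribMulAction X A]
    (ρ : X → F × F → F × F) (U₁ U₂ : Subgroup X) : Prop where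
  mul : ∀ g h p, ρ (g * h) p = ρ g (ρ h p)
  one : ∀ p, ρ 1 p = p
  tv₁ : ∀ k ∈ U₁, ∃ t, ∀ x y, ρ k (x, y) = (x + t * y, y)
  tv₂ : ∀ k ∈ U₂, ∃ t, ∀ x y, ρ k (x, y) = (x, y + t * x)
  ex₁ : ∀ t, ∃ k ∈ U₁, ∀ x y, ρ k (x, y) = (x + t * y, y)
  ex₂ : ∀ t, ∃ k ∈ U₂, ∀ x y, ρ k (x, y) = (x, y + t * x)
  norm₁ : ∀ g, (∀ x, (ρ g (x, 0)).2 = 0) → ∀ k ∈ U₁, g * k * g⁻¹ ∈ U₁
  swap₂ : ∀ g, (∀ y, (ρ g (0, y)).2 = 0) → ∀ k ∈ U₂, g * k * g⁻¹ ∈ U₁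
  swap₁ : ∀ g, (∀ x, (ρ g (x, 0)).1 = 0) → ∀ k ∈ U₁, g * k * g⁻¹ ∈ U₂
  gen : ∀ g : X, g ∈ Subgroup.closure ((U₁ : Set X) ∪ U₂)
  eq₁ : ∀ k ∈ U₁, (∀ p, ρ k p = p) → ∀ a : A, k • a = a
  eq₂ : ∀ k ∈ U₂, (∀ p, ρ k p = p) → ∀ a : A, k • a = a
  quad₁ : ∀ k ∈ U₁, ∀ k' ∈ U₁, ∀ a : A, k' • (k • a - a) = k • a - a
  quad₂ : ∀ k ∈ U₂, ∀ k' ∈ U₂, ∀ a : A, k' • (k • a - a) = k • a - a
  two : ∀ a : A, a + a = 0

/-- `C_A(X)` -/
def cen (X A : Type*) [Group X] [AddCommGroup A] [DistribMulAction X A] : AddSubgroup A where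
  carrier := {a | ∀ g : X, g • a = a}
  zero_mem' := fun g => smul_zero g
  add_mem' := by
    intro a b ha hb g
    rw [smul_add, ha g, hb g]
  neg_mem' := by
    intro a ha g
    rw [smul_neg, ha g]

theorem mem_cen {a : A} : a ∈ cen X A ↔ ∀ g : X, g • a = a := Iff.rfl

theorem smul_cen {a : A} (ha : a ∈ cen X A) (g : X) : g • a ∈ cen X A := by
  rw [ha g]; exact ha

/-- `a ≡ b` modulo `C_A(X)` -/
def Eqv (X : Type*) {A : Type*} [Group X] [AddCommGroup A] [DistribMulAction X A] (a b : A) : Prop := a - b ∈ cen X A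

theorem Eqv.refl (a : A) : Eqv X a a := by
  unfold Eqv
  rw [sub_self]
  exact zero_mem _

theorem Eqv.of_eq {a b : A} (h : a = b) : Eqv X a b := h ▸ Eqv.refl a

theorem Eqv.symm {a b : A} (h : Eqv X a b) : Eqv X b a := by
  unfold Eqv at *
  rw [← neg_sub]
  exact neg_mem h

theorem Eqv.trans {a b c : A} (h : Eqv X a b) (h' : Eqv X b c) : Eqv X a c := by
  unfold Eqv at *
  have := add_mem h h'
  rwa [sub_add_sub_cancel] at this

theorem Eqv.add {a b c d : A} (h : Eqv X a b) (h' : Eqv X c d) : Eqv X (a + c) (b + d) := by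
  unfold Eqv at *
  have := add_mem h h'
  rwa [sub_add_sub_comm] at this

theorem Eqv.smul {a b : A} (h : Eqv X a b) (g : X) : Eqv X (g • a) (g • b) := by
  unfold Eqv at *
  rw [← smul_sub]
  exact smul_cen h g

namespace Quad

variable {ρ : X → F × F → F × F} {U₁ U₂ : Subgroup X} (h : Quad F A ρ U₁ U₂)

include h

theorem neg_eq (a : A) : -a = a := neg_eq_of_add_eq_zero_left (h.two a)

theorem sub_eq (a b : A) : a - b = a + b := by rw [sub_eq_add_neg, h.neg_eq]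

theorem inv_eq {g : X} {p q : F × F} (hp : ρ g p = q) : ρ g⁻¹ q = p := by
  rw [← hp, ← h.mul, inv_mul_cancel, h.one]

/-- elements of `U₁` with the same action on `F²` act in the same way -/
theorem same₁ {k k' : X} (hk : k ∈ U₁) (hk' : k' ∈ U₁) (he : ∀ x y, ρ k (x, y) = ρ k' (x, y)) (a : A) :
    k • a = k' • a := by
  have h1 := h.eq₁ (k'⁻¹ * k) (mul_mem (inv_mem hk') hk) (fun p => by
    rw [h.mul]
    exact h.inv_eq (he p.1 p.2).symm) a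
  rw [mul_smul, inv_smul_eq_iff] at h1
  exact h1

theorem same₂ {k k' : X} (hk : k ∈ U₂) (hk' : k' ∈ U₂) (he : ∀ x y, ρ k (x, y) = ρ k' (x, y)) (a : A) :
    k • a = k' • a := by
  have h1 := h.eq₂ (k'⁻¹ * k) (mul_mem (inv_mem hk') hk) (fun p => by
    rw [h.mul]
    exact h.inv_eq (he p.1 p.2).symm) a
  rw [mul_smul, inv_smul_eq_iff] at h1
  exact h1

theorem mem_cen_of {a : A} (h1 : ∀ k ∈ U₁, k • a = a) (h2 : ∀ k ∈ U₂, k • a = a) : a ∈ cen X A := by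
  intro g
  induction h.gen g using Subgroup.closure_induction with
  | mem x hx => exact hx.elim (h1 x) (h2 x)
  | one => exact one_smul _ _
  | mul x y _ _ hx hy => rw [mul_smul, hy, hx]
  | inv x _ hx => rw [inv_smul_eq_iff, hx]

end Quad

/-- representatives -/
structure Rep (F : Type*) [Field F] (A : Type*) [AddCommGroup A] {X : Type*} [Group X] [DistribMulAction X A]
    (ρ : X → F × F → F × F) (U₁ U₂ : Subgroup X) extends Quad F A ρ U₁ U₂ where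
  u : F → X
  v : F → X
  hu : ∀ t, u t ∈ U₁
  hv : ∀ t, v t ∈ U₂
  ru : ∀ t x y, ρ (u t) (x, y) = (x + t * y, y)
  rv : ∀ t x y, ρ (v t) (x, y) = (x, y + t * x)

theorem Quad.exists_rep {ρ : X → F × F → F × F} {U₁ U₂ : Subgroup X} (h : Quad F A ρ U₁ U₂) :
    Nonempty (Rep F A ρ U₁ U₂) := by
  choose u hu ru using h.ex₁
  choose v hv rv using h.ex₂
  exact ⟨{ toQuad := h, u := u, v := v, hu := hu, hv := hv, ru := ru, rv := rv }⟩

namespace Rep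

variable [CharP F 2] {ρ : X → F × F → F × F} {U₁ U₂ : Subgroup X} (h : Rep F A ρ U₁ U₂)

theorem uu (t : F) (a : A) : h.u t • h.u t • a = a := by
  rw [← mul_smul]
  refine h.eq₁ _ (mul_mem (h.hu t) (h.hu t)) (fun p => ?_) a
  rw [h.mul, ← Prod.mk.eta (p := p), h.ru, h.ru, add_assoc, CharTwo.add_self_eq_zero, add_zero]

theorem vv (t : F) (a : A) : h.v t • h.v t • a = a := by
  rw [← mul_smul]
  refine h.eq₂ _ (mul_mem (h.hv t) (h.hv t)) (fun p => ?_) a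
  rw [h.mul, ← Prod.mk.eta (p := p), h.rv, h.rv, add_assoc, CharTwo.add_self_eq_zero, add_zero]

/-- `n(t)` -/
def n (t : F) : X := h.u t * h.v t⁻¹ * h.u t

theorem n_smul (t : F) (a : A) : h.n t • a = h.u t • h.v t⁻¹ • h.u t • a := by
  rw [n, mul_smul, mul_smul]

theorem nn (t : F) (a : A) : h.n t • h.n t • a = a := by
  rw [n_smul, n_smul, h.uu, h.vv, h.uu]

theorem rn {t : F} (ht : t ≠ 0) (x y : F) : ρ (h.n t) (x, y) = (t * y, t⁻¹ * x) := by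
  have h1 : y + t⁻¹ * (x + t * y) = t⁻¹ * x := by
    rw [mul_add, inv_mul_cancel_left₀ ht, add_comm y, add_assoc, CharTwo.add_self_eq_zero, add_zero]
  rw [n, h.mul, h.mul, h.ru, h.rv, h.ru, h1, mul_inv_cancel_left₀ ht]
  congr 1
  rw [add_right_comm, CharTwo.add_self_eq_zero, zero_add]

theorem rn_inv {t : F} (ht : t ≠ 0) (x y : F) : ρ (h.n t)⁻¹ (x, y) = (t * y, t⁻¹ * x) := by
  apply h.inv_eq
  rw [h.rn ht, mul_inv_cancel_left₀ ht, inv_mul_cancel_left₀ ht]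

theorem inv_n_smul (t : F) (a : A) : (h.n t)⁻¹ • a = h.n t • a := by
  rw [inv_smul_eq_iff, h.nn]

/-- `n(t)` maps `C(U₁)` to `C(U₂)` -/
theorem n_mem₂ {t : F} (ht : t ≠ 0) {e : A} (he : ∀ k ∈ U₁, k • e = e) : ∀ k ∈ U₂, k • h.n t • e = h.n t • e := by
  intro k hk
  have h1 := he _ (h.swap₂ (h.n t)⁻¹ (fun y => by rw [h.rn_inv ht]; exact mul_zero _) k hk)
  rw [inv_inv, mul_smul, mul_smul, inv_smul_eq_iff] at h1
  exact h1

theorem n_mem₁ {t : F} (ht : t ≠ 0) {e : A} (he : ∀ k ∈ U₂, k • e = e) : ∀ k ∈ U₁, k • h.n t • e = h.n t • e := by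
  intro k hk
  have h1 := he _ (h.swap₁ (h.n t)⁻¹ (fun y => by rw [h.rn_inv ht]; exact mul_zero _) k hk)
  rw [inv_inv, mul_smul, mul_smul, inv_smul_eq_iff] at h1
  exact h1

/-- `u(t) n(t) e ≡ n(t) e + e` -/
theorem stepB {t : F} (ht : t ≠ 0) {e : A} (he : ∀ k ∈ U₁, k • e = e) :
    Eqv X (h.u t • h.n t • e - h.n t • e) e := by
  have h0 : h.u t • h.n t • e = h.v t⁻¹ • e := by
    rw [h.n_smul, h.uu, he _ (h.hu t)]
  refine h.mem_cen_of ?_ ?_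
  · intro k hk
    rw [smul_sub, h.quad₁ _ (h.hu t) k hk, he k hk]
  · intro k hk
    have e1 : h.u t • h.n t • e - h.n t • e - e = h.v t⁻¹ • e - e - h.n t • e := by
      rw [h0]; abel
    rw [e1, smul_sub, h.quad₂ _ (h.hv _) k hk, h.n_mem₂ ht he k hk]

/-- `f(e, t) = [n(1) e, u(t)]` -/
def f (e : A) (t : F) : A := h.u t • h.n 1 • e - h.n 1 • e

theorem f_add (e : A) (s t : F) : h.f e (s + t) = h.f e s + h.f e t := by
  have h1 : h.u (s + t) • h.n 1 • e = h.u s • h.u t • h.n 1 • e := by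
    rw [← mul_smul (h.u s)]
    refine h.same₁ (h.hu _) (mul_mem (h.hu s) (h.hu t)) (fun x y => ?_) _
    rw [h.mul, h.ru, h.ru, h.ru, add_mul, add_comm (s * y), add_assoc]
  have h2 := h.quad₁ _ (h.hu t) _ (h.hu s) (h.n 1 • e)
  rw [smul_sub, sub_eq_iff_eq_add] at h2
  rw [f, f, f, h1, h2]
  abel

theorem f_add' (e e' : A) (t : F) : h.f (e + e') t = h.f e t + h.f e' t := by
  rw [f, f, f, smul_add, smul_add]
  abel

theorem f_zero (e : A) : h.f e 0 = 0 := by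
  have := h.f_add e 0 0
  rw [add_zero] at this
  exact left_eq_add.1 this

theorem f_zero' (t : F) : h.f (0 : A) t = 0 := by
  rw [f, smul_zero, smul_zero, sub_zero]

theorem f_mem (e : A) (t : F) : ∀ k ∈ U₁, k • h.f e t = h.f e t := fun k hk => h.quad₁ _ (h.hu t) k hk _

theorem f_cen {e : A} (he : e ∈ cen X A) (t : F) : h.f e t = 0 := by
  rw [f, he, he, sub_self]

theorem f_eqv {e e' : A} (he : Eqv X e e') (t : F) : h.f e t = h.f e' t := by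
  have h1 : e = (e - e') + e' := by abel
  rw [h1, h.f_add', h.f_cen he, zero_add]

/-- `h(t) = n(t) n(1)` -/
def d (t : F) : X := h.n t * h.n 1

theorem d_smul (t : F) (a : A) : h.d t • a = h.n t • h.n 1 • a := by rw [d, mul_smul]

theorem rd {t : F} (ht : t ≠ 0) (x y : F) : ρ (h.d t) (x, y) = (t * x, t⁻¹ * y) := by
  rw [d, h.mul, h.rn one_ne_zero, h.rn ht, inv_one, one_mul, one_mul]

theorem rd_inv {t : F} (ht : t ≠ 0) (x y : F) : ρ (h.d t)⁻¹ (x, y) = (t⁻¹ * x, t * y) := by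
  apply h.inv_eq
  rw [h.rd ht, mul_inv_cancel_left₀ ht, inv_mul_cancel_left₀ ht]

theorem d_mem {t : F} (ht : t ≠ 0) {e : A} (he : ∀ k ∈ U₁, k • e = e) : ∀ k ∈ U₁, k • h.d t • e = h.d t • e := by
  intro k hk
  rw [h.d_smul]
  exact h.n_mem₁ ht (h.n_mem₂ one_ne_zero he) k hk

theorem stepC {t : F} (ht : t ≠ 0) {e : A} (he : ∀ k ∈ U₁, k • e = e) : Eqv X (h.f e t) (h.d t • e) := by
  have h1 := h.stepB ht (h.d_mem ht he)
  have h2 : h.n t • h.d t • e = h.n 1 • e := by rw [h.d_smul, h.nn]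
  rw [h2] at h1
  exact h1

theorem stepD {c : F} (hc : c ≠ 0) (t : F) (e : A) :
    h.d c • h.f (h.d c • e) t = h.f e (c * c * t) := by
  have h1 : ∀ b : A, h.d c • h.u t • b = h.u (c * c * t) • h.d c • b := by
    intro b
    have h2 : h.d c * h.u t * (h.d c)⁻¹ ∈ U₁ :=
      h.norm₁ _ (fun x => by rw [h.rd hc]; exact mul_zero _) _ (h.hu t)
    have h3 := h.same₁ h2 (h.hu (c * c * t)) (fun x y => by
      rw [h.mul, h.mul, h.rd_inv hc, h.ru, h.rd hc, h.ru]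
      congr 1
      · rw [mul_add, mul_inv_cancel_left₀ hc]
        ring
      · rw [inv_mul_cancel_left₀ hc]) (h.d c • b)
    rw [mul_smul, mul_smul, inv_smul_smul] at h3
    exact h3
  have h4 : h.d c • h.n 1 • h.d c • e = h.n 1 • e := by
    rw [h.d_smul, h.nn, h.d_smul, h.nn]
  rw [f, f, smul_sub, h1, h4]

/-- `T_c T_t T_c ≡ T_{c² t}` -/
theorem stepE (c t : F) {e : A} (he : ∀ k ∈ U₁, k • e = e) :
    Eqv X (h.f (h.f (h.f e c) t) c) (h.f e (c * c * t)) := by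
  by_cases hc : c = 0
  · subst hc
    rw [h.f_zero, mul_zero, zero_mul, h.f_zero]
    exact Eqv.refl _
  by_cases ht : t = 0
  · subst ht
    rw [h.f_zero, h.f_zero', mul_zero, h.f_zero]
    exact Eqv.refl _
  have h1 : h.f (h.f e c) t = h.f (h.d c • e) t := h.f_eqv (h.stepC hc he) t
  rw [h1]
  refine (h.stepC hc (h.f_mem _ t)).trans ?_
  rw [h.stepD hc]
  exact Eqv.refl _

theorem f_one {e : A} (he : ∀ k ∈ U₁, k • e = e) : Eqv X (h.f e 1) e := by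
  have h1 := h.stepC one_ne_zero he
  rw [h.d_smul, h.nn] at h1
  exact h1

theorem f_sq (c : F) {e : A} (he : ∀ k ∈ U₁, k • e = e) : Eqv X (h.f (h.f e c) c) (h.f e (c * c)) := by
  have h1 := h.stepE c 1 he
  rw [mul_one, h.f_eqv (h.f_one (h.f_mem e c)) c] at h1
  exact h1

theorem f_comm (c t : F) {e : A} (he : ∀ k ∈ U₁, k • e = e) : Eqv X (h.f (h.f e c) t) (h.f (h.f e t) c) := by
  have h1 := h.f_sq (c + t) he
  have e1 : (c + t) * (c + t) = c * c + t * t := by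
    have : (c + t) * (c + t) = c * c + t * t + (c * t + c * t) := by ring
    rw [this, CharTwo.add_self_eq_zero, add_zero]
  rw [e1, h.f_add, h.f_add, h.f_add e (c * c), h.f_add', h.f_add'] at h1
  have h2 := h1.trans (((h.f_sq c he).symm).add ((h.f_sq t he).symm))
  -- a + b + (c' + d) ≡ a + d
  unfold Eqv at *
  have e2 : h.f (h.f e c) t - h.f (h.f e t) c =
      h.f (h.f e c) c + h.f (h.f e t) c + (h.f (h.f e c) t + h.f (h.f e t) t) -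
      (h.f (h.f e c) c + h.f (h.f e t) t) - (h.f (h.f e t) c + h.f (h.f e t) c) := by abel
  rw [e2, h.two, sub_zero]
  exact h2

theorem f_mul [Finite F] (c t : F) {e : A} (he : ∀ k ∈ U₁, k • e = e) :
    Eqv X (h.f (h.f e c) t) (h.f e (t * c)) := by
  obtain ⟨b, rfl⟩ : ∃ b, c = b * b := by
    have := Fintype.ofFinite F
    obtain ⟨b, hb⟩ := FiniteField.isSquare_of_char_two (F := F) (CharP.ringChar_of_prime_eq_zero Nat.prime_two
      (CharP.cast_eq_zero F 2)) c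
    exact ⟨b, hb⟩
  have h1 := h.stepE b t he
  have h2 : Eqv X (h.f (h.f (h.f e b) t) b) (h.f (h.f e (b * b)) t) := by
    refine (h.f_comm t b (h.f_mem e b)).trans ?_
    rw [h.f_eqv (h.f_sq b he) t]
    exact Eqv.refl _
  rw [mul_comm t]
  exact h2.symm.trans h1

/-- the homomorphism -/
def ph (e : A) (p : F × F) : A := h.f e p.1 + h.n 1 • h.f e p.2

theorem ph_add (e : A) (p q : F × F) : h.ph e (p + q) = h.ph e p + h.ph e q := by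
  rw [ph, ph, ph, Prod.fst_add, Prod.snd_add, h.f_add, h.f_add, smul_add]
  abel

theorem ph_u [Finite F] {e : A} (he : ∀ k ∈ U₁, k • e = e) {k : X} (hk : k ∈ U₁) (p : F × F) :
    Eqv X (k • h.ph e p) (h.ph e (ρ k p)) := by
  obtain ⟨t, ht⟩ := h.tv₁ k hk
  obtain ⟨a, b⟩ := p
  rw [ht, ph, ph]
  have h1 : k • h.n 1 • h.f e b = h.n 1 • h.f e b + h.f (h.f e b) t := by
    have h5 : h.f (h.f e b) t = h.u t • h.n 1 • h.f e b - h.n 1 • h.f e b := rfl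
    rw [h.same₁ hk (h.hu t) (fun x y => by rw [ht, h.ru]), h5]
    abel
  change Eqv X (k • (h.f e a + h.n 1 • h.f e b)) (h.f e (a + t * b) + h.n 1 • h.f e b)
  rw [smul_add, h.f_mem e a k hk, h1, h.f_add]
  have h2 : h.f e a + (h.n 1 • h.f e b + h.f (h.f e b) t) = h.f (h.f e b) t + (h.f e a + h.n 1 • h.f e b) := by abel
  have h3 : h.f e a + h.f e (t * b) + h.n 1 • h.f e b = h.f e (t * b) + (h.f e a + h.n 1 • h.f e b) := by abel
  rw [h2, h3]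
  exact (h.f_mul b t he).add (Eqv.refl _)

theorem ph_n (e : A) (a b : F) : h.n 1 • h.ph e (a, b) = h.ph e (b, a) := by
  rw [ph, ph, smul_add, h.nn, add_comm]

theorem ph_v [Finite F] {e : A} (he : ∀ k ∈ U₁, k • e = e) {k : X} (hk : k ∈ U₂) (p : F × F) :
    Eqv X (k • h.ph e p) (h.ph e (ρ k p)) := by
  obtain ⟨t, ht⟩ := h.tv₂ k hk
  obtain ⟨a, b⟩ := p
  rw [ht]
  have h1 : (h.n 1)⁻¹ * k * (h.n 1)⁻¹⁻¹ ∈ U₁ :=
    h.swap₂ _ (fun y => by rw [h.rn_inv one_ne_zero, inv_one]; exact mul_zero _) k hk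
  have h2 : k • h.ph e (a, b) = h.n 1 • ((h.n 1)⁻¹ * k * (h.n 1)⁻¹⁻¹) • h.ph e (b, a) := by
    rw [inv_inv, mul_smul, mul_smul, smul_inv_smul, h.ph_n]
  have h3 : ρ ((h.n 1)⁻¹ * k * (h.n 1)⁻¹⁻¹) (b, a) = (b + t * a, a) := by
    rw [inv_inv, h.mul, h.mul, h.rn one_ne_zero, ht, h.rn_inv one_ne_zero, inv_one, one_mul, one_mul, one_mul, one_mul]
  have h4 := (h.ph_u he h1 (b, a)).smul (h.n 1)
  rw [h3, h.ph_n, ← h2] at h4
  exact h4

theorem ph_smul [Finite F] {e : A} (he : ∀ k ∈ U₁, k • e = e) (g : X) (p : F × F) :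
    Eqv X (g • h.ph e p) (h.ph e (ρ g p)) := by
  induction h.gen g using Subgroup.closure_induction generalizing p with
  | mem x hx => exact hx.elim (fun hx => h.ph_u he hx p) (fun hx => h.ph_v he hx p)
  | one => rw [one_smul, h.one]; exact Eqv.refl _
  | mul x y _ _ hx hy =>
    rw [mul_smul, h.mul]
    exact ((hy p).smul x).trans (hx _)
  | inv x _ hx =>
    have h1 := (hx (ρ x⁻¹ p)).smul x⁻¹
    rw [inv_smul_smul, ← h.mul, mul_inv_cancel, h.one] at h1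
    exact h1.symm

end Rep

namespace Quad

variable [CharP F 2] [Finite F] {ρ : X → F × F → F × F} {U₁ U₂ : Subgroup X} (h : Quad F A ρ U₁ U₂)

include h

/-- **an element of `C_A(U₁)` generates a natural module or a trivial one modulo `C_A(X)`** -/
theorem exists_hom {e : A} (he : ∀ k ∈ U₁, k • e = e) :
    ∃ φ : F × F → A, Eqv X (φ (1, 0)) e ∧ (∀ p q, φ (p + q) = φ p + φ q) ∧ (∀ g p, Eqv X (g • φ p) (φ (ρ g p))) ∧
      ∀ x, ∀ k ∈ U₁, k • φ (x, 0) = φ (x, 0) := by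
  obtain ⟨R⟩ := h.exists_rep
  have h0 : ∀ x, R.ph e (x, 0) = R.f e x := fun x => by rw [Rep.ph, R.f_zero, smul_zero, add_zero]
  refine ⟨R.ph e, ?_, R.ph_add e, R.ph_smul he, fun x k hk => ?_⟩
  · rw [h0]
    exact R.f_one he
  · rw [h0]
    exact R.f_mem e x k hk

/-- **`t ↦ h(t) e` is additive modulo `C_A(X)`** -/
theorem add_of {e : A} (he : ∀ k ∈ U₁, k • e = e) {a b c : X} {s t : F} (ha : ρ a (1, 0) = (s, 0))
    (hb : ρ b (1, 0) = (t, 0)) (hc : ρ c (1, 0) = (s + t, 0)) : Eqv X (c • e) (a • e + b • e) := by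
  obtain ⟨φ, h1, h2, h3, -⟩ := h.exists_hom he
  have key : ∀ {g : X} {p : F × F}, ρ g (1, 0) = p → Eqv X (g • e) (φ p) := by
    intro g p hp
    refine ((h1.symm).smul g).trans ?_
    rw [← hp]
    exact h3 g (1, 0)
  have e1 : φ (s + t, 0) = φ (s, 0) + φ (t, 0) := by
    rw [← h2, Prod.mk_add_mk, add_zero]
  refine (key hc).trans ?_
  rw [e1]
  exact (key ha).symm.add (key hb).symm

end Quad

end Cfsg.Agent.Omega.NO3S.OneQ.QuadNat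

end

-- merged: Cfsg.Agent.Mrg.Omega.NO3S.OneQ.Weight
section

section


/-!
# NO-3S, `OneQ`: quadratic sections for `X_l` (bb OMEGA #18875, WEIGHT THEOREM)

* `Co.Sec W R` : `W / R` is an elementary abelian section, normalised by `X_l`, on which `K_T ∩ C_G(V)` is trivial and the
  root group is quadratic;
* `Co.Sec.add_of` : if `[e, K_Z] ≤ R`, and `a`, `b`, `c ∈ X_l` map `e(1,0)` to `e(s,0)`, `e(t,0)`, `e(s+t,0)`, then
  `e^c ≡ e^a e^b` modulo `R` and elements fixed by `X_l`;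
* `EL V Z = ⟨E_T⟩`, `DL V Z = ⟨D_T⟩` : `EL` is elementary abelian, `DL` commutes with all `W_T`;
* `quad_line` (0), (1) : `[EL V, E_Y', E_Y'] = 1` for every line `L` on `Z` and `Y' ∈ L - Z`;
* `Co.weight` : **WEIGHT THEOREM**.
-/

set_option autoImplicit false
set_option linter.unusedSectionVars false

namespace Cfsg.Agent.Omega.NO3S.OneQ

open Subgroup Cfsg.Agent.Omega.NO3S.PT Cfsg.Agent.Omega.NoFF.Basic
open Cfsg.Agent.ZN.Block (conj_mem_of_normalizer)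
open scoped Pointwise

universe u

variable {G : Type u} [Group G]

namespace Co

variable [Finite G] {F : Type*} [Field F] [CharP F 2] {S : Sylow 2 G} {B P V Z : Subgroup G} (h : Co F S B P V Z)

/-! ### The action on coordinates -/

open Classical in
/-- coordinates of an element of `V` -/
noncomputable def pq (g : G) : F × F := if hg : ∃ p : F × F, h.e p.1 p.2 = g then hg.choose else 0

theorem pq_e (p : F × F) : h.pq (h.e p.1 p.2) = p := by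
  have hg : ∃ q : F × F, h.e q.1 q.2 = h.e p.1 p.2 := ⟨p, rfl⟩
  rw [pq, dif_pos hg]
  obtain ⟨h1, h2⟩ := h.e_inj hg.choose_spec
  exact Prod.ext h1 h2

theorem e_pq {g : G} (hg : g ∈ V) : h.e (h.pq g).1 (h.pq g).2 = g := by
  obtain ⟨a, b, rfl⟩ := (h.mem_V g).1 hg
  rw [h.pq_e (a, b)]

/-- the action of `X_l` on coordinates -/
noncomputable def wrho (g : XV V Z) (p : F × F) : F × F := h.pq ((g : G) * h.e p.1 p.2 * (g : G)⁻¹)

theorem e_wrho (g : XV V Z) (p : F × F) : h.e (h.wrho g p).1 (h.wrho g p).2 = (g : G) * h.e p.1 p.2 * (g : G)⁻¹ :=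
  h.e_pq ((mem_normalizer_iff.1 (h.one.pl.XV_le_N g.2) _).1 (h.e_memV _ _))

theorem wrho_eq {g : XV V Z} {p q : F × F} (hg : (g : G) * h.e p.1 p.2 * (g : G)⁻¹ = h.e q.1 q.2) : h.wrho g p = q := by
  rw [wrho, hg, h.pq_e]

theorem wrho_mul (g g' : XV V Z) (p : F × F) : h.wrho (g * g') p = h.wrho g (h.wrho g' p) := by
  apply h.wrho_eq
  rw [h.e_wrho, h.e_wrho, Subgroup.coe_mul]
  group

theorem wrho_one (p : F × F) : h.wrho 1 p = p := by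
  apply h.wrho_eq
  rw [Subgroup.coe_one, one_mul, inv_one, mul_one]

include h in
/-- `g` maps the point `X` onto the point `Y` -/
theorem cj_Z_Y {g : G} (hgN : g ∈ normalizer (V : Set G)) {X Y : Subgroup G} (hX : Pnt V Z X) (hY : Pnt V Z Y)
    (hg : ∀ z ∈ X, g * z * g⁻¹ ∈ Y) : PT.cj g X = Y := by
  obtain ⟨z, hz, hz1⟩ := h.one.pl.pt_ne_bot hX.cj
  have h1 := hX.conj hgN
  refine h.one.pl.pts_eq h1.cj hY.cj (conj_mem_cj hz) (hg z hz) ?_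
  intro e
  apply hz1
  rw [mul_inv_eq_one, mul_eq_left] at e
  exact e

theorem closure_K (g : XV V Z) :
    g ∈ Subgroup.closure ((((kx V Z).subgroupOf (XV V Z) : Subgroup (XV V Z)) : Set (XV V Z)) ∪
      (((kx V h.Yp).subgroupOf (XV V Z) : Subgroup (XV V Z)) : Set (XV V Z))) := by
  have hZ := h.one.self
  have hY := h.pY
  have key : XV V Z ≤ (Subgroup.closure ((((kx V Z).subgroupOf (XV V Z) : Subgroup (XV V Z)) : Set (XV V Z)) ∪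
      (((kx V h.Yp).subgroupOf (XV V Z) : Subgroup (XV V Z)) : Set (XV V Z)))).map (XV V Z).subtype := by
    set C := (Subgroup.closure ((((kx V Z).subgroupOf (XV V Z) : Subgroup (XV V Z)) : Set (XV V Z)) ∪
      (((kx V h.Yp).subgroupOf (XV V Z) : Subgroup (XV V Z)) : Set (XV V Z)))).map (XV V Z).subtype with hC
    have hZC : kx V Z ≤ C := by
      intro k hk
      refine ⟨⟨k, le_XV hZ.cj hZ.le hk⟩, subset_closure (Or.inl ?_), rfl⟩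
      exact mem_subgroupOf.2 hk
    have hYC : kx V h.Yp ≤ C := by
      intro k hk
      refine ⟨⟨k, le_XV hY.cj hY.le hk⟩, subset_closure (Or.inr ?_), rfl⟩
      exact mem_subgroupOf.2 hk
    refine sSup_le ?_
    rintro _ ⟨T, hT, hTV, rfl⟩
    by_cases hTZ : T = Z
    · subst hTZ
      exact hZC
    obtain ⟨k, hk, rfl⟩ := h.one.move hZ hY ⟨hT, hTV⟩ h.Yp_ne hTZ
    rw [kx_cj]
    intro x hx
    rw [mem_cj] at hx
    have h1 := mul_mem (mul_mem (hZC hk) (hYC hx)) (inv_mem (hZC hk))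
    have e : k * (k⁻¹ * x * k) * k⁻¹ = x := by group
    rwa [e] at h1
  obtain ⟨x, hx, hxg⟩ := key g.2
  rwa [show x = g from Subtype.ext hxg] at hx

/-- a quadratic section for `X_l` -/
structure Sec (W R : Subgroup G) : Prop where
  ab : ∀ a ∈ W, ∀ b ∈ W, a * b = b * a
  sq : ∀ a ∈ W, a * a = 1
  RW : R ≤ W
  NW : XV V Z ≤ normalizer (W : Set G)
  NR : XV V Z ≤ normalizer (R : Set G)
  triv : ∀ T, Pnt V Z T → ∀ k ∈ kx V T, k ∈ centralizer (V : Set G) → ∀ w ∈ W, k * w * k⁻¹ * w⁻¹ ∈ R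
  quad : ∀ t t' : F, ∃ k ∈ kx V Z, ∃ k' ∈ kx V Z, (∀ x y, k * h.e x y * k⁻¹ = h.e (x + t * y) y) ∧
    (∀ x y, k' * h.e x y * k'⁻¹ = h.e (x + t' * y) y) ∧
    ∀ w ∈ W, k' * (k * w * k⁻¹ * w⁻¹) * k'⁻¹ * (k * w * k⁻¹ * w⁻¹)⁻¹ ∈ R

variable {h}

theorem Sec.ok {W R : Subgroup G} (s : h.Sec W R) : WRep.Ok W R (XV V Z) := ⟨s.ab, s.RW, s.NW⟩

/-- the abstract quadratic module -/
theorem Sec.toQuad {W R : Subgroup G} (s : h.Sec W R) {M H : Type u} [AddCommGroup M] [Group H]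
    [DistribMulAction H M] (r : WRep W R (XV V Z) M H) :
    letI := DistribMulAction.compHom M r.hom
    QuadNat.Quad F M h.wrho ((kx V Z).subgroupOf (XV V Z)) ((kx V h.Yp).subgroupOf (XV V Z)) := by
  let _ := DistribMulAction.compHom M r.hom
  have hZ := h.one.self
  have hY := h.pY
  have hsm : ∀ (g : XV V Z) (w : G), w ∈ W → g • r.pi w = r.pi ((g : G) * w * (g : G)⁻¹) := fun g w hw =>
    r.act _ g.2 w hw
  have hcw : ∀ (g : XV V Z) (w : G), w ∈ W → (g : G) * w * (g : G)⁻¹ ∈ W := fun g w hw =>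
    (mem_normalizer_iff.1 (s.NW g.2) w).1 hw
  -- elements of `K_T` centralising `V` are trivial
  have heq : ∀ T, Pnt V Z T → ∀ k : XV V Z, (k : G) ∈ kx V T → (∀ p, h.wrho k p = p) → ∀ a : M, k • a = a := by
    intro T hT k hk hp a
    obtain ⟨w, hw, rfl⟩ := r.pi_surj a
    rw [hsm k w hw, r.pi_eq (hcw k w hw) hw]
    refine s.triv T hT k hk (h.mem_cent fun x y => ?_) w hw
    have := h.e_wrho k (x, y)
    rw [hp] at this
    exact this.symm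
  -- `K_Z` is quadratic
  have hq : ∀ k k' : XV V Z, (k : G) ∈ kx V Z → (k' : G) ∈ kx V Z → ∀ a : M, k' • (k • a - a) = k • a - a := by
    intro k k' hk hk' a
    obtain ⟨t, ht⟩ := h.K_tv hk
    obtain ⟨t', ht'⟩ := h.K_tv hk'
    obtain ⟨l, hl, l', hl', hlt, hlt', hll⟩ := s.quad t t'
    have hlX := le_XV hZ.cj hZ.le hl
    have hlX' := le_XV hZ.cj hZ.le hl'
    have same : ∀ (k l : G) (hk : k ∈ XV V Z) (hl : l ∈ XV V Z) (hkZ : k ∈ kx V Z) (hlZ : l ∈ kx V Z) (t : F),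
        (∀ x y, k * h.e x y * k⁻¹ = h.e (x + t * y) y) → (∀ x y, l * h.e x y * l⁻¹ = h.e (x + t * y) y) →
        ∀ a : M, (⟨k, hk⟩ : XV V Z) • a = (⟨l, hl⟩ : XV V Z) • a := by
      intro k l hk hl hkZ hlZ t hkt hlt a
      have h1 := heq Z hZ ((⟨l, hl⟩ : XV V Z)⁻¹ * ⟨k, hk⟩) (mul_mem (inv_mem hlZ) hkZ) (fun p => by
        apply h.wrho_eq
        have e : ((((⟨l, hl⟩ : XV V Z)⁻¹ * ⟨k, hk⟩ : XV V Z) : G)) = l⁻¹ * k := rfl
        rw [e]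
        have e1 : l⁻¹ * k * h.e p.1 p.2 * (l⁻¹ * k)⁻¹ = l⁻¹ * (k * h.e p.1 p.2 * k⁻¹) * l := by group
        rw [e1, hkt, ← hlt]
        group) a
      rw [mul_smul, inv_smul_eq_iff] at h1
      exact h1
    have e1 := fun a => same k l k.2 hlX hk hl t ht hlt a
    have e2 := fun a => same k' l' k'.2 hlX' hk' hl' t' ht' hlt' a
    have e1' : ∀ a : M, k • a = (⟨l, hlX⟩ : XV V Z) • a := e1
    have e2' : ∀ a : M, k' • a = (⟨l', hlX'⟩ : XV V Z) • a := e2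
    rw [e1' a, e2']
    obtain ⟨w, hw, rfl⟩ := r.pi_surj a
    have h3 : (⟨l, hlX⟩ : XV V Z) • r.pi w - r.pi w = r.pi (l * w * l⁻¹ * w⁻¹) := by
      rw [r.pi_comm s.ok hlX hw]
      rfl
    have h4 : l * w * l⁻¹ * w⁻¹ ∈ W := mul_mem (hcw ⟨l, hlX⟩ w hw) (inv_mem hw)
    rw [h3, hsm _ _ h4, r.pi_eq (hcw ⟨l', hlX'⟩ _ h4) h4]
    exact hll w hw
  obtain ⟨n, hn, hne⟩ := h.exists_n (one_ne_zero (α := F))
  have hne' : ∀ x y, n * h.e x y * n⁻¹ = h.e y x := fun x y => by rw [hne, one_mul, inv_one, one_mul]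
  have hnZ : PT.cj n Z = h.Yp := h.cj_swap hne'
  exact
    { mul := h.wrho_mul
      one := h.wrho_one
      tv₁ := by
        intro k hk
        obtain ⟨t, ht⟩ := h.K_tv (mem_subgroupOf.1 hk)
        exact ⟨t, fun x y => h.wrho_eq (ht x y)⟩
      tv₂ := by
        intro k hk
        obtain ⟨t, ht⟩ := h.K_tv' (mem_subgroupOf.1 hk)
        exact ⟨t, fun x y => h.wrho_eq (ht x y)⟩
      ex₁ := by
        intro t
        obtain ⟨k, hk, -, hke⟩ := h.exists_K t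
        exact ⟨⟨k, le_XV hZ.cj hZ.le hk⟩, mem_subgroupOf.2 hk, fun x y => h.wrho_eq (hke x y)⟩
      ex₂ := by
        intro t
        obtain ⟨k, hk, hke⟩ := h.exists_K' t
        exact ⟨⟨k, le_XV hY.cj hY.le hk⟩, mem_subgroupOf.2 hk, fun x y => h.wrho_eq (hke x y)⟩
      norm₁ := by
        intro g hg k hk
        have h1 : PT.cj (g : G) Z = Z := by
          refine h.cj_Z_Y (h.one.pl.XV_le_N g.2) hZ hZ fun z hz => ?_
          obtain ⟨a, rfl⟩ := (h.mem_Z z).1 hz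
          rw [← h.e_wrho g (a, 0), h.e_memZ_iff]
          exact hg a
        have h2 := conj_mem_cj (g := (g : G)) (mem_subgroupOf.1 hk)
        rw [← kx_cj, h1] at h2
        exact mem_subgroupOf.2 h2
      swap₂ := by
        intro g hg k hk
        have h1 : PT.cj (g : G) h.Yp = Z := by
          refine h.cj_Z_Y (h.one.pl.XV_le_N g.2) hY hZ fun z hz => ?_
          obtain ⟨a, rfl⟩ := h.mem_Yp.1 hz
          rw [← h.e_wrho g (0, a), h.e_memZ_iff]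
          exact hg a
        have h2 := conj_mem_cj (g := (g : G)) (mem_subgroupOf.1 hk)
        rw [← kx_cj, h1] at h2
        exact mem_subgroupOf.2 h2
      swap₁ := by
        intro g hg k hk
        have h1 : PT.cj (g : G) Z = h.Yp := by
          refine h.cj_Z_Y (h.one.pl.XV_le_N g.2) hZ hY fun z hz => ?_
          obtain ⟨a, rfl⟩ := (h.mem_Z z).1 hz
          have h2 := h.e_wrho g (a, 0)
          have h3 := hg a
          rw [← h2, h.mem_Yp]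
          exact ⟨_, by rw [h3]⟩
        have h2 := conj_mem_cj (g := (g : G)) (mem_subgroupOf.1 hk)
        rw [← kx_cj, h1] at h2
        exact mem_subgroupOf.2 h2
      gen := h.closure_K
      eq₁ := fun k hk => heq Z hZ k (mem_subgroupOf.1 hk)
      eq₂ := fun k hk => heq h.Yp hY k (mem_subgroupOf.1 hk)
      quad₁ := fun k hk k' hk' => hq k k' (mem_subgroupOf.1 hk) (mem_subgroupOf.1 hk')
      quad₂ := by
        intro k hk k' hk' a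
        have hc : ∀ k : XV V Z, k ∈ (kx V h.Yp).subgroupOf (XV V Z) →
            (((⟨n, hn⟩ : XV V Z)⁻¹ * k * ⟨n, hn⟩ : XV V Z) : G) ∈ kx V Z := by
          intro k hk
          change n⁻¹ * (k : G) * n ∈ kx V Z
          rw [← mem_cj, ← kx_cj, hnZ]
          exact mem_subgroupOf.1 hk
        have h1 := hq _ _ (hc k hk) (hc k' hk') ((⟨n, hn⟩ : XV V Z)⁻¹ • a)
        have h2 := congrArg (fun b : M => (⟨n, hn⟩ : XV V Z) • b) h1
        simp only [mul_smul, smul_sub, smul_inv_smul] at h2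
        rw [smul_sub]
        exact h2
      two := by
        intro a
        obtain ⟨w, hw, rfl⟩ := r.pi_surj a
        rw [← r.pi_mul w hw w hw, s.sq w hw, r.pi_one] }

/-- **sections on which the root groups are quadratic** -/
theorem Sec.add_of [Finite F] {W R : Subgroup G} (s : h.Sec W R) {e : G} (he : e ∈ W)
    (heK : ∀ k ∈ kx V Z, k * e * k⁻¹ * e⁻¹ ∈ R) {a b c : G} (ha : a ∈ XV V Z) (hb : b ∈ XV V Z) (hc : c ∈ XV V Z)
    {x y : F} (hax : a * h.e 1 0 * a⁻¹ = h.e x 0) (hby : b * h.e 1 0 * b⁻¹ = h.e y 0)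
    (hcz : c * h.e 1 0 * c⁻¹ = h.e (x + y) 0) {g : G} (hg : g ∈ XV V Z) :
    g * (c * e * c⁻¹ * (a * e * a⁻¹) * (b * e * b⁻¹)) * g⁻¹ * (c * e * c⁻¹ * (a * e * a⁻¹) * (b * e * b⁻¹))⁻¹ ∈ R := by
  obtain ⟨M, H, iM, -, iH, -, iA, -, ⟨r⟩⟩ := exists_wrep s.ab s.NW s.NR
  let _ := DistribMulAction.compHom M r.hom
  have hQ := s.toQuad r
  have hsm : ∀ (g : XV V Z) (w : G), w ∈ W → g • r.pi w = r.pi ((g : G) * w * (g : G)⁻¹) := fun g w hw =>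
    r.act _ g.2 w hw
  have hcw : ∀ (g : G), g ∈ XV V Z → ∀ (w : G), w ∈ W → g * w * g⁻¹ ∈ W := fun g hg w hw =>
    (mem_normalizer_iff.1 (s.NW hg) w).1 hw
  have h1 := hQ.add_of (e := r.pi e) (a := ⟨a, ha⟩) (b := ⟨b, hb⟩) (c := ⟨c, hc⟩) (s := x) (t := y) (fun k hk => by
    rw [hsm _ _ he, r.pi_eq (hcw _ k.2 _ he) he]
    exact heK k (mem_subgroupOf.1 hk)) (h.wrho_eq hax) (h.wrho_eq hby) (h.wrho_eq hcz)
  have h2 : r.pi (c * e * c⁻¹ * (a * e * a⁻¹) * (b * e * b⁻¹)) =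
      (⟨c, hc⟩ : XV V Z) • r.pi e - ((⟨a, ha⟩ : XV V Z) • r.pi e + (⟨b, hb⟩ : XV V Z) • r.pi e) := by
    rw [hQ.sub_eq, hsm _ _ he, hsm _ _ he, hsm _ _ he, r.pi_mul _ (mul_mem (hcw c hc e he) (hcw a ha e he)) _
      (hcw b hb e he), r.pi_mul _ (hcw c hc e he) _ (hcw a ha e he), add_assoc]
  have hw : c * e * c⁻¹ * (a * e * a⁻¹) * (b * e * b⁻¹) ∈ W :=
    mul_mem (mul_mem (hcw c hc e he) (hcw a ha e he)) (hcw b hb e he)
  rw [← r.pi_eq (hcw g hg _ hw) hw, ← hsm ⟨g, hg⟩ _ hw, h2]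
  exact h1 ⟨g, hg⟩

end Co

end Cfsg.Agent.Omega.NO3S.OneQ

end

section


/-!
# NO-3S, `OneQ`: the WEIGHT THEOREM for `E_Z / D_Z` (bb OMEGA #18875 (0), (1), (3), (4))

* `EL V Z = ⟨E_T⟩`, `DL V Z = ⟨D_T⟩` (`T` a point of `V`): `EL` is elementary abelian, `DL ≤ EL` commutes with all `W_T`;
* `One.quad_line` : `[EL V, E_Y', E_Y'] = 1` for every line `L` on `Z` and `Y' ∈ L - Z`;
* `One.full` : if `[v, W_Y'] ≰ L` for some `v ∈ V`, then `{[v, k] | k ∈ E_Y'} = Z`;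
* `Co.secE` : `EL / DL` is a quadratic section for `X_l` unless `[W_Z, W_Y] ≤ V`;
* `Co.weight` : **WEIGHT THEOREM** : `e ∈ E_Z`, `[W_Z, W_Y] ≰ V` ==> `e^{h(s+t)} ≡ e^{h(s)} e^{h(t)}` modulo `D_Z`;
* `Co.secD`, `Co.weightD` : the same for `D_Z / I`, if `⟨K_T ∩ C_G(V)⟩` is trivial on `DL / I`.
-/

set_option autoImplicit false
set_option linter.unusedSectionVars false

namespace Cfsg.Agent.Omega.NO3S.OneQ

open Subgroup Cfsg.Agent.Omega.NO3S.PT Cfsg.Agent.Omega.NoFF.Basic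
open scoped Pointwise

universe u

variable {G : Type u} [Group G]

/-- `⟨E_T⟩` -/
def EL (V Z : Subgroup G) : Subgroup G := sSup {K | ∃ T, Pnt V Z T ∧ K = ee V Z T}

/-- `⟨D_T⟩` -/
def DL (V Z : Subgroup G) : Subgroup G := sSup {K | ∃ T, Pnt V Z T ∧ K = dd V Z T}

theorem ee_le_EL {V Z T : Subgroup G} (hT : Pnt V Z T) : ee V Z T ≤ EL V Z := le_sSup ⟨T, hT, rfl⟩

theorem dd_le_DL {V Z T : Subgroup G} (hT : Pnt V Z T) : dd V Z T ≤ DL V Z := le_sSup ⟨T, hT, rfl⟩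

theorem norm_EL (V Z : Subgroup G) : normalizer (V : Set G) ≤ normalizer ((EL V Z : Subgroup G) : Set G) := by
  have key : ∀ g ∈ normalizer (V : Set G), PT.cj g (EL V Z) ≤ EL V Z := by
    intro g hg
    rw [cj_le_iff]
    refine sSup_le ?_
    rintro _ ⟨T, hT, rfl⟩
    rw [le_cj_iff, inv_inv, cj_ee hg]
    exact ee_le_EL (hT.conj hg)
  intro g hg
  rw [← cj_eq_iff]
  refine le_antisymm (key g hg) ?_
  rw [le_cj_iff]
  exact key _ (inv_mem hg)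

theorem norm_DL (V Z : Subgroup G) : normalizer (V : Set G) ≤ normalizer ((DL V Z : Subgroup G) : Set G) := by
  have key : ∀ g ∈ normalizer (V : Set G), PT.cj g (DL V Z) ≤ DL V Z := by
    intro g hg
    rw [cj_le_iff]
    refine sSup_le ?_
    rintro _ ⟨T, hT, rfl⟩
    rw [le_cj_iff, inv_inv, cj_dd hg]
    exact dd_le_DL (hT.conj hg)
  intro g hg
  rw [← cj_eq_iff]
  refine le_antisymm (key g hg) ?_
  rw [le_cj_iff]
  exact key _ (inv_mem hg)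

/-- `{w ∈ W | [k, w] ∈ R}`, `W` abelian, `k ∈ N(W)` -/
def cR (k : G) (W R : Subgroup G) (hab : ∀ a ∈ W, ∀ b ∈ W, a * b = b * a) (hk : k ∈ normalizer (W : Set G)) :
    Subgroup G where
  carrier := {w | w ∈ W ∧ k * w * k⁻¹ * w⁻¹ ∈ R}
  one_mem' := ⟨one_mem _, by simp⟩
  mul_mem' := by
    rintro a b ⟨ha, ha1⟩ ⟨hb, hb1⟩
    refine ⟨mul_mem ha hb, ?_⟩
    have h1 : k * b * k⁻¹ * b⁻¹ ∈ W := mul_mem ((mem_normalizer_iff.1 hk b).1 hb) (inv_mem hb)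
    have e : k * (a * b) * k⁻¹ * (a * b)⁻¹ = k * a * k⁻¹ * a⁻¹ * (a * (k * b * k⁻¹ * b⁻¹) * a⁻¹) := by group
    rw [e, hab a ha _ h1, mul_inv_cancel_right]
    exact mul_mem ha1 hb1
  inv_mem' := by
    rintro a ⟨ha, ha1⟩
    refine ⟨inv_mem ha, ?_⟩
    have h1 : k * a * k⁻¹ * a⁻¹ ∈ W := mul_mem ((mem_normalizer_iff.1 hk a).1 ha) (inv_mem ha)
    have e : k * a⁻¹ * k⁻¹ * a⁻¹⁻¹ = a⁻¹ * (k * a * k⁻¹ * a⁻¹)⁻¹ * a := by group
    rw [e, hab _ (inv_mem ha) _ (inv_mem h1), inv_mul_cancel_right]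
    exact inv_mem ha1

namespace One

variable [Finite G] {S : Sylow 2 G} {B P V Z : Subgroup G} (h : One S B P V Z)
include h

theorem EL_ab : ∀ a ∈ EL V Z, ∀ b ∈ EL V Z, a * b = b * a := by
  have key : EL V Z ≤ centralizer ((EL V Z : Subgroup G) : Set G) := by
    refine sSup_le ?_
    rintro _ ⟨T, hT, rfl⟩
    rw [le_centralizer_iff]
    refine sSup_le ?_
    rintro _ ⟨T', hT', rfl⟩
    intro a ha
    rw [mem_centralizer_iff]
    intro b hb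
    by_cases e : T' = T
    · subst e
      exact h.comm_W hT.cj hb.1 ha.1
    · exact (h.ee_comm hT' hT e ha hb).symm
  intro a ha b hb
  exact ((mem_centralizer_iff.1 (key ha)) b hb).symm

theorem EL_sq : ∀ a ∈ EL V Z, a * a = 1 := by
  let Q : Subgroup G :=
    { carrier := {a | a ∈ EL V Z ∧ a * a = 1}
      one_mem' := ⟨one_mem _, one_mul _⟩
      mul_mem' := by
        rintro a b ⟨ha, ha1⟩ ⟨hb, hb1⟩
        refine ⟨mul_mem ha hb, ?_⟩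
        have e : a * b * (a * b) = a * (b * a) * b := by group
        rw [e, ← h.EL_ab a ha b hb]
        have e1 : a * (a * b) * b = a * a * (b * b) := by group
        rw [e1, ha1, hb1, one_mul]
      inv_mem' := by
        rintro a ⟨ha, ha1⟩
        refine ⟨inv_mem ha, ?_⟩
        rw [← mul_inv_rev, ha1, inv_one] }
  have key : EL V Z ≤ Q := by
    refine sSup_le ?_
    rintro _ ⟨T, hT, rfl⟩
    exact fun a ha => ⟨ee_le_EL hT ha, h.sq_W hT ha.1⟩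
  exact fun a ha => (key ha).2

theorem DL_le : DL V Z ≤ EL V Z := by
  refine sSup_le ?_
  rintro _ ⟨T, hT, rfl⟩
  exact (h.dd_le_ee hT).trans (ee_le_EL hT)

theorem V_le_DL : V ≤ DL V Z := (h.pl.V_le_IV.trans (h.I_le_dd h.self)).trans (dd_le_DL h.self)

/-- `DL` commutes with all `W_T` -/
theorem DL_comm {T : Subgroup G} (hT : Pnt V Z T) {d w : G} (hd : d ∈ DL V Z) (hw : w ∈ ws V T) : d * w = w * d := by
  have key : DL V Z ≤ centralizer ((ws V T : Subgroup G) : Set G) := by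
    refine sSup_le ?_
    rintro _ ⟨T', hT', rfl⟩
    intro a ha
    rw [mem_centralizer_iff]
    intro b hb
    by_cases e : T' = T
    · subst e
      exact h.comm_W hT.cj hb ha.1
    · exact (h.dd_comm hT (fun e' => e e'.symm) ha hb).symm
  exact ((mem_centralizer_iff.1 (key hd)) w hw).symm

/-- `K_T ∩ C_G(V)` is trivial on `EL / DL` -/
theorem triv_E {T : Subgroup G} (hT : Pnt V Z T) {k : G} (hk : k ∈ kx V T) (hkV : k ∈ centralizer (V : Set G)) :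
    ∀ w ∈ EL V Z, k * w * k⁻¹ * w⁻¹ ∈ DL V Z := by
  have hkN : k ∈ normalizer ((EL V Z : Subgroup G) : Set G) :=
    norm_EL V Z (centralizer_le_normalizer _ hkV)
  have key : EL V Z ≤ cR k (EL V Z) (DL V Z) h.EL_ab hkN := by
    refine sSup_le ?_
    rintro _ ⟨X, hX, rfl⟩
    exact fun w hw => ⟨ee_le_EL hX hw, dd_le_DL hX (h.kx_dd hX hT hk hkV hw)⟩
  exact fun w hw => (key hw).2

/-- **(1)** -/
theorem quad_line {L Y : Subgroup G} (hL : IsCj V L) (hZL : Z ≤ L) (hY : Pnt L Z Y) (hne : Y ≠ Z) {k : G}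
    (hk : k ∈ ee L Z Y) : ∀ w ∈ EL V Z, k * w * k⁻¹ * w⁻¹ ∈ EL L Z := by
  obtain ⟨T, C, Q, h'⟩ := h.flag hL h.pl.isCj_self hZL
  have hkZ : k ∈ kx V Z := by
    have := (mem_ee.1 hk).2 Z h'.self hne.symm
    rwa [kx_line hL] at this
  have hkN : k ∈ normalizer ((EL V Z : Subgroup G) : Set G) := norm_EL V Z (h.K_norm h.self hkZ)
  have hkL : k ∈ EL L Z := ee_le_EL hY hk
  have key : EL V Z ≤ cR k (EL V Z) (EL L Z) h.EL_ab hkN := by
    refine sSup_le ?_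
    rintro _ ⟨X, hX, rfl⟩
    intro w hw
    refine ⟨ee_le_EL hX hw, ?_⟩
    by_cases hXZ : X = Z
    · subst hXZ
      exact h'.DL_le (h'.V_le_DL (hZL ((mem_kx.1 hkZ).2 w hw.1)))
    · have hwZ : w ∈ kx V Z := (mem_ee.1 hw).2 Z h.self (fun e => hXZ e.symm)
      have hwL : w ∈ normalizer ((EL L Z : Subgroup G) : Set G) := by
        refine norm_EL L Z (h'.K_norm h'.self ?_)
        rw [kx_line hL]
        exact hwZ
      have e : k * w * k⁻¹ * w⁻¹ = k * (w * k⁻¹ * w⁻¹) := by group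
      rw [e]
      exact mul_mem hkL ((mem_normalizer_iff.1 hwL _).1 (inv_mem hkL))
  exact fun w hw => (key hw).2

/-- **(3)** -/
theorem full {L Y : Subgroup G} (hL : IsCj V L) (hZL : Z ≤ L) (hY : Pnt L Z Y) (hne : Y ≠ Z) {v : G} (hv : v ∈ V)
    {w : G} (hw : w ∈ ws V Y) (hvw : v * w * v⁻¹ * w⁻¹ ∉ L) {z : G} (hz : z ∈ Z) :
    ∃ k ∈ ee L Z Y, k * v * k⁻¹ * v⁻¹ = z := by
  obtain ⟨T, C, Q, h'⟩ := h.flag hL h.pl.isCj_self hZL
  have hvW : v ∈ ws L Z := by rw [ws_line hL]; exact h.V_le_W h.self hv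
  have hwW : w ∈ ws L Y := by rw [ws_line hL]; exact hw
  have hcI := h'.comm_mem h'.self hY hne.symm hvW hwW
  obtain ⟨d, hd, hdL, hdc⟩ := h'.pl.F2' h'.hf h'.hO hcI hvw h'.self.cj h'.self.le (Z.inv_mem hz)
  -- `c = [v, w]`, `d v d⁻¹ = x v`, `d w d⁻¹ = k w`
  set c := v * w * v⁻¹ * w⁻¹ with hc
  have hx : d * v * d⁻¹ * v⁻¹ ∈ Z := (mem_kx.1 hd).2 v hvW
  have hk : d * w * d⁻¹ * w⁻¹ ∈ ee L Z Y := h'.kx_ee hY h'.self hd hdL hwW
  refine ⟨d * w * d⁻¹ * w⁻¹, hk, ?_⟩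
  set x := d * v * d⁻¹ * v⁻¹ with hxd
  set k := d * w * d⁻¹ * w⁻¹ with hkd
  have e1 : d * v * d⁻¹ = x * v := by rw [hxd]; group
  have e2 : d * w * d⁻¹ = k * w := by rw [hkd]; group
  -- `x` commutes with everything in sight
  have hkW : k ∈ ws L Y := hk.1
  have hxL : x ∈ L := hZL hx
  have hxw : ∀ u ∈ ws L Y, x * u = u * x := fun u hu => h'.comm_W hY.cj (h'.V_le_W hY hxL) hu
  have hxc : x * c = c * x := (h'.cent_V (h'.I_le_cent hcI) hxL).symm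
  have hck : c * k = k * c := h'.I_comm_W hY hcI hkW
  have hxv : x * v = v * x := h'.comm_W h'.self.cj (h'.V_le_W h'.self hxL) hvW
  have h1 : d * c * d⁻¹ = x * v * (k * w) * (x * v)⁻¹ * (k * w)⁻¹ := by
    rw [← e1, ← e2, hc]; group
  have h2 : x * v * (k * w) * (x * v)⁻¹ * (k * w)⁻¹ = v * k * v⁻¹ * k⁻¹ * c := by
    have hkw : k * w ∈ ws L Y := mul_mem hkW hwW
    have hxkw := hxw _ hkw
    have a1 : x * v * (k * w) * (x * v)⁻¹ * (k * w)⁻¹ = v * (x * (k * w) * x⁻¹) * v⁻¹ * (k * w)⁻¹ := by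
      rw [hxv]; group
    rw [a1, hxkw, mul_inv_cancel_right]
    have a2 : v * (k * w) * v⁻¹ * (k * w)⁻¹ = v * k * v⁻¹ * (v * w * v⁻¹ * w⁻¹) * k⁻¹ := by group
    rw [a2, ← hc]
    have a3 : v * k * v⁻¹ * c * k⁻¹ = v * k * v⁻¹ * (c * k⁻¹) := by group
    have a4 : c * k⁻¹ = k⁻¹ * c := by
      rw [eq_inv_mul_iff_mul_eq, ← mul_assoc, ← hck, mul_inv_cancel_right]
    rw [a3, a4]
    group
  have h3 : d * c * d⁻¹ * c⁻¹ = v * k * v⁻¹ * k⁻¹ := by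
    rw [h1, h2]; group
  have h4 : v * k * v⁻¹ * k⁻¹ = z⁻¹ := by rw [← h3]; exact hdc
  have h5 := congrArg (·⁻¹) h4
  simp only [inv_inv] at h5
  rw [← h5]
  group

end One

namespace Co

variable [Finite G] {F : Type*} [Field F] [CharP F 2] {S : Sylow 2 G} {B P V Z : Subgroup G} (h : Co F S B P V Z)
include h

/-- some line `L` on `Z` with `[V, W_Y'] ≰ L` -/
theorem exists_line (hNT : ¬ ws V Z ≤ n0 V Z Z) :
    ∃ L Y, IsCj V L ∧ Z ≤ L ∧ Pnt L Z Y ∧ Y ≠ Z ∧ ∃ u ∈ V, ∃ w ∈ ws V Y, u * w * u⁻¹ * w⁻¹ ∉ L := by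
  by_contra hcon
  push Not at hcon
  apply hNT
  obtain ⟨Y, hY, hYZ⟩ := h.one.exists_ne h.one.self
  intro w hw
  refine h.one.n0_eq h.one.self hY hYZ hw fun b hb => ?_
  have hbN : b ∈ normalizer ((ws V Z : Subgroup G) : Set G) :=
    h.one.cent_norm_W h.one.self (h.one.W_le_cent hY hb)
  have hab : ∀ a ∈ ws V Z, ∀ b ∈ ws V Z, a * b = b * a := fun a ha b hb => h.one.comm_W h.one.self.cj ha hb
  have key : ws V Z ≤ cR b (ws V Z) V hab hbN := by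
    refine ws_le fun L hL hZL => ?_
    obtain ⟨c, hc, rfl⟩ := h.line_eq hL hZL
    intro u hu
    refine ⟨le_ws hL hZL hu, ?_⟩
    rw [mem_cj] at hu
    have hcZ : PT.cj c⁻¹ Z = Z := cj_eq_iff.2 (inv_mem (centralizer_le_normalizer _ hc))
    have h1 : Z ≤ PT.cj c⁻¹ V := by
      have := cj_le_cj (g := c⁻¹).2 h.one.pl.ZV
      rwa [hcZ] at this
    have h2 : Pnt (PT.cj c⁻¹ V) Z (PT.cj c⁻¹ Y) := ⟨hY.cj.cj _, cj_le_cj.2 hY.le⟩
    have h3 : PT.cj c⁻¹ Y ≠ Z := by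
      intro e
      rw [← hcZ, cj_inj] at e
      exact hYZ e
    have h4 : c⁻¹ * b * c ∈ ws V (PT.cj c⁻¹ Y) := by
      rw [ws_cj, mem_cj, inv_inv]
      have e : c * (c⁻¹ * b * c) * c⁻¹ = b := by group
      rwa [e]
    have h5 := hcon _ _ ⟨c⁻¹, rfl⟩ h1 h2 h3 _ hu _ h4
    rw [mem_cj, inv_inv] at h5
    have h6 := inv_mem h5
    have e : (c * (c⁻¹ * u * c * (c⁻¹ * b * c) * (c⁻¹ * u * c)⁻¹ * (c⁻¹ * b * c)⁻¹) * c⁻¹)⁻¹ =
      b * u * b⁻¹ * u⁻¹ := by group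
    rwa [e] at h6
  have h1 := inv_mem (key hw).2
  have e : (b * w * b⁻¹ * w⁻¹)⁻¹ = w * b * w⁻¹ * b⁻¹ := by group
  rwa [e] at h1

/-- a line `L` on `Z` and `Y' ∈ L` such that `E_Y'` induces the whole root group on `V` -/
theorem exists_full (hNT : ¬ ws V Z ≤ n0 V Z Z) :
    ∃ L Y, IsCj V L ∧ Z ≤ L ∧ Pnt L Z Y ∧ Y ≠ Z ∧
      ∀ t : F, ∃ k ∈ ee L Z Y, k ∈ kx V Z ∧ ∀ x y, k * h.e x y * k⁻¹ = h.e (x + t * y) y := by
  obtain ⟨L, Y, hL, hZL, hY, hne, u, hu, w, hw, huw⟩ := h.exists_line hNT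
  refine ⟨L, Y, hL, hZL, hY, hne, fun t => ?_⟩
  obtain ⟨T, C, Q, h'⟩ := h.one.flag hL h.one.pl.isCj_self hZL
  obtain ⟨a, b, rfl⟩ := (h.mem_V u).1 hu
  have hb : b ≠ 0 := by
    rintro rfl
    apply huw
    have h1 : h.e a 0 ∈ L := hZL (h.e_memZ a)
    have hwW : w ∈ ws L Y := by rw [ws_line hL]; exact hw
    rw [h'.comm_W hY.cj (h'.V_le_W hY h1) hwW, mul_inv_cancel_right, mul_inv_cancel]
    exact one_mem _
  obtain ⟨k, hk, hkv⟩ := h.one.full hL hZL hY hne hu hw huw (h.e_memZ (t * b))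
  have hkZ : k ∈ kx V Z := by
    have := (mem_ee.1 hk).2 Z h'.self hne.symm
    rwa [kx_line hL] at this
  refine ⟨k, hk, hkZ, ?_⟩
  obtain ⟨s, hs⟩ := h.K_tv hkZ
  rw [hs, h.e_inv, ← h.e_add, CharTwo.add_self_eq_zero, add_right_comm, CharTwo.add_self_eq_zero, zero_add] at hkv
  obtain ⟨h1, -⟩ := h.e_inj hkv
  rw [mul_left_inj' hb] at h1
  rw [← h1]
  exact hs

/-- **`EL / DL` is a quadratic section** -/
theorem secE (hNT : ¬ ws V Z ≤ n0 V Z Z) : h.Sec (EL V Z) (DL V Z) where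
  ab := h.one.EL_ab
  sq := h.one.EL_sq
  RW := h.one.DL_le
  NW := h.one.pl.XV_le_N.trans (norm_EL V Z)
  NR := h.one.pl.XV_le_N.trans (norm_DL V Z)
  triv := fun T hT k hk hkV => h.one.triv_E hT hk hkV
  quad := by
    obtain ⟨L, Y, hL, hZL, hY, hne, hf⟩ := h.exists_full hNT
    obtain ⟨T, C, Q, h'⟩ := h.one.flag hL h.one.pl.isCj_self hZL
    intro t t'
    obtain ⟨k, hk, hkZ, hkt⟩ := hf t
    obtain ⟨k', hk', hkZ', hkt'⟩ := hf t'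
    refine ⟨k, hkZ, k', hkZ', hkt, hkt', fun w hw => ?_⟩
    rw [h'.EL_ab k' (ee_le_EL hY hk') _ (h.one.quad_line hL hZL hY hne hk w hw), mul_inv_cancel_right, mul_inv_cancel]
    exact one_mem _

/-- `DL` is quadratic modulo `I`, if `⟨K_T ∩ C_G(V)⟩` is trivial on `DL / I` -/
theorem secD (hNT : ¬ ws V Z ≤ n0 V Z Z)
    (hJ : ∀ T, Pnt V Z T → ∀ k ∈ kx V T, k ∈ centralizer (V : Set G) → ∀ w ∈ DL V Z, k * w * k⁻¹ * w⁻¹ ∈ IV V Z) :
    h.Sec (DL V Z) (IV V Z) where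
  ab := fun a ha b hb => h.one.EL_ab a (h.one.DL_le ha) b (h.one.DL_le hb)
  sq := fun a ha => h.one.EL_sq a (h.one.DL_le ha)
  RW := (h.one.I_le_dd h.one.self).trans (dd_le_DL h.one.self)
  NW := h.one.pl.XV_le_N.trans (norm_DL V Z)
  NR := h.one.pl.XV_le_N.trans (normalizer_le_IV V Z)
  triv := hJ
  quad := by
    obtain ⟨L, Y, hL, hZL, hY, hne, hf⟩ := h.exists_full hNT
    obtain ⟨T, C, Q, h'⟩ := h.one.flag hL h.one.pl.isCj_self hZL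
    intro t t'
    obtain ⟨k, hk, hkZ, hkt⟩ := hf t
    obtain ⟨k', hk', hkZ', hkt'⟩ := hf t'
    refine ⟨k, hkZ, k', hkZ', hkt, hkt', fun w hw => ?_⟩
    rw [h'.EL_ab k' (ee_le_EL hY hk') _ (h.one.quad_line hL hZL hY hne hk w (h.one.DL_le hw)), mul_inv_cancel_right,
      mul_inv_cancel]
    exact one_mem _

/-- `a e(1,0) a⁻¹ = e(x,0)` implies `Z^a = Z` -/
theorem cj_Z_of_one {a : G} (ha : a ∈ XV V Z) {x : F} (hax : a * h.e 1 0 * a⁻¹ = h.e x 0) : PT.cj a Z = Z := by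
  have h1 := h.one.self.conj (h.one.pl.XV_le_N ha)
  refine h.one.pl.pts_eq h1.cj h.one.self.cj (conj_mem_cj (h.e_memZ 1)) (by rw [hax]; exact h.e_memZ x) ?_
  intro e
  rw [mul_inv_eq_one, mul_eq_left, h.e_eq_one] at e
  exact one_ne_zero e.1

/-- **WEIGHT THEOREM** -/
theorem weight [Finite F] (hNT : ¬ ws V Z ≤ n0 V Z Z) {e : G} (he : e ∈ ee V Z Z) {a b c : G}
    (ha : a ∈ XV V Z) (hb : b ∈ XV V Z) (hc : c ∈ XV V Z) {x y : F} (hax : a * h.e 1 0 * a⁻¹ = h.e x 0)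
    (hby : b * h.e 1 0 * b⁻¹ = h.e y 0) (hcz : c * h.e 1 0 * c⁻¹ = h.e (x + y) 0) :
    c * e * c⁻¹ * (a * e * a⁻¹) * (b * e * b⁻¹) ∈ dd V Z Z := by
  have hZ := h.one.self
  have hY := h.pY
  have hconj : ∀ {g : G} {x : F}, g ∈ XV V Z → g * h.e 1 0 * g⁻¹ = h.e x 0 → g * e * g⁻¹ ∈ ee V Z Z := by
    intro g x hg hgx
    have h1 := conj_mem_cj (g := g) he
    rwa [cj_ee (h.one.pl.XV_le_N hg), h.cj_Z_of_one hg hgx] at h1
  have hr := mul_mem (mul_mem (hconj hc hcz) (hconj ha hax)) (hconj hb hby)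
  obtain ⟨n, hn, hne⟩ := h.exists_n (one_ne_zero (α := F))
  have hnZ : PT.cj n Z = h.Yp := h.cj_swap fun x y => by rw [hne, one_mul, inv_one, one_mul]
  have h1 := (h.secE hNT).add_of (ee_le_EL hZ he)
    (fun k hk => dd_le_DL hZ (h.one.X_le_dd hZ ((mem_kx.1 hk).2 e he.1))) ha hb hc hax hby hcz hn
  set r := c * e * c⁻¹ * (a * e * a⁻¹) * (b * e * b⁻¹) with hrd
  have h2 : n * r * n⁻¹ ∈ ee V Z h.Yp := by
    have h3 := conj_mem_cj (g := n) hr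
    rwa [cj_ee (h.one.pl.XV_le_N hn), hnZ] at h3
  have h3 : n * r * n⁻¹ ∈ dd V Z h.Yp := by
    refine h.one.mem_dd_of hY hZ h.Yp_ne.symm h2.1 fun u hu => ?_
    have e1 : n * r * n⁻¹ = n * r * n⁻¹ * r⁻¹ * r := by group
    rw [e1, mul_assoc, h.one.comm_W hZ.cj hr.1 hu, ← mul_assoc, h.one.DL_comm hZ h1 hu, mul_assoc]
  have h4 : r ∈ DL V Z := by
    have e1 : r = (n * r * n⁻¹ * r⁻¹)⁻¹ * (n * r * n⁻¹) := by group
    rw [e1]
    exact mul_mem (inv_mem h1) (dd_le_DL hY h3)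
  exact h.one.mem_dd_of hZ hY h.Yp_ne hr.1 fun u hu => h.one.DL_comm hY h4 hu

/-- the WEIGHT THEOREM for `D_Z / I` -/
theorem weightD [Finite F] (hNT : ¬ ws V Z ≤ n0 V Z Z)
    (hJ : ∀ T, Pnt V Z T → ∀ k ∈ kx V T, k ∈ centralizer (V : Set G) → ∀ w ∈ DL V Z, k * w * k⁻¹ * w⁻¹ ∈ IV V Z)
    {e : G} (he : e ∈ dd V Z Z) {a b c : G}
    (ha : a ∈ XV V Z) (hb : b ∈ XV V Z) (hc : c ∈ XV V Z) {x y : F} (hax : a * h.e 1 0 * a⁻¹ = h.e x 0)
    (hby : b * h.e 1 0 * b⁻¹ = h.e y 0) (hcz : c * h.e 1 0 * c⁻¹ = h.e (x + y) 0) :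
    c * e * c⁻¹ * (a * e * a⁻¹) * (b * e * b⁻¹) ∈ IV V Z := by
  have hZ := h.one.self
  have hY := h.pY
  have hconj : ∀ {g : G} {x : F}, g ∈ XV V Z → g * h.e 1 0 * g⁻¹ = h.e x 0 → g * e * g⁻¹ ∈ dd V Z Z := by
    intro g x hg hgx
    have h1 := conj_mem_cj (g := g) he
    rwa [cj_dd (h.one.pl.XV_le_N hg), h.cj_Z_of_one hg hgx] at h1
  have hr := mul_mem (mul_mem (hconj hc hcz) (hconj ha hax)) (hconj hb hby)
  obtain ⟨n, hn, hne⟩ := h.exists_n (one_ne_zero (α := F))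
  have hnZ : PT.cj n Z = h.Yp := h.cj_swap fun x y => by rw [hne, one_mul, inv_one, one_mul]
  have h1 := (h.secD hNT hJ).add_of (dd_le_DL hZ he)
    (fun k hk => h.one.pl.V_le_IV (h.one.pl.ZV ((mem_kx.1 hk).2 e he.1))) ha hb hc hax hby hcz hn
  set r := c * e * c⁻¹ * (a * e * a⁻¹) * (b * e * b⁻¹) with hrd
  have h2 : n * r * n⁻¹ ∈ dd V Z h.Yp := by
    have h3 := conj_mem_cj (g := n) hr
    rwa [cj_dd (h.one.pl.XV_le_N hn), hnZ] at h3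
  rw [← h.one.pl.IV_eq h.one.hf hZ.cj hZ.le hY.cj hY.le h.Yp_ne.symm]
  have h5 : r ∈ ws V h.Yp := by
    have e1 : r = (n * r * n⁻¹ * r⁻¹)⁻¹ * (n * r * n⁻¹) := by group
    rw [e1]
    exact (ws V h.Yp).mul_mem ((ws V h.Yp).inv_mem (h.one.I_le_W hY h1)) h2.1
  exact ⟨hr.1, h5⟩

end Co

end Cfsg.Agent.Omega.NO3S.OneQ

end

end

-- merged: Cfsg.Agent.Mrg.Omega.NO3S.OneQ.StarA
section

/-!
# NO-3S, critical distance 1: S-pairs and `D_X / I` (bb OMEGA #20317 (A))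

`SP V Z L M X Y Q` : `L`, `M` are lines on the point `X`, `Y ≠ X` a point of `L`, `Q ≠ X` a point of `M`,
`Q ≰ E_X(L)`, `Y ≰ E_X(M)`. Hypothesis (N): `hN : w1 V Z Z ≤ ee V Z Z`, i.e. `C_{W_X}(E_Y) = E_X`.

* `One.asym` : `Q ≰ E_X(L)` implies `[Y, W_Q] ≠ 1`;
* `SP.star` : `D_X(L) ≤ I_L (D_X(L) ∩ I_M)`;
* `SP.triv` : `[K_X ∩ C_G(L), D_Y(L)] ≤ I_L`; `SP.hJ` : `[K_T ∩ C_G(V), ⟨D_R⟩] ≤ I` (the hypothesis of `Co.weightD`);
* `SP.semi` : the torus is semiregular on `D_Z / I`;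
* **`SP.I_smul`** : the image of `I` in `MF` is closed under scalars.
-/

set_option autoImplicit false
set_option linter.unusedSectionVars false

namespace Cfsg.Agent.Omega.NO3S.OneQ

open Subgroup Cfsg.Agent.Omega.NO3S.PT Cfsg.Agent.Omega.NoFF.Basic
open scoped Pointwise

variable {G : Type*} [Group G]

/-- an S-pair of lines `L`, `M` on `X` -/
structure SP (V Z L M X Y Q : Subgroup G) : Prop where
  hL : IsCj V L
  hM : IsCj V M
  hX : IsCj Z X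
  hXL : X ≤ L
  hXM : X ≤ M
  hY : IsCj Z Y
  hYL : Y ≤ L
  hYX : Y ≠ X
  hQ : IsCj Z Q
  hQM : Q ≤ M
  hQX : Q ≠ X
  s1 : ∃ q ∈ Q, q ∉ ee L Z X
  s2 : ∃ y ∈ Y, y ∉ ee M Z X

theorem SP.symm {V Z L M X Y Q : Subgroup G} (h : SP V Z L M X Y Q) : SP V Z M L X Q Y :=
  ⟨h.hM, h.hL, h.hX, h.hXM, h.hXL, h.hQ, h.hQM, h.hQX, h.hY, h.hYL, h.hYX, h.s2, h.s1⟩

theorem SP.conj {V Z L M X Y Q : Subgroup G} (h : SP V Z L M X Y Q) (g : G) :
    SP V Z (PT.cj g L) (PT.cj g M) (PT.cj g X) (PT.cj g Y) (PT.cj g Q) where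
  hL := h.hL.cj g
  hM := h.hM.cj g
  hX := h.hX.cj g
  hXL := cj_le_cj.2 h.hXL
  hXM := cj_le_cj.2 h.hXM
  hY := h.hY.cj g
  hYL := cj_le_cj.2 h.hYL
  hYX := fun e => h.hYX (cj_inj.1 e)
  hQ := h.hQ.cj g
  hQM := cj_le_cj.2 h.hQM
  hQX := fun e => h.hQX (cj_inj.1 e)
  s1 := by
    obtain ⟨q, hq, hqE⟩ := h.s1
    refine ⟨g * q * g⁻¹, conj_mem_cj hq, fun e => hqE ?_⟩
    rw [← cj_conj_ee, mem_cj] at e
    have e1 : g⁻¹ * (g * q * g⁻¹) * g = q := by group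
    rwa [e1] at e
  s2 := by
    obtain ⟨q, hq, hqE⟩ := h.s2
    refine ⟨g * q * g⁻¹, conj_mem_cj hq, fun e => hqE ?_⟩
    rw [← cj_conj_ee, mem_cj] at e
    have e1 : g⁻¹ * (g * q * g⁻¹) * g = q := by group
    rwa [e1] at e

namespace One

variable [Finite G] {S : Sylow 2 G} {B P V Z : Subgroup G} (h : One S B P V Z)
include h

/-- `v ∈ W_X - E_X(L)` is moved by `E_Y(L)` -/
theorem exists_mov (hN : w1 V Z Z ≤ ee V Z Z) {L X Y : Subgroup G} (hL : IsCj V L) (hX : IsCj Z X) (hXL : X ≤ L)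
    (hY : IsCj Z Y) (hYL : Y ≤ L) (hne : Y ≠ X) {v : G} (hv : v ∈ ws V X) (hvE : v ∉ ee L Z X) :
    ∃ e ∈ ee L Z Y, e ∈ ws V Y ∧ e ∈ kx V X ∧ e * v ≠ v * e := by
  by_contra hcon
  push Not at hcon
  refine hvE (h.w1_mem hN hL hX hXL hY hYL hne hv fun e he => hcon e he ?_ ?_)
  · rw [← ws_line hL]; exact ee_le he
  · rw [h.ee_line hL hY hYL hX hXL (Ne.symm hne)] at he
    exact he.2

theorem cj_ne {M X Q : Subgroup G} (hM : IsCj V M) (hX : IsCj Z X) (hXM : X ≤ M) (hQ : IsCj Z Q) (hQM : Q ≤ M)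
    (hQX : Q ≠ X) {e q : G} (he : e ∈ kx V X) (hq : q ∈ Q) (heq : e * q ≠ q * e) : PT.cj e Q ≠ Q := by
  intro hcon
  apply heq
  have h1 : e * q * e⁻¹ * q⁻¹ ∈ Q := Q.mul_mem ((mem_normalizer_iff.1 (cj_eq_iff.1 hcon) q).1 hq) (Q.inv_mem hq)
  have h2 : e * q * e⁻¹ * q⁻¹ ∈ X := (mem_kx.1 he).2 q (h.line_le_ws hM hXM (hQM hq))
  have h3 : e * q * e⁻¹ * q⁻¹ ∈ Q ⊓ X := ⟨h1, h2⟩
  rwa [h.pl.pts_inf hQ hX hQX, mem_bot, mul_inv_eq_one, mul_inv_eq_iff_eq_mul] at h3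

/-- `E_X(L)` does not centralise `W_Y` -/
theorem ee_not_comm (hN : w1 V Z Z ≤ ee V Z Z) {L X Y : Subgroup G} (hL : IsCj V L) (hX : IsCj Z X) (hXL : X ≤ L)
    (hY : IsCj Z Y) (hYL : Y ≤ L) (hne : Y ≠ X) : ∃ e ∈ ee L Z Y, ∃ w ∈ ws V X, e * w ≠ w * e := by
  by_contra hcon
  push Not at hcon
  obtain ⟨S', C', Q, h'⟩ := h.flag hL hX hXL
  apply h'.ee_ne h'.self
  refine le_antisymm ee_le ?_
  rw [ws_line hL, ee_of hX]
  intro w hw
  exact h.w1_mem hN hL hX hXL hY hYL hne hw fun e he => hcon e he w hw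

/-- **ASYM** -/
theorem asym (hN : w1 V Z Z ≤ ee V Z Z) {L M X Y Q : Subgroup G} (hL : IsCj V L) (hM : IsCj V M) (hX : IsCj Z X)
    (hXL : X ≤ L) (hXM : X ≤ M) (hY : IsCj Z Y) (hYL : Y ≤ L) (hYX : Y ≠ X) (hQ : IsCj Z Q) (hQM : Q ≤ M)
    (hQX : Q ≠ X) {q : G} (hq : q ∈ Q) (hqE : q ∉ ee L Z X) : ∃ y ∈ Y, ∃ w ∈ ws V Q, w * y ≠ y * w := by
  by_contra hcon
  push Not at hcon
  obtain ⟨e, heE, heY, heX, heq⟩ := h.exists_mov hN hL hX hXL hY hYL hYX (h.line_le_ws hM hXM (hQM hq)) hqE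
  have heQ := h.cj_ne hM hX hXM hQ hQM hQX heX hq heq
  have hei : e⁻¹ = e := h.W_inv hY heY
  have hM' : PT.cj e M = M := cj_eq_iff.2 (h.K_norm_line hM hX hXM heX)
  have hQM' : PT.cj e Q ≤ M := by
    have := cj_le_cj (g := e) |>.2 hQM
    rwa [hM'] at this
  -- `W_Q` normalises `W_Y`
  have hn : ws V Q ≤ normalizer ((ws V Y : Subgroup G) : Set G) := by
    intro w hw
    refine normalizer_le_ws V Y (centralizer_le_normalizer _ (mem_centralizer_iff.2 fun y hy => ?_))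
    exact (hcon y hy w hw).symm
  obtain ⟨a, ha, b, hb, hab⟩ := h.ee_not_comm hN hM (hQ.cj e) hQM' hQ hQM (Ne.symm heQ)
  have haQ : a ∈ ws V Q := by rw [← ws_line hM]; exact ee_le ha
  -- `b = e b' e⁻¹`
  set b' := e⁻¹ * b * e with hb'
  have hbQ : b' ∈ ws V Q := by rw [← mem_cj, ← ws_cj]; exact hb
  have hbe : e * b' * e⁻¹ = b := by rw [hb']; group
  -- the two elements of `W_Y`
  have hk1 : a * e * a⁻¹ * e⁻¹ ∈ ws V Y := (ws V Y).mul_mem ((mem_normalizer_iff.1 (hn haQ) e).1 heY) ((ws V Y).inv_mem heY)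
  have hk2 : b' * e * b'⁻¹ * e⁻¹ ∈ ws V Y := (ws V Y).mul_mem ((mem_normalizer_iff.1 (hn hbQ) e).1 heY) ((ws V Y).inv_mem heY)
  have hai : a⁻¹ = a := h.W_inv hQ haQ
  have hbi : b'⁻¹ = b' := h.W_inv hQ hbQ
  have hbi' : b⁻¹ = b := h.W_inv (hQ.cj e) hb
  set a' := e * a * e⁻¹ with ha'
  have haW : a' ∈ ws V (PT.cj e Q) := by rw [ws_cj]; exact conj_mem_cj haQ
  have hai' : a'⁻¹ = a' := h.W_inv (hQ.cj e) haW
  have e1 : a * e * a⁻¹ * e⁻¹ = a * a' := by rw [ha', hai]; group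
  have e2 : b' * e * b'⁻¹ * e⁻¹ = b' * b := by rw [← hbe, hbi]; group
  rw [e1] at hk1
  rw [e2] at hk2
  have hcomm := h.comm_W hY hk1 hk2
  -- `[a, b] ∈ Q^e`, `[a', b'] ∈ Q`
  have hc1 : a * b * a⁻¹ * b⁻¹ ∈ PT.cj e Q := h.ee_line_act hM hQ hQM (hQ.cj e) hQM' heQ ha hb
  have hc2 : b' * a' * b'⁻¹ * a'⁻¹ ∈ Q := by
    have h1 := h.ee_line_act hM hQ hQM (hQ.cj e) hQM' heQ ha hb
    rw [mem_cj] at h1
    have h2 := Q.inv_mem h1
    have e3 : (e⁻¹ * (a * b * a⁻¹ * b⁻¹) * e)⁻¹ = b' * (e⁻¹ * a * e) * b'⁻¹ * (e⁻¹ * a * e)⁻¹ := by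
      rw [hb']; group
    rw [e3] at h2
    have e4 : e⁻¹ * a * e = a' := by rw [ha', hei]
    rwa [e4] at h2
  have hab' : a * b' = b' * a := h.comm_W hQ haQ hbQ
  have hba' : a' * b = b * a' := h.comm_W (hQ.cj e) haW hb
  set c1 := a * b * a⁻¹ * b⁻¹ with hc1def
  set c2 := b' * a' * b'⁻¹ * a'⁻¹ with hc2def
  -- `c2` commutes with `W_Q`-elements and `W_{Q^e}`-elements
  have hML : ∀ T, IsCj Z T → T ≤ M → ∀ w ∈ ws V T, ∀ c ∈ M, w * c = c * w := fun T hT hTM w hw c hc =>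
    (mem_centralizer_iff.1 (h.ws_le_line hM hT hTM hw) c hc).symm
  -- `a a' b' b = b' b a a'`
  have h5 : a * a' * (b' * b) = c1 * c2 * (b' * b * (a * a')) := by
    have h6 : a * b = c1 * (b * a) := by rw [hc1def]; group
    have h7 : b' * a' = c2 * (a' * b') := by rw [hc2def]; group
    have h8 : a' * b' = c2⁻¹ * (b' * a') := by rw [h7]; group
    have h9 : c2⁻¹ = c2 := by
      have : c2 ∈ ws V Q := h.line_le_ws hM hQM (hQM hc2)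
      exact h.W_inv hQ this
    rw [h9] at h8
    have ha2 : a * c2 = c2 * a := hML Q hQ hQM a haQ c2 (hQM hc2)
    have hb1 : b' * c1 = c1 * b' := hML Q hQ hQM b' hbQ c1 (hQM' hc1)
    calc a * a' * (b' * b) = a * (a' * b') * b := by group
      _ = a * (c2 * (b' * a')) * b := by rw [h8]
      _ = c2 * (a * b') * (a' * b) := by rw [← mul_assoc a c2, ha2]; group
      _ = c2 * b' * (a * b) * a' := by rw [hab', hba']; group
      _ = c2 * (b' * c1) * (b * a) * a' := by rw [h6]; group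
      _ = c2 * c1 * b' * b * a * a' := by rw [hb1]; group
      _ = c1 * c2 * (b' * b * (a * a')) := by
        have : c2 * c1 = c1 * c2 := hML Q hQ hQM c2 (h.line_le_ws hM hQM (hQM hc2)) c1 (hQM' hc1)
        rw [this]; group
  rw [hcomm] at h5
  have h10 : c1 * c2 = 1 := by
    have := right_eq_mul.1 (h5.trans (by group : c1 * c2 * (b' * b * (a * a')) = c1 * c2 * (b' * b * (a * a'))))
    exact this
  have h11 : c1 ∈ PT.cj e Q ⊓ Q := ⟨hc1, by rw [eq_inv_of_mul_eq_one_left h10]; exact Q.inv_mem hc2⟩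
  rw [h.pl.pts_inf (hQ.cj e) hQ heQ, mem_bot, hc1def, mul_inv_eq_one, mul_inv_eq_iff_eq_mul] at h11
  exact hab h11

/-- `E_X(L) ∩ Q ≠ 1` implies `M ≤ E_X(L)` -/
theorem le_ee_of (hN : w1 V Z Z ≤ ee V Z Z) {L M X Y Q : Subgroup G} (hL : IsCj V L) (hM : IsCj V M) (hX : IsCj Z X)
    (hXL : X ≤ L) (hXM : X ≤ M) (hY : IsCj Z Y) (hYL : Y ≤ L) (hYX : Y ≠ X) (hQ : IsCj Z Q) (hQM : Q ≤ M)
    (hQX : Q ≠ X) {q : G} (hq : q ∈ Q) (hq1 : q ≠ 1) (hqE : q ∈ ee L Z X) : M ≤ ee L Z X := by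
  intro m hm
  refine h.w1_mem hN hL hX hXL hY hYL hYX (h.line_le_ws hM hXM hm) fun e he => ?_
  have heK : e ∈ kx V X := by
    rw [h.ee_line hL hY hYL hX hXL (Ne.symm hYX)] at he
    exact he.2
  obtain ⟨S', C', R, h'⟩ := h.flag hL hX hXL
  have h1 : q * e = e * q := by
    have h2 := h'.ee_comm h'.self (h.pnt_line hX hY hYL) (Ne.symm hYX) (a := q) (b := e)
      (by rw [ee_of hX]; exact hqE) (by rw [ee_of hX]; exact he)
    exact h2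
  have h2 := h.lin_fix hM hX hXM hQ hQM (Ne.symm hQX) (kx_le_cent heK) hq hq1 h1.symm
  exact (mem_centralizer_iff.1 h2 m hm).symm

theorem X_le_ee {L X : Subgroup G} (hL : IsCj V L) (hX : IsCj Z X) (hXL : X ≤ L) : X ≤ ee L Z X := by
  obtain ⟨S', C', R, h'⟩ := h.flag hL hX hXL
  have h1 := (h'.X_le_dd h'.self).trans (h'.dd_le_ee h'.self)
  rwa [ee_of hX] at h1

/-- `s2` does not depend on the point -/
theorem change {L M X Y Y' : Subgroup G} (hL : IsCj V L) (hM : IsCj V M) (hX : IsCj Z X) (hXL : X ≤ L) (hXM : X ≤ M)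
    (hYL : Y ≤ L) (hY' : IsCj Z Y') (hYL' : Y' ≤ L) (hYX' : Y' ≠ X)
    (hs : ∃ y ∈ Y, y ∉ ee M Z X) : ∃ y ∈ Y', y ∉ ee M Z X := by
  obtain ⟨y, hy, hyE⟩ := hs
  obtain ⟨x, hx, y', hy', rfl⟩ := h.line_mul hL hX hXL hY' hYL' (Ne.symm hYX') (hYL hy)
  refine ⟨y', hy', fun e => hyE ((ee M Z X).mul_mem (h.X_le_ee hM hX hXM hx) e)⟩

theorem SP_change {L M X Y Y' Q : Subgroup G} (s : SP V Z L M X Y Q) (hY' : IsCj Z Y') (hYL' : Y' ≤ L) (hYX' : Y' ≠ X) :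
    SP V Z L M X Y' Q :=
  { s with hY := hY', hYL := hYL', hYX := hYX',
           s2 := h.change s.hL s.hM s.hX s.hXL s.hXM s.hYL hY' hYL' hYX' s.s2 }

/-- there is a line on `Z` outside of `E_Z(V)` -/
theorem exists_line_out {L X : Subgroup G} (hL : IsCj V L) (hX : IsCj Z X) (hXL : X ≤ L) :
    ∃ M Q, IsCj V M ∧ X ≤ M ∧ IsCj Z Q ∧ Q ≤ M ∧ Q ≠ X ∧ ∃ q ∈ Q, q ∉ ee L Z X := by
  obtain ⟨S', C', R, h'⟩ := h.flag hL hX hXL
  have h1 : ¬ ws V X ≤ ee L Z X := by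
    intro e
    obtain ⟨Y, hY, hYX⟩ := h'.exists_ne h'.self
    apply h'.ee_ne h'.self
    refine le_antisymm ee_le ?_
    rw [ws_line hL, ee_of hX]
    exact e
  obtain ⟨M, hM, hXM, hME⟩ : ∃ M, IsCj V M ∧ X ≤ M ∧ ¬ M ≤ ee L Z X := by
    by_contra hcon
    push Not at hcon
    exact h1 (ws_le fun M hM hXM => hcon M hM hXM)
  obtain ⟨S2, C2, R2, h2⟩ := h.flag hM hX hXM
  obtain ⟨Q, hQ, hQX⟩ := h2.exists_ne h2.self
  have hQ' : IsCj Z Q := ((pnt_iff hX).1 hQ).cj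
  refine ⟨M, Q, hM, hXM, hQ', hQ.le, hQX, ?_⟩
  by_contra hcon
  push Not at hcon
  apply hME
  intro m hm
  obtain ⟨x, hx, q, hq, rfl⟩ := h.line_mul hM hX hXM hQ' hQ.le (Ne.symm hQX) hm
  exact (ee L Z X).mul_mem (h.X_le_ee hL hX hXL hx) (hcon q hq)

/-- **S-pairs exist** -/
theorem exists_SP (hN : w1 V Z Z ≤ ee V Z Z) {L X Y : Subgroup G} (hL : IsCj V L) (hX : IsCj Z X) (hXL : X ≤ L)
    (hY : IsCj Z Y) (hYL : Y ≤ L) (hYX : Y ≠ X) : ∃ M Q, SP V Z L M X Y Q := by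
  obtain ⟨M, Q, hM, hXM, hQ, hQM, hQX, q, hq, hqE⟩ := h.exists_line_out hL hX hXL
  by_cases hs : ∃ y ∈ Y, y ∉ ee M Z X
  · exact ⟨M, Q, hL, hM, hX, hXL, hXM, hY, hYL, hYX, hQ, hQM, hQX, ⟨q, hq, hqE⟩, hs⟩
  push Not at hs
  obtain ⟨y, hy, w, hw, hwy⟩ := h.asym hN hL hM hX hXL hXM hY hYL hYX hQ hQM hQX hq hqE
  have hc : y * w * y⁻¹ * w⁻¹ ∈ Q := h.ee_line_act hM hX hXM hQ hQM hQX (hs y hy) hw
  have hwX : PT.cj w X = X := by
    rw [cj_eq_iff]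
    exact centralizer_le_normalizer _ (centralizer_le hXM (h.ws_le_line hM hQ hQM hw))
  have hwi : w⁻¹ = w := h.W_inv hQ hw
  -- `w y w⁻¹ ∉ E_X(L)`
  have hyE : y ∈ ee L Z X := by
    obtain ⟨S', C', R, h'⟩ := h.flag hL hX hXL
    have h1 := (h'.pl.V_le_IV.trans (h'.I_le_dd h'.self)).trans (h'.dd_le_ee h'.self)
    rw [ee_of hX] at h1
    exact h1 (hYL hy)
  have key : w * y * w⁻¹ ∉ ee L Z X := by
    intro e
    have h1 : y * w * y⁻¹ * w⁻¹ ∈ ee L Z X := by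
      have h2 : y * w * y⁻¹ * w⁻¹ = y * (w * y * w⁻¹)⁻¹ := by group
      rw [h2]
      exact mul_mem hyE (inv_mem e)
    have h3 : y * w * y⁻¹ * w⁻¹ ≠ 1 := by
      intro e1
      rw [mul_inv_eq_one, mul_inv_eq_iff_eq_mul] at e1
      exact hwy e1.symm
    exact hqE (h.le_ee_of hN hL hM hX hXL hXM hY hYL hYX hQ hQM hQX hc h3 h1 (hQM hq))
  refine ⟨PT.cj w L, PT.cj w Y, hL, hL.cj w, hX, hXL, ?_, hY, hYL, hYX, hY.cj w, cj_le_cj.2 hYL, ?_, ?_, ?_⟩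
  · rw [← hwX]; exact cj_le_cj.2 hXL
  · intro e
    rw [← hwX] at e
    exact hYX (cj_inj.1 e)
  · exact ⟨w * y * w⁻¹, conj_mem_cj hy, key⟩
  · refine ⟨y, hy, fun e => key ?_⟩
    have h1 : w⁻¹ * y * w ∈ ee L Z X := by
      have h2 : y ∈ PT.cj w (ee L Z X) := by
        rw [cj_conj_ee, hwX]; exact e
      exact mem_cj.1 h2
    rwa [hwi] at h1 ⊢

end One

namespace SP

variable [Finite G] {S : Sylow 2 G} {B P V Z : Subgroup G} {L M X Y Q : Subgroup G} (s : SP V Z L M X Y Q)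
  (h : One S B P V Z) (hN : w1 V Z Z ≤ ee V Z Z)
include s h hN

/-- `e ∈ E_Q(M)` moves `Y` -/
theorem exists_e : ∃ e ∈ ws V Q, e ∈ kx V X ∧ PT.cj e Y ≠ Y := by
  obtain ⟨y, hy, hyE⟩ := s.s2
  obtain ⟨e, -, h1, h2, h3⟩ := h.exists_mov hN s.hM s.hX s.hXM s.hQ s.hQM s.hQX (h.line_le_ws s.hL s.hXL (s.hYL hy)) hyE
  exact ⟨e, h1, h2, h.cj_ne s.hL s.hX s.hXL s.hY s.hYL s.hYX h2 hy h3⟩

theorem exists_g : ∃ g ∈ kx V X, PT.cj g Q ≠ Q ∧ ∀ T, IsCj Z T → T ≤ L → ∀ d ∈ dd L Z T, g * d = d * g := by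
  obtain ⟨q, hq, hqE⟩ := s.s1
  obtain ⟨e, -, h1, h2, h3⟩ := h.exists_mov hN s.hL s.hX s.hXL s.hY s.hYL s.hYX (h.line_le_ws s.hM s.hXM (s.hQM hq)) hqE
  exact ⟨e, h2, h.cj_ne s.hM s.hX s.hXM s.hQ s.hQM s.hQX h2 hq h3,
    fun T hT hTL d hd => h.dd_cent_line s.hL hT hTL s.hY s.hYL hd h1⟩

/-- (1.1) -/
theorem comm {e d : G} (he : e ∈ ws V Q) (heX : e ∈ kx V X) (hd : d ∈ dd L Z Y) : d * e * d⁻¹ * e⁻¹ ∈ IV M Z := by
  obtain ⟨g, hg, hgQ, hgD⟩ := s.exists_g h hN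
  exact h.star_comm s.hL s.hM s.hX s.hXL s.hXM s.hY s.hYL s.hYX s.hQ s.hQM s.hQX he heX hg hgQ hgD hd

/-- (1.1) -/
theorem comm' {e d : G} (he : e ∈ ws V Q) (heX : e ∈ kx V X) (hd : d ∈ dd L Z Y) :
    d * e * d⁻¹ * e⁻¹ ∈ dd L Z X := by
  have h1 := s.comm h hN he heX hd
  rw [h.dd_line s.hL s.hX s.hXL s.hY s.hYL s.hYX]
  refine ⟨?_, mem_centralizer_iff.2 fun w hw => ?_⟩
  · rw [← h.IV_line s.hM s.hX s.hXM s.hQ s.hQM (Ne.symm s.hQX)] at h1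
    exact h1.1
  · exact h.star_cent s.hL s.hM s.hX s.hXL s.hXM s.hY s.hYL s.hYX s.hQ s.hQM s.hQX heX hd s.hY s.hYL hw

/-- (1.2) -/
theorem star {c : G} (hc : c ∈ dd L Z X) : ∃ i ∈ IV L Z, ∃ j ∈ IV M Z, c = i * j := by
  obtain ⟨g, hg, hgQ, hgD⟩ := s.exists_g h hN
  obtain ⟨e, he, heX, heY⟩ := s.exists_e h hN
  exact h.star s.hL s.hM s.hX s.hXL s.hXM s.hY s.hYL s.hYX s.hQ s.hQM s.hQX he heX heY hg hgQ hgD hc

/-- `[K_X ∩ C_G(L), D_Y(L)] ≤ I_L` -/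
theorem triv {k d : G} (hk : k ∈ kx V X) (hkL : k ∈ centralizer (L : Set G)) (hd : d ∈ dd L Z Y) :
    k * d * k⁻¹ * d⁻¹ ∈ IV L Z := by
  obtain ⟨e, he, heX, heY⟩ := s.exists_e h hN
  have hL1 : PT.cj k L = L := cj_eq_iff.2 (centralizer_le_normalizer _ hkL)
  have hfix : ∀ T ≤ L, PT.cj k T = T := fun T hT => cj_eq_iff.2 (centralizer_le_normalizer _ (centralizer_le hT hkL))
  have heL : PT.cj e Y ≤ L := h.cj_le_line s.hL s.hM s.hX s.hXL s.hXM s.hY s.hYL s.hYX s.hQ s.hQM s.hQX heX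
  have hdW : d ∈ ws V Y := by rw [← ws_line s.hL]; exact dd_le hd
  set d' := k * d * k⁻¹ with hd'
  have hd'D : d' ∈ dd L Z Y := by
    have h1 := conj_mem_cj (g := k) hd
    rwa [cj_conj_dd, hL1, hfix Y s.hYL] at h1
  have hd'W : d' ∈ ws V Y := by rw [← ws_line s.hL]; exact dd_le hd'D
  set c := d * e * d⁻¹ * e⁻¹ with hc
  have hcX : c ∈ ws V X := by rw [← ws_line s.hL]; exact dd_le (s.comm' h hN he heX hd)
  set f := e * d⁻¹ * e⁻¹ with hf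
  have hfD : f ∈ dd L Z (PT.cj e Y) := by
    have h1 := conj_mem_cj (g := e) (inv_mem hd)
    rwa [cj_conj_dd, cj_eq_iff.2 (h.K_norm_line s.hL s.hX s.hXL heX)] at h1
  have hf'D : k * f * k⁻¹ ∈ dd L Z (PT.cj e Y) := by
    have h1 := conj_mem_cj (g := k) hfD
    rwa [cj_conj_dd, hL1, hfix _ heL] at h1
  have hx : k * c * k⁻¹ * c⁻¹ ∈ X := (mem_kx.1 hk).2 c hcX
  set x := k * c * k⁻¹ * c⁻¹ with hxdef
  have hXI : X ≤ IV L Z := by
    obtain ⟨S', C', R, h'⟩ := h.flag s.hL s.hX s.hXL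
    have h1 := h'.pl.V_le_IV
    rw [IV_of s.hX] at h1
    exact s.hXL.trans h1
  have hI := h.IV_line s.hL s.hY s.hYL (s.hY.cj e) heL (Ne.symm heY)
  have h1 : d'⁻¹ * x * d = k * f * k⁻¹ * f⁻¹ := by
    have e1 : c = d * f := by rw [hc, hf]; group
    have e2 : x * c = d' * (k * f * k⁻¹) := by rw [hxdef, e1, hd']; group
    have e3 : x * d = d' * (k * f * k⁻¹) * f⁻¹ := by rw [← e2, e1]; group
    rw [mul_assoc, e3]; group
  have h2 : d'⁻¹ * x * d ∈ IV L Z := by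
    rw [← hI]
    refine ⟨?_, ?_⟩
    · refine (ws V Y).mul_mem ((ws V Y).mul_mem ((ws V Y).inv_mem hd'W) ?_) hdW
      rw [← hI] at hXI
      exact (hXI hx).1
    · rw [h1]
      have h3 : dd L Z (PT.cj e Y) ≤ ws V (PT.cj e Y) := by
        have : dd L Z (PT.cj e Y) ≤ ws L (PT.cj e Y) := dd_le
        rwa [ws_line s.hL] at this
      exact (ws V _).mul_mem (h3 hf'D) ((ws V _).inv_mem (h3 hfD))
  have hxY : x ∈ ws V Y := by
    rw [← hI] at hXI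
    exact (hXI hx).1
  have h3 : d' * d⁻¹ = x * (d'⁻¹ * x * d)⁻¹ := by
    have h4 : d' * d⁻¹ = d⁻¹ * d' := h.comm_W s.hY hd'W ((ws V Y).inv_mem hdW)
    have h5 : x * d⁻¹ = d⁻¹ * x := h.comm_W s.hY hxY ((ws V Y).inv_mem hdW)
    have h6 : x⁻¹ * d' = d' * x⁻¹ := h.comm_W s.hY ((ws V Y).inv_mem hxY) hd'W
    calc d' * d⁻¹ = d⁻¹ * d' := h4
      _ = d⁻¹ * x * (x⁻¹ * d') := by group
      _ = x * d⁻¹ * (x⁻¹ * d') := by rw [h5]
      _ = x * (d'⁻¹ * x * d)⁻¹ := by group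
  rw [h3]
  exact mul_mem (hXI hx) (inv_mem h2)

end SP

namespace One

variable [Finite G] {S : Sylow 2 G} {B P V Z : Subgroup G} (h : One S B P V Z)
include h

/-- `[K_T ∩ C_G(V), ⟨D_R⟩] ≤ I` -/
theorem hJ (hN : w1 V Z Z ≤ ee V Z Z) : ∀ T, Pnt V Z T → ∀ k ∈ kx V T, k ∈ centralizer (V : Set G) →
    ∀ w ∈ DL V Z, k * w * k⁻¹ * w⁻¹ ∈ IV V Z := by
  intro T hT k hk hkV
  have hV : IsCj V V := ⟨1, (cj_one V).symm⟩
  have hkN : k ∈ normalizer ((DL V Z : Subgroup G) : Set G) := norm_DL V Z (centralizer_le_normalizer _ hkV)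
  have key : DL V Z ≤ cR k (DL V Z) (IV V Z) (fun a ha b hb => h.EL_ab a (h.DL_le ha) b (h.DL_le hb)) hkN := by
    refine sSup_le ?_
    rintro _ ⟨R, hR, rfl⟩
    intro w hw
    refine ⟨dd_le_DL hR hw, ?_⟩
    by_cases hRT : R = T
    · subst hRT
      have h1 := (mem_kx.1 hk).2 w (dd_le hw)
      exact h.pl.V_le_IV (hT.le h1)
    · obtain ⟨M, Q, s⟩ := h.exists_SP hN hV hT.cj hT.le hR.cj hR.le hRT
      exact s.triv h hN hk hkV hw
  exact fun w hw => (key hw).2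

end One

namespace Co

variable [Finite G] {F : Type*} [Field F] [CharP F 2] {S : Sylow 2 G} {B P V Z : Subgroup G} (h : Co F S B P V Z)

include h in
theorem not_n0 (hNN : NN V Z) : ¬ ws V Z ≤ n0 V Z Z := fun e =>
  h.one.ee_ne h.one.self (le_antisymm ee_le (e.trans hNN))

/-- the torus is semiregular on `D_Z / J`, `J ≥ I` -/
theorem semi [Finite F] (hN : w1 V Z Z ≤ ee V Z Z) (hNN : NN V Z) {τ : G} {ζ : F} (hτ : h.Tor τ ζ) (hζ0 : ζ ≠ 0)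
    (hζ : ζ ≠ 1) {J : Subgroup G} (hJI : IV V Z ≤ J)
    (hJn : ∀ τ ζ, h.Tor τ ζ → ζ ≠ 0 → τ ∈ normalizer (J : Set G)) {d : G} (hd : d ∈ dd V Z Z)
    (hdτ : τ * d * τ⁻¹ * d⁻¹ ∈ J) : d ∈ J := by
  have hζ1 : (1 : F) + ζ ≠ 0 := by
    intro e
    apply hζ
    have h1 : (1 : F) = ζ := by
      rwa [← CharTwo.sub_eq_add, sub_eq_zero] at e
    exact h1.symm
  obtain ⟨c, hc⟩ := h.exists_tor hζ1
  have h1 := h.weightD (h.not_n0 hNN) (h.one.hJ hN) hd (one_mem _) hτ.mem hc.mem (x := 1) (y := ζ)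
    (by group) (by rw [hτ.act, mul_zero, mul_one]) (by rw [hc.act, mul_zero, mul_one])
  have hdi : d⁻¹ = d := h.one.inv_eq_W h.one.self (dd_le hd)
  have h2 : 1 * d * (1 : G)⁻¹ * (τ * d * τ⁻¹) ∈ J := by
    have hdW : d ∈ ws V Z := dd_le hd
    have hτd : τ * d * τ⁻¹ ∈ ws V Z := by
      have h3 := conj_mem_cj (g := τ) hdW
      rwa [← ws_cj, cj_eq_iff.2 (hτ.norm_Z hζ0)] at h3
    have h4 : d * (τ * d * τ⁻¹) = τ * d * τ⁻¹ * d := h.one.comm_W h.one.self.cj hdW hτd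
    have h5 : 1 * d * (1 : G)⁻¹ * (τ * d * τ⁻¹) = τ * d * τ⁻¹ * d⁻¹ := by
      rw [hdi, ← h4]; group
    rw [h5]
    exact hdτ
  have h3 : c * d * c⁻¹ ∈ J := by
    have h4 := hJI h1
    rw [mul_assoc] at h4
    exact (J.mul_mem_cancel_right h2).1 h4
  exact (mem_normalizer_iff.1 (hJn c _ hc hζ1) d).2 h3

theorem Tor_norm_I {τ : G} {ζ : F} (hτ : h.Tor τ ζ) : τ ∈ normalizer ((IV V Z : Subgroup G) : Set G) :=
  normalizer_le_IV V Z hτ.norm_V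

include h in
/-- `rd ≤ D_Z` -/
theorem rd_le_dd_nn (hNN : NN V Z) : rd V Z ≤ dd V Z Z := by
  intro r hr
  have hV : IsCj V V := ⟨1, (cj_one V).symm⟩
  exact h.one.nn_dd hNN hV h.one.self.cj h.one.self.le h.pY.cj h.pY.le h.Yp_ne hr.1
    fun u hu => h.rd_comm h.pY h.Yp_ne hr hu

theorem D_smul (hNN : NN V Z) {u : G} (hu : u ∈ dd V Z Z) (c : F) :
    ∃ u' ∈ dd V Z Z, ∀ k ∈ kx V Z, h.fn u' k = c * h.fn u k := by
  have hV : IsCj V V := ⟨1, (cj_one V).symm⟩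
  have huW : u ∈ ws V Z := dd_le hu
  obtain ⟨w', hw', hwe⟩ := h.exists_smul c huW
  refine ⟨w', h.one.nn_dd hNN hV h.one.self.cj h.one.self.le h.pY.cj h.pY.le h.Yp_ne hw' fun a ha => ?_, hwe⟩
  have haZ : a ∈ centralizer (Z : Set G) := centralizer_le (by exact_mod_cast h.one.pl.ZV) (h.one.W_le_cent h.pY ha)
  have haN := centralizer_le_normalizer _ haZ
  have h1 : a * w' * a⁻¹ * w'⁻¹ ∈ rd V Z := by
    have haw : a * w' * a⁻¹ ∈ ws V Z := h.W_conj haN hw'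
    rw [h.mem_rd_iff ((ws V Z).mul_mem haw ((ws V Z).inv_mem hw'))]
    intro k hk
    have hk' := h.K_conj haN hk
    rw [h.fn_mul haw ((ws V Z).inv_mem hw') hk, h.fn_inv hw', h.fn_conj haZ hw' hk, hwe _ hk', hwe _ hk,
      ← h.fn_conj haZ huW hk]
    have h2 : a * u * a⁻¹ = u := by
      rw [← h.one.dd_comm h.pY h.Yp_ne hu ha, mul_inv_cancel_right]
    rw [h2, CharTwo.add_self_eq_zero]
  have h2 : w' * a * w'⁻¹ * a⁻¹ ∈ rd V Z := by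
    have := inv_mem h1
    have e : (a * w' * a⁻¹ * w'⁻¹)⁻¹ = w' * a * w'⁻¹ * a⁻¹ := by group
    rwa [e] at this
  exact h.rd_inf_I ⟨h2, h.one.comm_mem h.one.self h.pY h.Yp_ne.symm hw' ha⟩

include h in
theorem mem_I_rd {w : G} (hw : w ∈ IV V Z ⊔ rd V Z) : ∃ i ∈ IV V Z, ∃ r ∈ rd V Z, w = i * r := by
  have hn : rd V Z ≤ normalizer ((IV V Z : Subgroup G) : Set G) := by
    refine (rd_le.trans ?_ : rd V Z ≤ centralizer ((ws V Z : Subgroup G) : Set G)).trans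
      ((centralizer_le (show ((IV V Z : Subgroup G) : Set G) ⊆ ws V Z from h.one.I_le_W h.one.self)).trans
        (centralizer_le_normalizer _))
    exact h.one.pl.ws_comm h.one.self.cj
  rw [sup_comm] at hw
  obtain ⟨r, hr, i, hi, hri⟩ := mem_sup_norm hn hw
  refine ⟨i, hi, r, hr, ?_⟩
  rw [hri]
  exact h.one.comm_W h.one.self.cj (rd_le hr) (h.one.I_le_W h.one.self hi)

theorem norm_I_rd {τ : G} (h2 : τ ∈ normalizer ((IV V Z : Subgroup G) : Set G))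
    (h3 : τ ∈ normalizer ((rd V Z : Subgroup G) : Set G)) :
    τ ∈ normalizer ((IV V Z ⊔ rd V Z : Subgroup G) : Set G) := by
  rw [← cj_eq_iff] at h2 h3 ⊢
  apply le_antisymm
  · rw [cj_le_iff]
    refine sup_le ?_ ?_
    · rw [le_cj_iff, inv_inv, h2]; exact le_sup_left
    · rw [le_cj_iff, inv_inv, h3]; exact le_sup_right
  · refine sup_le ?_ ?_
    · calc IV V Z = PT.cj τ (IV V Z) := h2.symm
        _ ≤ _ := cj_le_cj.2 le_sup_left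
    · calc rd V Z = PT.cj τ (rd V Z) := h3.symm
        _ ≤ _ := cj_le_cj.2 le_sup_right

/-- **the image of `I` in `MF` is an `F`-subspace** -/
theorem I_smul [Finite F] (hN : w1 V Z Z ≤ ee V Z Z) (hNN : NN V Z) {ζ : F} (hζ0 : ζ ≠ 0) (hζ : ζ ≠ 1) {u : G}
    (hu : u ∈ IV V Z) (c : F) : ∃ u' ∈ IV V Z, ∀ k ∈ kx V Z, h.fn u' k = c * h.fn u k := by
  have huW : u ∈ ws V Z := h.one.I_le_W h.one.self hu
  obtain ⟨w, hw, hwe⟩ := h.D_smul hNN (h.one.I_le_dd h.one.self hu) c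
  have hwW : w ∈ ws V Z := dd_le hw
  obtain ⟨τ, hτ⟩ := h.exists_tor hζ0
  have hτN := hτ.norm_Z hζ0
  have hv : τ * u * τ⁻¹ * u⁻¹ ∈ V := h.one.pl.XV_act hτ.mem hu
  obtain ⟨x, y, hxy⟩ := (h.mem_V _).1 hv
  have hτu : τ * u * τ⁻¹ ∈ ws V Z := h.W_conj hτN huW
  have hτw : τ * w * τ⁻¹ ∈ ws V Z := h.W_conj hτN hwW
  set J := IV V Z ⊔ rd V Z with hJdef
  have h1 : τ * w * τ⁻¹ * w⁻¹ ∈ J := by
    have hm : τ * w * τ⁻¹ * w⁻¹ ∈ ws V Z := (ws V Z).mul_mem hτw ((ws V Z).inv_mem hwW)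
    have h2 : τ * w * τ⁻¹ * w⁻¹ * (h.e 0 (c * y))⁻¹ ∈ rd V Z := by
      rw [h.mem_rd_iff ((ws V Z).mul_mem hm ((ws V Z).inv_mem (h.W_V _ _)))]
      intro k hk
      have hk' := h.K_conj hτN hk
      rw [h.fn_mul hm ((ws V Z).inv_mem (h.W_V _ _)) hk, h.fn_inv (h.W_V _ _),
        h.fn_mul hτw ((ws V Z).inv_mem hwW) hk, h.fn_inv hwW, h.fn_tor hτ hζ0 hwW hk, hwe _ hk', hwe _ hk]
      have h3 : ζ * (c * h.fn u (τ⁻¹ * k * τ)) = c * h.fn (τ * u * τ⁻¹) k := by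
        rw [h.fn_tor hτ hζ0 huW hk]; ring
      have h4 : τ * u * τ⁻¹ = h.e x y * u := by rw [hxy]; group
      rw [h3, h4, h.fn_mul (h.W_V _ _) huW hk, h.fn_V x y hk, h.fn_V 0 (c * y) hk]
      have : c * (y * h.fn (h.e 0 1) k + h.fn u k) + c * h.fn u k + c * y * h.fn (h.e 0 1) k =
          (c * y * h.fn (h.e 0 1) k + c * y * h.fn (h.e 0 1) k) + (c * h.fn u k + c * h.fn u k) := by ring
      rw [this, CharTwo.add_self_eq_zero, CharTwo.add_self_eq_zero, add_zero]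
    have h3 : τ * w * τ⁻¹ * w⁻¹ = τ * w * τ⁻¹ * w⁻¹ * (h.e 0 (c * y))⁻¹ * h.e 0 (c * y) := by group
    rw [h3]
    exact J.mul_mem (mem_sup_right h2) (mem_sup_left (h.one.pl.V_le_IV (h.e_memV _ _)))
  have hJn : ∀ τ ζ, h.Tor τ ζ → ζ ≠ 0 → τ ∈ normalizer (J : Set G) := fun τ' ζ' hτ' hζ' =>
    norm_I_rd (h.Tor_norm_I hτ') (norm_rd V Z (hτ'.norm_Z hζ'))
  have h2 : w ∈ J := h.semi hN hNN hτ hζ0 hζ le_sup_left hJn hw h1
  obtain ⟨i, hi, r, hr, rfl⟩ := h.mem_I_rd h2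
  refine ⟨i, hi, fun k hk => ?_⟩
  rw [← hwe k hk, h.fn_mul (h.one.I_le_W h.one.self hi) (rd_le hr) hk, (h.mem_rd_iff (rd_le hr)).1 hr k hk, add_zero]

end Co

end Cfsg.Agent.Omega.NO3S.OneQ

end

-- merged: Cfsg.Agent.Mrg.Omega.NO3S.OneQ.KOneDx
section

section


/-!
# NO-3S, `OneQ`: `D_X > I` implies that all S-pairs are partial; `dim MF / Ē = 1` implies `D_X = I`

* `Co.dualN` : duality `Co.Dual` in case (N); `Co.w1_le` : `C_{W_Z}(E_Y) ≤ E_Z`;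
* `Co.partial_of` : `D_Z ≰ I`, `M` a line on `Z`, `V ≰ E_Z(M)`, `M ≰ E_Z(V)` imply `[M, W_Y] ≤ E_Z(M)`;
* `Co.lemK_of` : then `[v, v^g] ∈ Z` for `v ∈ M`, `g ∈ X_V`;
* **`Co.dd_le_of_one`** : if `MF / Ē` has dimension 1 over `F`, then `D_Z ≤ I`.
-/

set_option autoImplicit false
set_option linter.unusedSectionVars false

namespace Cfsg.Agent.Omega.NO3S.OneQ.Co

open Subgroup Cfsg Cfsg.Agent.Omega.NO3S.PT Cfsg.Agent.Omega.NoFF.Basic
open scoped Pointwise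

universe u

variable {G : Type u} [Group G] [Finite G] {F : Type*} [Field F] [CharP F 2] {S : Sylow 2 G} {B P V Z : Subgroup G}
  (h : Co F S B P V Z)

/-- duality in case (N) -/
theorem dualN [Finite F] (hN : NTr V Z) : h.Dual := by
  intro φ hφ
  obtain ⟨e, he, hee⟩ := h.dual_N h.pY h.Yp_ne (hN _ h.pY h.Yp_ne) φ fun w hw =>
    hφ _ (h.fm_Eb (w := ⟨w, ee_le hw⟩) hw)
  exact ⟨e, he, fun w => (hee w).symm⟩

include h in
theorem w1_le_ee [Finite F] (hN : NTr V Z) : w1 V Z Z ≤ ee V Z Z := by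
  intro w hw
  have hwW : w ∈ ws V Z := w1_le hw
  by_contra hne
  have h1 : h.fm ⟨w, hwW⟩ ∉ h.Eb := fun e => hne ((h.fm_Eb_iff hN (w := ⟨w, hwW⟩)).1 e)
  obtain ⟨φ, hφ, hk⟩ := Submodule.exists_le_ker_of_notMem h1
  obtain ⟨e, he, hee⟩ := h.dualN hN φ fun m hm => hk hm
  have h2 : e * w = w * e := (mem_centralizer_iff.1 ((mem_w1.1 hw).2 h.Yp h.pY h.Yp_ne) e he)
  have heK : e ∈ kx V Z := (mem_ee.1 he).2 Z h.one.self h.Yp_ne.symm
  exact hφ ((hee ⟨w, hwW⟩).symm.trans ((h.fn_eq_zero hwW heK).2 h2))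

include h in
/-- `D = I` for one line on `Z` implies it for `V` -/
theorem dd_le_of_cj {c : G} (hc : c ∈ centralizer (Z : Set G)) (hd : dd (PT.cj c V) Z Z ≤ IV (PT.cj c V) Z) :
    dd V Z Z ≤ IV V Z := by
  have hcZ : PT.cj c Z = Z := cj_eq_iff.2 (centralizer_le_normalizer _ hc)
  have h1 : PT.cj c (dd V Z Z) = dd (PT.cj c V) Z Z := by rw [cj_conj_dd, hcZ]
  have h2 : PT.cj c (IV V Z) = IV (PT.cj c V) Z := by
    rw [← PB.Geom.IV_conj h.one.pl h.one.hf, hcZ]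
  rwa [← h1, ← h2, cj_le_cj] at hd

include h in
/-- **`D_Z ≰ I`: all S-pairs are partial** -/
theorem partial_of [Finite F] (hN : NTr V Z) (hD : ¬ dd V Z Z ≤ IV V Z) {M : Subgroup G} (hM : IsCj V M) (hZM : Z ≤ M)
    (hVM : ¬ V ≤ ee M Z Z) {Y : Subgroup G} (hY : Pnt V Z Y) (hYZ : Y ≠ Z) :
    ∀ w ∈ ws V Y, ∀ v ∈ M, w * v * w⁻¹ * v⁻¹ ∈ ee M Z Z := by
  have hVV : IsCj V V := ⟨1, (cj_one V).symm⟩
  have hZ := h.one.pl.isCj_self
  have hw1 := h.w1_le_ee hN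
  obtain ⟨c, hc, rfl⟩ := h.line_eq hM hZM
  obtain ⟨T, C, Q', h'⟩ := h.one.flag hM hZ hZM
  obtain ⟨Q, hQ, hQZ⟩ := h'.exists_ne h'.self
  -- a vector of `Y` outside of `E_Z(M)`
  obtain ⟨q, hq, hqE⟩ : ∃ y ∈ Y, y ∉ ee (PT.cj c V) Z Z := by
    by_contra hcon
    push Not at hcon
    apply hVM
    intro v hv
    obtain ⟨z, hz, y, hy, rfl⟩ := h.one.pl.exists_mul h.one.self.cj h.one.self.le hY.cj hY.le hYZ.symm hv
    exact mul_mem (h.one.X_le_ee hM hZ hZM hz) (hcon y hy)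
  intro w hw v hv
  obtain ⟨z, hz, y, hy, rfl⟩ := h'.pl.exists_mul h'.self.cj h'.self.le hQ.cj hQ.le hQZ.symm hv
  have hwC : w ∈ centralizer (Z : Set G) := centralizer_le h.one.pl.ZV (h.one.W_le_cent hY hw)
  have hwz : w * z * w⁻¹ = z := by rw [(mem_centralizer_iff.1 hwC z hz).symm, mul_inv_cancel_right]
  have hyW : y ∈ ws V Z := h.one.line_le_ws hM hZM (hQ.le hy)
  have hwy : w * y * w⁻¹ ∈ ws V Z := h.W_conj (centralizer_le_normalizer _ hwC) hyW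
  have hcW : w * y * w⁻¹ * y⁻¹ ∈ ws V Z := (ws V Z).mul_mem hwy ((ws V Z).inv_mem hyW)
  have e1 : w * (z * y) * w⁻¹ * (z * y)⁻¹ = w * y * w⁻¹ * y⁻¹ := by
    calc w * (z * y) * w⁻¹ * (z * y)⁻¹ = (w * z * w⁻¹) * (w * y * w⁻¹ * y⁻¹) * z⁻¹ := by group
      _ = w * y * w⁻¹ * y⁻¹ := by
        rw [hwz, h.one.comm_W hZ (h.one.pl.Z_le_ws hz) hcW, mul_inv_cancel_right]
  rw [e1]
  by_contra hcon
  exact hD (h.dd_le_of_cj hc (h.one.n6 hM hVV hZ hZM h.one.pl.ZV hQ.cj hQ.le hQZ hY.cj hY.le hYZ hw1 hw hy hcon hq hqE))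

include h in
/-- LEMMA K for `D_Z ≰ I` -/
theorem lemK_of [Finite F] (hN : NTr V Z) (hD : ¬ dd V Z Z ≤ IV V Z) {M : Subgroup G} (hM : IsCj V M) (hZM : Z ≤ M)
    (hVM : ¬ V ≤ ee M Z Z) {g v : G} (hg : g ∈ XV V Z) (hgZ : PT.cj g Z ≠ Z) (hv : v ∈ M) :
    v * (g * v * g⁻¹) * v⁻¹ * (g * v * g⁻¹)⁻¹ ∈ Z := by
  obtain ⟨c, hc, rfl⟩ := h.line_eq hM hZM
  exact lemK_cj hN (h.dualN hN) hc hVM hg hgZ
    (h.partial_of hN hD hM hZM hVM (h.one.self.conj (h.one.pl.XV_le_N hg)) hgZ) hv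

/-- LEMMA K for `D_Z ≰ I`, in `MF` -/
theorem lemKM_of [Finite F] (hN : NTr V Z) (hD : ¬ dd V Z Z ≤ IV V Z) {c : G} (hc : c ∈ centralizer (Z : Set G))
    (hVM : ¬ V ≤ ee (PT.cj c V) Z Z) (a : F) :
    h.al (a • h.rp ⟨c, h.C_le_hat hc⟩ h.v0) (h.rp ⟨c, h.C_le_hat hc⟩ h.v0) = h.rp ⟨c, h.C_le_hat hc⟩ h.v0 := by
  by_cases ha0 : a = 0
  · rw [ha0, zero_smul, h.al_zero hN]; rfl
  have hcN := centralizer_le_normalizer _ hc
  have hcZ : PT.cj c Z = Z := cj_eq_iff.2 hcN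
  have hZM : Z ≤ PT.cj c V := by
    nth_rewrite 1 [← hcZ]
    exact cj_le_cj.2 h.one.pl.ZV
  have h3 := h.lemK_of hN hD ⟨c, rfl⟩ hZM hVM h.sw_XV (by rw [h.cj_sw]; exact h.Yp_ne) (v := c * h.e 0 a * c⁻¹)
    (conj_mem_cj (h.e_memV 0 a))
  have h4 : h.al (h.fm ⟨c * h.e 0 a * c⁻¹, h.W_conj hcN (h.W_V 0 a)⟩) (h.fm ⟨c * h.e 0 a * c⁻¹, h.W_conj hcN (h.W_V 0 a)⟩) =
      h.fm ⟨c * h.e 0 a * c⁻¹, h.W_conj hcN (h.W_V 0 a)⟩ := by
    rw [h.al_fm hN]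
    show h.rp ⟨h.sw * (c * h.e 0 a * c⁻¹) * h.sw⁻¹, _⟩ _ = _
    rw [h.rp_fm', h.fm_eq]
    have h5 := inv_mem h3
    have e : ((c * h.e 0 a * c⁻¹) * (h.sw * (c * h.e 0 a * c⁻¹) * h.sw⁻¹) * (c * h.e 0 a * c⁻¹)⁻¹ *
        (h.sw * (c * h.e 0 a * c⁻¹) * h.sw⁻¹)⁻¹)⁻¹ =
      h.sw * (c * h.e 0 a * c⁻¹) * h.sw⁻¹ * (c * h.e 0 a * c⁻¹) * (h.sw * (c * h.e 0 a * c⁻¹) * h.sw⁻¹)⁻¹ *
        (c * h.e 0 a * c⁻¹)⁻¹ := by group
    rw [e] at h5
    exact h.Z_le_rd h5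
  have hcv : h.fm ⟨c * h.e 0 a * c⁻¹, h.W_conj hcN (h.W_V 0 a)⟩ = a • h.rp ⟨c, h.C_le_hat hc⟩ h.v0 := by
    rw [← map_smul, ← h.fm_e 0 a, h.rp_fm' (h.C_le_hat hc) (h.W_V 0 a)]
  rw [hcv, map_smul] at h4
  exact smul_right_injective _ ha0 h4

include h in
/-- **`dim MF / Ē = 1` implies `D_Z ≤ I`** -/
theorem dd_le_of_one [Finite F] (hN : NTr V Z) (hone : ∀ m n : h.MF, n ∉ h.Eb → ∃ a : F, m - a • n ∈ h.Eb) :
    dd V Z Z ≤ IV V Z := by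
  by_contra hD
  have hVV : IsCj V V := ⟨1, (cj_one V).symm⟩
  have hZ := h.one.pl.isCj_self
  have hw1 := h.w1_le_ee hN
  obtain ⟨M, Q, s⟩ := h.one.exists_SP hw1 hVV hZ h.one.pl.ZV h.pY.cj h.pY.le h.Yp_ne
  have hM := s.hM
  have hZM := s.hXM
  obtain ⟨c, hc, rfl⟩ := h.line_eq hM hZM
  have hcN := centralizer_le_normalizer _ hc
  have hVM : ¬ V ≤ ee (PT.cj c V) Z Z := by
    obtain ⟨y, hy, hyE⟩ := s.s2
    exact fun e => hyE (e (h.pY.le hy))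
  have hfix := h.lemKM_of hN hD hc hVM
  set m := h.rp ⟨c, h.C_le_hat hc⟩ h.v0 with hm
  -- `m ∉ Ē`
  have hmE : m ∉ h.Eb := by
    intro hmE
    obtain ⟨q, hq, hqE⟩ := s.s1
    apply hqE
    have hqM := s.hQM hq
    rw [mem_cj] at hqM
    obtain ⟨x, y, hxy⟩ := (h.mem_V _).1 hqM
    obtain rfl : q = c * h.e x y * c⁻¹ := by rw [hxy]; group
    rw [← h.fm_Eb_iff hN (w := ⟨c * h.e x y * c⁻¹, h.W_conj hcN (h.W_V x y)⟩)]
    have hcv : h.fm ⟨c * h.e x y * c⁻¹, h.W_conj hcN (h.W_V x y)⟩ = y • m := by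
      rw [hm, ← map_smul, ← h.fm_e x y, h.rp_fm' (h.C_le_hat hc) (h.W_V x y)]
    rw [hcv]
    exact Submodule.smul_mem _ _ hmE
  apply hmE
  rw [h.mem_Eb_iff hN]
  intro x
  obtain ⟨a, ha⟩ := hone x m hmE
  have h1 : h.al x = h.al (a • m) := by
    rw [h.al_congr hN, ← h.sub_eq]
    exact ha
  rw [h1, hfix a, sub_self]
  exact zero_mem _

end Cfsg.Agent.Omega.NO3S.OneQ.Co

end

section


/-!
# NO-3S, `OneSz` (`q ≥ 4`, `n = 1`), case (N), `D_Z` arbitrary: a line in `V rd` is `V`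

* `Co.rad_dd` : for lines `L ≠ M` on `Z` with `L rd = M rd`: `I_M ≤ D_Z(L)`;
* **`Co.rad_line`** : a line `M` on `Z` with `M ≤ V rd` is `V`;
* `Co.norm_of_smul_N` : an element of `C_G(Z)` which fixes the point `F v0` of `MF` normalises `V`;
* `Co.fix_v0_N` : an element of `C_G(Z)` which fixes `v0` lies in `K_Z C_G(V)`.
-/

set_option autoImplicit false
set_option linter.unusedSectionVars false

namespace Cfsg.Agent.Omega.NO3S.OneQ

open Subgroup Cfsg Cfsg.Agent.Omega.NO3S.PT Cfsg.Agent.Omega.NoFF.Basic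
open scoped Pointwise

universe u

theorem cj_rd {G : Type u} [Group G] (V X : Subgroup G) (g : G) : PT.cj g (rd V X) = rd V (PT.cj g X) := by
  unfold rd
  rw [ws_cj, kx_cj]
  ext w
  rw [mem_cj, mem_inf, mem_inf, mem_cj, ← cj_centralizer, mem_cj]

namespace Co

variable {G : Type u} [Group G] [Finite G] {F : Type*} [Field F] [CharP F 2] {S : Sylow 2 G} {B P V Z : Subgroup G}
  (h : Co F S B P V Z)
include h

theorem nn_N (hN : NTr V Z) : NN V Z := fun _ hw =>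
  hN.mem_ee h.one h.pY h.Yp_ne hw.1 fun u hu => hw.2.2 _ h.pY u hu

theorem rd_flag {L X : Subgroup G} (hL : IsCj V L) (hX : IsCj Z X) (hXL : X ≤ L) : rd V X ⊓ IV L Z ≤ X := by
  obtain ⟨g, rfl, rfl⟩ := PB.Geom.exists_conj_flag h.one.pl hX hL hXL
  have h2 : IV (PT.cj g V) Z = PT.cj g (IV V Z) := by
    rw [← IV_of (V := PT.cj g V) hX, PB.Geom.IV_conj h.one.pl h.one.hf]
  rw [h2, ← cj_rd]
  intro w hw
  rw [mem_inf, mem_cj, mem_cj] at hw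
  rw [mem_cj]
  exact h.rd_inf_I ⟨hw.1, hw.2⟩

theorem rd_dd_flag (hN : NTr V Z) {L X : Subgroup G} (hL : IsCj V L) (hX : IsCj Z X) (hXL : X ≤ L) :
    rd V X ≤ dd L Z X := by
  obtain ⟨g, rfl, rfl⟩ := PB.Geom.exists_conj_flag h.one.pl hX hL hXL
  rw [← cj_rd, ← cj_conj_dd]
  exact cj_le_cj.2 (h.rd_le_dd hN)

/-- two lines on `Z` with a common element outside of `Z` -/
theorem line_eq_of_mem {L M : Subgroup G} (hL : IsCj V L) (hM : IsCj V M) (hZL : Z ≤ L) (hZM : Z ≤ M) {y : G}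
    (hyL : y ∈ L) (hyM : y ∈ M) (hyZ : y ∉ Z) : L = M := by
  have hZ := h.one.self.cj
  have hy1 : y ≠ 1 := fun e => hyZ (e ▸ one_mem _)
  obtain ⟨S', C', Q, h'⟩ := h.one.flag hL hZ hZL
  obtain ⟨S2, C2, Q2, h2⟩ := h.one.flag hM hZ hZM
  obtain ⟨T, hT, hTL, hyT⟩ := h'.pl.exists_point hyL hy1
  obtain ⟨T', hT', hTM, hyT'⟩ := h2.pl.exists_point hyM hy1
  obtain rfl := h.one.pl.pts_eq hT hT' hyT hyT' hy1
  exact h.one.line_eq hL hM hZ hT hZL hTL hZM hTM (fun e => hyZ (e ▸ hyT))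

/-- a second point of a line on `Z` -/
theorem exists_pt_out {L : Subgroup G} (hL : IsCj V L) (hZL : Z ≤ L) : ∃ T, IsCj Z T ∧ T ≤ L ∧ T ≠ Z := by
  obtain ⟨S', C', Q', h'⟩ := h.one.flag hL h.one.self.cj hZL
  obtain ⟨Y, hY, hne⟩ := h'.exists_ne h'.self
  exact ⟨Y, hY.cj, hY.le, hne⟩

section pair

variable {L M : Subgroup G} (hN : NTr V Z) (hL : IsCj V L) (hZL : Z ≤ L)
  (hLM : ∀ m ∈ M, ∃ l ∈ L, ∃ r ∈ rd V Z, m = l * r)
include hN hL hZL hLM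

/-- `⟨W_T | T ≤ L⟩` centralises `M` -/
theorem rad_W {T : Subgroup G} (hT : IsCj Z T) (hTL : T ≤ L) : ws V T ≤ centralizer (M : Set G) := by
  intro w hw
  rw [mem_centralizer_iff]
  intro m hm
  obtain ⟨l, hl, r, hr, rfl⟩ := hLM m hm
  have h1 : l * w = w * l := mem_centralizer_iff.1 (h.one.ws_le_line hL hT hTL hw) l hl
  have h2 : w * r = r * w :=
    h.one.dd_cent_line hL h.one.self.cj hZL hT hTL (h.rd_dd_flag hN hL h.one.self.cj hZL hr) hw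
  calc l * r * w = l * (r * w) := mul_assoc _ _ _
    _ = l * (w * r) := by rw [h2]
    _ = l * w * r := (mul_assoc _ _ _).symm
    _ = w * l * r := by rw [h1]
    _ = w * (l * r) := mul_assoc _ _ _

variable [Finite F] (hM : IsCj V M) (hZM : Z ≤ M)
include hM hZM

/-- `I_L ∩ I_M = Z` -/
theorem rad_inf (hML : ∀ l ∈ L, ∃ m ∈ M, ∃ r ∈ rd V Z, l = m * r) (hne : L ≠ M) : IV L Z ⊓ IV M Z ≤ Z := by
  have hZ := h.one.self.cj
  obtain ⟨S2, C2, Q2, h2⟩ := h.one.flag hM hZ hZM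
  have hMI : M ≤ IV M Z := h2.pl.V_le_IV
  have hML' : L ⊓ IV M Z ≤ Z := by
    rintro y ⟨hyL, hyI⟩
    by_contra hyZ
    obtain ⟨m, hm, r, hr, e⟩ := hML y hyL
    have hrI : r ∈ IV M Z := by
      have e1 : r = m⁻¹ * y := by rw [e]; group
      rw [e1]; exact (IV M Z).mul_mem ((IV M Z).inv_mem (hMI hm)) hyI
    have hrZ : r ∈ Z := h.rd_flag hM hZ hZM ⟨hr, hrI⟩
    have hyM : y ∈ M := by rw [e]; exact M.mul_mem hm (hZM hrZ)
    exact hne (h.line_eq_of_mem hL hM hZL hZM hyL hyM hyZ)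
  rintro u ⟨huL, huM⟩
  by_contra huZ
  by_cases hu : u ∈ L
  · exact huZ (hML' ⟨hu, huM⟩)
  obtain ⟨S', C', Q, h'⟩ := h.one.flag hL hZ hZL
  obtain ⟨T, hT, hTL, hTZ⟩ := h.exists_pt_out hL hZL
  obtain ⟨y, hy, hy1⟩ := h.one.pl.pt_ne_bot hT
  obtain ⟨d, hd, hdL, hdu⟩ := h'.pl.F2' h'.hf h'.hO huL hu hT hTL hy
  rw [kx_line hL] at hd
  have hdZ : d ∈ centralizer (Z : Set G) := centralizer_le hZL hdL
  have hdN := centralizer_le_normalizer _ hdZ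
  have hdM : d ∈ normalizer (M : Set G) := by
    rw [← cj_eq_iff]
    refine eq_of_le_of_card_ge ?_ (by rw [card_cj])
    intro x hx
    rw [mem_cj] at hx
    obtain ⟨l, hl, r, hr, e⟩ := hLM _ hx
    have h1 : d * r * d⁻¹ * r⁻¹ ∈ Z := by
      refine h.rd_flag hL hZ hZL ⟨(rd V Z).mul_mem ((mem_normalizer_iff.1 (norm_rd V Z hdN) r).1 hr)
        ((rd V Z).inv_mem hr), ?_⟩
      obtain ⟨M', Q', s⟩ := h.one.exists_SP (h.w1_le_ee hN) hL hT hTL hZ hZL (Ne.symm hTZ)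
      exact s.triv h.one (h.w1_le_ee hN) hd hdL (h.rd_dd_flag hN hL hZ hZL hr)
    have h3 : d * l = l * d := (mem_centralizer_iff.1 hdL l hl).symm
    have e2 : x = d * r * d⁻¹ * r⁻¹ * (d⁻¹ * x * d) := by
      have e3 : x = d * (l * r) * d⁻¹ := by rw [← e]; group
      have h4 : l * (d * r * d⁻¹ * r⁻¹) = d * r * d⁻¹ * r⁻¹ * l :=
        h.one.comm_W hZ (h.one.line_le_ws hL hZL hl) (h.one.pl.Z_le_ws h1)
      calc x = d * l * r * d⁻¹ := by rw [e3]; group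
        _ = l * (d * r * d⁻¹ * r⁻¹) * r := by rw [h3]; group
        _ = d * r * d⁻¹ * r⁻¹ * (l * r) := by rw [h4, mul_assoc]
        _ = d * r * d⁻¹ * r⁻¹ * (d⁻¹ * x * d) := by rw [e]
    rw [e2]
    exact M.mul_mem (hZM h1) hx
  have huI : d * u * d⁻¹ * u⁻¹ ∈ IV M Z :=
    (IV M Z).mul_mem ((mem_normalizer_iff.1 (normalizer_le_IV M Z hdM) u).1 huM) ((IV M Z).inv_mem huM)
  rw [hdu] at huI
  exact hTZ (h.one.pl.pts_eq hT hZ hy (hML' ⟨hTL hy, huI⟩) hy1)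

/-- `I_M ≤ D_Z(L)` -/
theorem rad_dd (hML : ∀ l ∈ L, ∃ m ∈ M, ∃ r ∈ rd V Z, l = m * r) (hne : L ≠ M) : IV M Z ≤ dd L Z Z := by
  have hZ := h.one.self.cj
  have hinf := h.rad_inf hN hL hZL hLM hM hZM hML hne
  obtain ⟨T, hT, hTL, hTZ⟩ := h.exists_pt_out hL hZL
  obtain ⟨Q, hQ, hQM, hQZ⟩ := h.exists_pt_out hM hZM
  have hIZ : IV M Z ≤ ws V Z := by rw [← h.one.IV_line hM hZ hZM hQ hQM hQZ.symm]; exact inf_le_left
  have hIQ : IV M Z ≤ ws V Q := by rw [← h.one.IV_line hM hZ hZM hQ hQM hQZ.symm]; exact inf_le_right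
  intro u hu
  refine h.one.nn_dd (h.nn_N hN) hL hZ hZL hT hTL hTZ (hIZ hu) fun w hw => hinf ⟨?_, ?_⟩
  · rw [← h.one.IV_line hL hZ hZL hT hTL hTZ.symm]
    have hwL := h.one.ws_le_line hL hT hTL hw
    have h1 : w ∈ normalizer ((ws V Z : Subgroup G) : Set G) :=
      normalizer_le_ws V Z (centralizer_le_normalizer _ (centralizer_le hZL hwL))
    have huL := h.rad_W hN hM hZM hML hQ hQM (hIQ hu)
    have h2 : u ∈ normalizer ((ws V T : Subgroup G) : Set G) :=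
      normalizer_le_ws V T (centralizer_le_normalizer _ (centralizer_le hTL huL))
    refine ⟨?_, (ws V T).mul_mem ((mem_normalizer_iff.1 h2 w).1 hw) ((ws V T).inv_mem hw)⟩
    have e : u * w * u⁻¹ * w⁻¹ = u * (w * u⁻¹ * w⁻¹) := by group
    rw [e]
    exact (ws V Z).mul_mem (hIZ hu) ((mem_normalizer_iff.1 h1 _).1 ((ws V Z).inv_mem (hIZ hu)))
  · have h1 : w ∈ normalizer ((IV M Z : Subgroup G) : Set G) :=
      normalizer_le_IV M Z (centralizer_le_normalizer _ (h.rad_W hN hL hZL hLM hT hTL hw))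
    have e : u * w * u⁻¹ * w⁻¹ = u * (w * u⁻¹ * w⁻¹) := by group
    rw [e]
    exact (IV M Z).mul_mem hu ((mem_normalizer_iff.1 h1 _).1 ((IV M Z).inv_mem hu))

end pair

/-- elements of `E_Q(M)` with given action on `w ∉ E_Z(M)` -/
theorem exists_val [Finite F] (hN : NTr V Z) {M Q : Subgroup G} (hM : IsCj V M) (hZM : Z ≤ M) (hQ : IsCj Z Q)
    (hQM : Q ≤ M) (hQZ : Q ≠ Z) {w k : G} (hw : w ∈ ws V Z) (hwE : w ∉ ee M Z Z) (hk : k ∈ kx V Z) :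
    ∃ e ∈ ws V Q, e ∈ kx V Z ∧ e * w * e⁻¹ = k * w * k⁻¹ := by
  obtain ⟨c, hc, rfl⟩ := h.line_eq hM hZM
  have hcN := centralizer_le_normalizer _ hc
  have hcZ : PT.cj c Z = Z := cj_eq_iff.2 hcN
  have h1 : h.fm ⟨w, hw⟩ ∉ (h.Eb).map (h.rp ⟨c, h.C_le_hat hc⟩) := fun e => hwE ((h.fm_Ec_iff hN hc hw).1 e)
  obtain ⟨φ, hφ, hφk⟩ := Submodule.exists_le_ker_of_notMem h1
  obtain ⟨e, -, he, heK, hee⟩ := dual_line (h.dualN hN) hc ((h.fn w k * (φ (h.fm ⟨w, hw⟩))⁻¹) • φ) fun m hm => by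
    rw [LinearMap.smul_apply, show φ (h.rp ⟨c, h.C_le_hat hc⟩ m) = 0 from hφk ⟨m, hm, rfl⟩, smul_zero]
  have h2 := hee ⟨w, hw⟩
  rw [LinearMap.smul_apply, smul_eq_mul, inv_mul_cancel_right₀ hφ] at h2
  -- move the point
  have hQ0 : PT.cj c h.Yp ≠ Z := fun e1 => h.Yp_ne (cj_inj.1 (e1.trans hcZ.symm))
  obtain ⟨S', C', R', h'⟩ := h.one.flag hM h.one.self.cj hZM
  obtain ⟨t, ht, htQ⟩ := h'.move h'.self ⟨h.pY.cj.cj c, cj_le_cj.2 h.pY.le⟩ ⟨hQ, hQM⟩ hQ0 hQZ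
  rw [kx_line hM] at ht
  have hti : t⁻¹ ∈ kx V Z := inv_mem ht
  have hte : t * e * t⁻¹ ∈ kx V Z := (kx V Z).mul_mem ((kx V Z).mul_mem ht heK) hti
  refine ⟨t * e * t⁻¹, ?_, hte, ?_⟩
  · have h3 := conj_mem_cj (g := t) he
    rwa [← ws_cj, htQ] at h3
  · have h3 : h.fn w (t * e * t⁻¹) = h.fn w k := by
      have h4 : h.fn w (t * t⁻¹) = 0 := by rw [mul_inv_cancel]; exact h.fn_one' hw
      rw [h.fn_mul' hw ht hti] at h4
      rw [h.fn_mul' hw ((kx V Z).mul_mem ht heK) hti, h.fn_mul' hw ht heK, h2, add_right_comm, h4, zero_add]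
    have h5 := h.e_fn hw hte
    have h6 := h.e_fn hw hk
    rw [h3, h6] at h5
    exact (mul_right_cancel h5).symm

/-- comparison of `[d, e]` and `[d, e₁]` -/
theorem rad_key [Finite F] (hN : NTr V Z) {K L Q R : Subgroup G} (s : SP V Z K L Z Q R) {d e e₁ p : G} (hd : d ∈ rd V Q)
    (he : e ∈ kx V Z) (he₁ : e₁ ∈ kx V Z) (hp : p ∈ Q) (hp1 : p ≠ 1) (hep : e₁ * p * e₁⁻¹ = e * p * e⁻¹) :
    ∃ p' ∈ PT.cj e Q, d * e₁ * d⁻¹ * e₁⁻¹ = d * e * d⁻¹ * e⁻¹ * p' := by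
  set k := e⁻¹ * e₁ with hk
  have hkK : k ∈ kx V Z := (kx V Z).mul_mem ((kx V Z).inv_mem he) he₁
  have hkp : k * p = p * k := by
    have e1 : k * p * k⁻¹ = e⁻¹ * (e₁ * p * e₁⁻¹) * e := by rw [hk]; group
    rw [hep] at e1
    have e2 : e⁻¹ * (e * p * e⁻¹) * e = p := by group
    rw [e2] at e1
    exact mul_inv_eq_iff_eq_mul.1 e1
  have hkC : k ∈ centralizer (K : Set G) :=
    h.one.lin_fix s.hL s.hX s.hXL s.hY s.hYL s.hYX.symm (kx_le_cent hkK) hp hp1 hkp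
  have hkQ : k ∈ normalizer ((rd V Q : Subgroup G) : Set G) :=
    norm_rd V Q (centralizer_le_normalizer _ (centralizer_le s.hYL hkC))
  have hdD : d ∈ dd K Z Q := h.rd_dd_flag hN s.hL s.hY s.hYL hd
  have h1 : k * d * k⁻¹ * d⁻¹ ∈ Q :=
    h.rd_flag s.hL s.hY s.hYL ⟨(rd V Q).mul_mem ((mem_normalizer_iff.1 hkQ d).1 hd) ((rd V Q).inv_mem hd),
      s.triv h.one (h.w1_le_ee hN) hkK hkC hdD⟩
  refine ⟨e * (k * d * k⁻¹ * d⁻¹)⁻¹ * e⁻¹, conj_mem_cj (Q.inv_mem h1), ?_⟩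
  have e3 : e₁ = e * k := by rw [hk]; group
  have e4 : d * (e * k) * d⁻¹ * (e * k)⁻¹ = d * e * d⁻¹ * (d * k * d⁻¹ * k⁻¹) * e⁻¹ := by group
  rw [e3, e4]
  group

theorem rad_end {K Q : Subgroup G} (hK : IsCj V K) (hZK : Z ≤ K) (hQ : IsCj Z Q) (hQK : Q ≤ K)
    {d e : G} (hd : d ∈ rd V Q) (he : e ∈ kx V Z) (heQ : PT.cj e Q ≠ Q)
    (hD : d * e * d⁻¹ * e⁻¹ ∈ ws V (PT.cj e Q)) : d ∈ Q := by
  have hK1 : PT.cj e K = K := cj_eq_iff.2 (h.one.K_norm_line hK h.one.self.cj hZK he)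
  have hQK' : PT.cj e Q ≤ K := by
    have := cj_le_cj (g := e) |>.2 hQK
    rwa [hK1] at this
  have h1 : e * d⁻¹ * e⁻¹ ∈ ws V (PT.cj e Q) := by
    rw [ws_cj]
    exact conj_mem_cj ((ws V Q).inv_mem (rd_le hd))
  have h2 : d ∈ ws V (PT.cj e Q) := by
    have e1 : d = d * e * d⁻¹ * e⁻¹ * (e * d⁻¹ * e⁻¹)⁻¹ := by group
    rw [e1]
    exact (ws V _).mul_mem hD ((ws V _).inv_mem h1)
  exact h.rd_flag hK hQ hQK ⟨hd, by rw [← h.one.IV_line hK hQ hQK (hQ.cj e) hQK' heQ.symm]; exact ⟨rd_le hd, h2⟩⟩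

/-- **a line in `V rd` is `V`** -/
theorem rad_line [Finite F] (hN : NTr V Z) {M : Subgroup G} (hM : IsCj V M) (hZM : Z ≤ M)
    (hMV : ∀ m ∈ M, ∃ v ∈ V, ∃ r ∈ rd V Z, m = v * r) (hVM : ∀ v ∈ V, ∃ m ∈ M, ∃ r ∈ rd V Z, v = m * r) : M = V := by
  by_contra hne
  have hZ := h.one.self.cj
  have hV : IsCj V V := ⟨1, (cj_one V).symm⟩
  have hZV := h.one.pl.ZV
  have hw1 := h.w1_le_ee hN
  obtain ⟨K, Q, s⟩ := h.one.exists_SP hw1 hV hZ hZV h.pY.cj h.pY.le h.Yp_ne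
  have hZK := s.hXM
  have hK := s.hM
  have hQ := s.hQ
  have hQK := s.hQM
  have hQZ := s.hQX
  obtain ⟨T, hT, hTM, hTZ⟩ := h.exists_pt_out hM hZM
  -- `e ∈ E_Y(V)` moves `Q`
  obtain ⟨e, he, heK, heQ⟩ := s.symm.exists_e h.one hw1
  have hK1 : PT.cj e K = K := cj_eq_iff.2 (h.one.K_norm_line hK hZ hZK heK)
  have hQe : PT.cj e Q ≤ K := by
    have := cj_le_cj (g := e) |>.2 hQK
    rwa [hK1] at this
  have hQeZ : PT.cj e Q ≠ Z := by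
    intro e1
    have e2 : PT.cj e Z = Z := cj_eq_iff.2 (centralizer_le_normalizer _ (kx_le_cent heK))
    exact hQZ (cj_inj.1 (e1.trans e2.symm))
  -- `d ∈ rd_Q - Q`
  obtain ⟨d, hd, hdQ⟩ : ∃ d ∈ rd V Q, d ∉ Q := by
    by_contra hcon
    push Not at hcon
    obtain ⟨g, rfl⟩ := hQ
    rw [← cj_rd] at hcon
    have hr : rd V Z ≤ Z := cj_le_cj.1 hcon
    apply hne
    refine eq_of_le_of_card_ge (fun m hm => ?_) ?_
    · obtain ⟨v, hv, r, hr', rfl⟩ := hMV m hm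
      exact V.mul_mem hv (hZV (hr hr'))
    · obtain ⟨x, rfl⟩ := hM
      rw [card_cj]
  have hdD : d ∈ dd K Z Q := h.rd_dd_flag hN hK hQ hQK hd
  set D := d * e * d⁻¹ * e⁻¹ with hDdef
  have hDV : D ∈ IV V Z := s.symm.comm h.one hw1 he heK hdD
  have hDK : D ∈ dd K Z Z := s.symm.comm' h.one hw1 he heK hdD
  have hfin : D ∉ ws V (PT.cj e Q) := fun e1 => hdQ (h.rad_end hK hZK hQ hQK hd heK heQ e1)
  -- `M ≰ E_Z(K)`
  have hTE : ∃ t ∈ T, t ∉ ee K Z Z := by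
    obtain ⟨y, hy, hyE⟩ := s.s2
    obtain ⟨m, hm, r, hr, e1⟩ := hVM y (h.pY.le hy)
    have hrE : r ∈ ee K Z Z := by
      have h1 := h.rd_dd_flag hN hK hZ hZK hr
      obtain ⟨S', C', Q', h'⟩ := h.one.flag hK hZ hZK
      exact h'.dd_le_ee h'.self h1
    have hmE : m ∉ ee K Z Z := fun e2 => hyE (by rw [e1]; exact (ee K Z Z).mul_mem e2 hrE)
    obtain ⟨z, hz, t, ht, e3⟩ := h.one.line_mul hM hZ hZM hT hTM hTZ.symm hm
    exact ⟨t, ht, fun e2 => hmE (by rw [e3]; exact (ee K Z Z).mul_mem (h.one.X_le_ee hK hZ hZK hz) e2)⟩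
  have hIM : IV V Z ≤ dd M Z Z := h.rad_dd hN hM hZM hVM hV hZV hMV hne
  by_cases hs : ∃ q ∈ Q, q ∉ ee M Z Z
  · -- `(K, M)` is an S-pair
    obtain ⟨q, hq, hqE⟩ := hs
    have hq1 : q ≠ 1 := fun e1 => hqE (e1 ▸ one_mem _)
    have s' : SP V Z K M Z Q T := ⟨hK, hM, hZ, hZK, hZM, hQ, hQK, hQZ, hT, hTM, hTZ, hTE, ⟨q, hq, hqE⟩⟩
    obtain ⟨e₁, he₁, he₁K, hee⟩ := h.exists_val hN hM hZM hT hTM hTZ (h.one.line_le_ws hK hZK (hQK hq)) hqE heK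
    obtain ⟨p', hp', hD1⟩ := h.rad_key hN s' hd heK he₁K hq hq1 hee
    rw [← hDdef] at hD1
    have hD1M : d * e₁ * d⁻¹ * e₁⁻¹ ∈ IV M Z := s'.comm h.one hw1 he₁ he₁K hdD
    have hMV' : IV M Z ≤ dd V Z Z := h.rad_dd hN hV hZV hMV hM hZM hVM (Ne.symm hne)
    have hp'D : p' ∈ dd V Z Z := by
      have e1 : p' = D⁻¹ * (d * e₁ * d⁻¹ * e₁⁻¹) := by rw [hD1]; group
      rw [e1]
      exact (dd V Z Z).mul_mem ((dd V Z Z).inv_mem (h.one.I_le_dd h.one.self hDV)) (hMV' hD1M)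
    have hp'1 : p' = 1 := by
      by_contra hp'1
      have h1 := h.one.le_ee_of hw1 hV hK hZ hZV hZK h.pY.cj h.pY.le h.Yp_ne (hQ.cj e) hQe hQeZ hp' hp'1
        (h.one.dd_le_ee h.one.self hp'D)
      obtain ⟨q', hq', hq'E⟩ := s.s1
      exact hq'E (h1 (hQK hq'))
    rw [hp'1, mul_one] at hD1
    have hDZ : D ∈ Z := h.rad_inf hN hV hZV hMV hM hZM hVM (Ne.symm hne) ⟨hDV, by rw [← hD1]; exact hD1M⟩
    refine hfin ?_
    have h2 := h.one.line_le_ws hK hQe (hZK hDZ)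
    exact h2
  · push Not at hs
    obtain ⟨t, ht, htE⟩ := hTE
    obtain ⟨y, hy, b, hb, hby⟩ := h.one.asym hw1 hK hM hZ hZK hZM hQ hQK hQZ hT hTM hTZ ht htE
    have hc : y * b * y⁻¹ * b⁻¹ ∈ T := h.one.ee_line_act hM hZ hZM hT hTM hTZ (hs y hy) hb
    have hbM := h.one.ws_le_line hM hT hTM hb
    have hbZ : PT.cj b Z = Z := by
      rw [cj_eq_iff]
      exact centralizer_le_normalizer _ (centralizer_le hZM hbM)
    have hbi : b⁻¹ = b := h.one.W_inv hT hb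
    have hyE : y ∈ ee K Z Z := by
      obtain ⟨S', C', R, h'⟩ := h.one.flag hK hZ hZK
      have h1 := (h'.pl.V_le_IV.trans (h'.I_le_dd h'.self)).trans (h'.dd_le_ee h'.self)
      exact h1 (hQK hy)
    have hMnot : ¬ M ≤ ee K Z Z := fun e1 => htE (e1 (hTM ht))
    have key : b * y * b⁻¹ ∉ ee K Z Z := by
      intro e1
      have h1 : y * b * y⁻¹ * b⁻¹ ∈ ee K Z Z := by
        have h2 : y * b * y⁻¹ * b⁻¹ = y * (b * y * b⁻¹)⁻¹ := by group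
        rw [h2]
        exact (ee K Z Z).mul_mem hyE ((ee K Z Z).inv_mem e1)
      have h3 : y * b * y⁻¹ * b⁻¹ ≠ 1 := by
        intro e1
        rw [mul_inv_eq_one, mul_inv_eq_iff_eq_mul] at e1
        exact hby e1.symm
      exact hMnot (h.one.le_ee_of hw1 hK hM hZ hZK hZM hQ hQK hQZ hT hTM hTZ hc h3 h1)
    have hyK1 : y ∉ ee (PT.cj b K) Z Z := by
      intro e1
      apply key
      have h2 : y ∈ PT.cj b (ee K Z Z) := by
        rw [cj_conj_ee, hbZ]; exact e1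
      have h3 := mem_cj.1 h2
      rwa [hbi] at h3 ⊢
    have hZK1 : Z ≤ PT.cj b K := by
      nth_rewrite 1 [← hbZ]
      exact cj_le_cj.2 hZK
    have hQ1Z : PT.cj b Q ≠ Z := fun e1 => hQZ (cj_inj.1 (e1.trans hbZ.symm))
    have s' : SP V Z K (PT.cj b K) Z Q (PT.cj b Q) :=
      ⟨hK, hK.cj b, hZ, hZK, hZK1, hQ, hQK, hQZ, hQ.cj b, cj_le_cj.2 hQK, hQ1Z, ⟨b * y * b⁻¹, conj_mem_cj hy, key⟩,
        ⟨y, hy, hyK1⟩⟩
    have hy1 : y ≠ 1 := fun e1 => hyK1 (e1 ▸ one_mem _)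
    obtain ⟨e₁, he₁, he₁K, hee⟩ := h.exists_val hN (hK.cj b) hZK1 (hQ.cj b) (cj_le_cj.2 hQK) hQ1Z
      (h.one.line_le_ws hK hZK (hQK hy)) hyK1 heK
    obtain ⟨p', hp', hD1⟩ := h.rad_key hN s' hd heK he₁K hy hy1 hee
    rw [← hDdef] at hD1
    have hD1M : d * e₁ * d⁻¹ * e₁⁻¹ ∈ IV (PT.cj b K) Z := s'.comm h.one hw1 he₁ he₁K hdD
    -- `b` centralises `D`
    have hbD : b * D = D * b := h.one.dd_cent_line hM hZ hZM hT hTM (hIM hDV) hb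
    have hD1K : b⁻¹ * (d * e₁ * d⁻¹ * e₁⁻¹) * b ∈ IV K Z := by
      have h1 : IV (PT.cj b K) Z = PT.cj b (IV K Z) := by
        obtain ⟨S', C', R, h'⟩ := h.one.flag hK hZ hZK
        rw [← PB.Geom.IV_conj h'.pl h'.hf, hbZ]
      rw [h1, mem_cj] at hD1M
      exact hD1M
    have e5 : b⁻¹ * (d * e₁ * d⁻¹ * e₁⁻¹) * b = D * (b⁻¹ * p' * b) := by
      rw [hD1]
      have e6 : b⁻¹ * (D * p') * b = b⁻¹ * D * p' * b := by group
      have e7 : b⁻¹ * D = D * b⁻¹ := by rw [hbi]; exact hbD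
      rw [e6, e7]; group
    rw [e5] at hD1K
    have hIKD : IV K Z ≤ dd K Z Z := h.one.I_le_dd_line hK hZ hZK
    have hp'D : b⁻¹ * p' * b ∈ dd K Z Z := by
      have e1 : b⁻¹ * p' * b = D⁻¹ * (D * (b⁻¹ * p' * b)) := by group
      rw [e1]
      exact (dd K Z Z).mul_mem ((dd K Z Z).inv_mem hDK) (hIKD hD1K)
    have hp'1 : b⁻¹ * p' * b = 1 := by
      by_contra hp'1
      have h1 : b⁻¹ * p' * b ∈ PT.cj b (PT.cj e Q) := by
        rw [mem_cj]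
        have e1 : b⁻¹ * (b⁻¹ * p' * b) * b = p' := by
          have e2 : b * b = 1 := by
            have := inv_mul_cancel b
            rwa [hbi] at this
          rw [hbi]
          calc b * (b * p' * b) * b = b * b * p' * (b * b) := by group
            _ = p' := by rw [e2]; group
        rw [e1]; exact hp'
      have hneZ : PT.cj b (PT.cj e Q) ≠ Z := fun e1 => hQeZ (cj_inj.1 (e1.trans hbZ.symm))
      have hddE : dd K Z Z ≤ ee K Z Z := by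
        obtain ⟨S', C', R, h'⟩ := h.one.flag hK hZ hZK
        exact h'.dd_le_ee h'.self
      have h2 := h.one.le_ee_of hw1 hK (hK.cj b) hZ hZK hZK1 hQ hQK hQZ ((hQ.cj e).cj b) (cj_le_cj.2 hQe) hneZ h1 hp'1
        (hddE hp'D)
      exact key (h2 (cj_le_cj.2 hQK (conj_mem_cj hy)))
    rw [hp'1, mul_one] at hD1K
    refine hfin ?_
    have h2 := h.one.IV_line hK hQ hQK (hQ.cj e) hQe heQ.symm
    rw [← h2] at hD1K
    exact hD1K.2

/-- an element of `C_G(Z)` which fixes the point `F v0` normalises `V` -/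
theorem norm_of_smul_N [Finite F] (hN : NTr V Z) {g : G} (hg : g ∈ centralizer (Z : Set G)) {c : F}
    (h1 : h.rp ⟨g, h.C_le_hat hg⟩ h.v0 = c • h.v0) : g ∈ normalizer (V : Set G) := by
  have hgN := centralizer_le_normalizer _ hg
  have hgZ : PT.cj g Z = Z := cj_eq_iff.2 hgN
  have hV : IsCj V V := ⟨1, (cj_one V).symm⟩
  have hc : c ≠ 0 := by
    rintro rfl
    rw [zero_smul] at h1
    have h2 : h.rp ⟨g⁻¹, inv_mem (h.C_le_hat hg)⟩ (h.rp ⟨g, h.C_le_hat hg⟩ h.v0) = h.v0 := by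
      rw [← Module.End.mul_apply, ← map_mul]
      have e : (⟨g⁻¹, inv_mem (h.C_le_hat hg)⟩ : h.hat) * ⟨g, h.C_le_hat hg⟩ = 1 := Subtype.ext (inv_mul_cancel g)
      rw [e, map_one]; rfl
    rw [h1, map_zero] at h2
    exact h.v0_ne h2.symm
  -- `g e(0,y) g⁻¹ ∈ e(0, y c) rd`
  have hact : ∀ y, g * h.e 0 y * g⁻¹ * (h.e 0 (y * c))⁻¹ ∈ rd V Z := by
    intro y
    have e : h.rp ⟨g, h.C_le_hat hg⟩ (h.fm ⟨h.e 0 y, h.W_V 0 y⟩) = _ := h.rp_fm' (h.C_le_hat hg) (h.W_V 0 y)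
    have e2 : h.rp ⟨g, h.C_le_hat hg⟩ (h.fm ⟨h.e 0 y, h.W_V 0 y⟩) = h.fm ⟨h.e 0 (y * c), h.W_V 0 (y * c)⟩ := by
      rw [h.fm_e, map_smul, h1, h.fm_e, smul_smul]
    rw [e, h.fm_eq] at e2
    exact e2
  have hZg : ∀ x, g * h.e x 0 * g⁻¹ = h.e x 0 := fun x => by
    rw [(mem_centralizer_iff.1 hg _ (h.e_memZ x)).symm, mul_inv_cancel_right]
  have hcom : ∀ {v r : G}, v ∈ V → r ∈ rd V Z → v * r = r * v := fun hv hr =>
    h.one.comm_W h.one.self.cj (h.one.V_le_W h.one.self hv) (rd_le hr)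
  have hMV : ∀ m ∈ PT.cj g V, ∃ v ∈ V, ∃ r ∈ rd V Z, m = v * r := by
    intro m hm
    rw [mem_cj] at hm
    obtain ⟨x, y, hxy⟩ := (h.mem_V _).1 hm
    refine ⟨h.e x (y * c), h.e_memV _ _, g * h.e 0 y * g⁻¹ * (h.e 0 (y * c))⁻¹, hact y, ?_⟩
    have e0 : m = g * h.e x y * g⁻¹ := by rw [hxy]; group
    have e1 : h.e x y = h.e x 0 * h.e 0 y := by rw [← h.e_add, add_zero, zero_add]
    have e2 : h.e x (y * c) = h.e x 0 * h.e 0 (y * c) := by rw [← h.e_add, add_zero, zero_add]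
    have e3 := hcom (h.e_memV 0 (y * c)) (hact y)
    calc m = g * h.e x 0 * g⁻¹ * (g * h.e 0 y * g⁻¹) := by rw [e0, e1]; group
      _ = h.e x 0 * (g * h.e 0 y * g⁻¹ * (h.e 0 (y * c))⁻¹ * h.e 0 (y * c)) := by rw [hZg]; group
      _ = h.e x 0 * (h.e 0 (y * c) * (g * h.e 0 y * g⁻¹ * (h.e 0 (y * c))⁻¹)) := by rw [e3]
      _ = h.e x (y * c) * (g * h.e 0 y * g⁻¹ * (h.e 0 (y * c))⁻¹) := by rw [e2]; group
  have hVM : ∀ v ∈ V, ∃ m ∈ PT.cj g V, ∃ r ∈ rd V Z, v = m * r := by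
    intro v hv
    obtain ⟨x, y, rfl⟩ := (h.mem_V _).1 hv
    have h2 := hact (y * c⁻¹)
    rw [inv_mul_cancel_right₀ hc] at h2
    refine ⟨g * h.e x (y * c⁻¹) * g⁻¹, conj_mem_cj (h.e_memV _ _), _, (rd V Z).inv_mem h2, ?_⟩
    have e1 : h.e x (y * c⁻¹) = h.e x 0 * h.e 0 (y * c⁻¹) := by rw [← h.e_add, add_zero, zero_add]
    have e2 : h.e x y = h.e x 0 * h.e 0 y := by rw [← h.e_add, add_zero, zero_add]
    have e3 : g * h.e x (y * c⁻¹) * g⁻¹ = g * h.e x 0 * g⁻¹ * (g * h.e 0 (y * c⁻¹) * g⁻¹) := by rw [e1]; group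
    have e4 := hcom (h.e_memV 0 y) h2
    obtain ⟨r, hr⟩ : ∃ r, r = g * h.e 0 (y * c⁻¹) * g⁻¹ * (h.e 0 y)⁻¹ := ⟨_, rfl⟩
    have e5 : g * h.e 0 (y * c⁻¹) * g⁻¹ = r * h.e 0 y := by rw [hr]; group
    rw [← hr] at e4 ⊢
    rw [e3, hZg, e2, e5]
    calc h.e x 0 * h.e 0 y = h.e x 0 * (h.e 0 y * r) * r⁻¹ := by group
      _ = h.e x 0 * (r * h.e 0 y) * r⁻¹ := by rw [e4]
  rw [← cj_eq_iff]
  refine h.rad_line hN ⟨g, rfl⟩ ?_ hMV hVM
  nth_rewrite 1 [← hgZ]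
  exact cj_le_cj.2 h.one.pl.ZV

/-- an element of `C_G(Z)` fixing the line vector lies in `K_Z C_G(V)` -/
theorem fix_v0_N [Finite F] (hN : NTr V Z) {d : G} (hd : d ∈ centralizer (Z : Set G))
    (hd0 : h.rp ⟨d, h.C_le_hat hd⟩ h.v0 = h.v0) : ∃ k ∈ kx V Z, k⁻¹ * d ∈ centralizer (V : Set G) := by
  have hdV : d ∈ normalizer (V : Set G) := h.norm_of_smul_N hN hd (c := 1) (by rw [hd0, one_smul])
  have h1 : d * h.e 0 1 * d⁻¹ * (h.e 0 1)⁻¹ ∈ Z := by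
    have e : h.rp ⟨d, h.C_le_hat hd⟩ (h.fm ⟨h.e 0 1, h.W_V 0 1⟩) = _ := h.rp_fm' (h.C_le_hat hd) (h.W_V 0 1)
    have e2 : h.rp ⟨d, h.C_le_hat hd⟩ (h.fm ⟨h.e 0 1, h.W_V 0 1⟩) = h.fm ⟨h.e 0 1, h.W_V 0 1⟩ := by
      rw [h.fm_e, map_smul, hd0]
    rw [e, h.fm_eq] at e2
    exact h.rd_inf_I ⟨e2, h.one.pl.V_le_IV
      (V.mul_mem ((mem_normalizer_iff.1 hdV _).1 (h.e_memV 0 1)) (V.inv_mem (h.e_memV 0 1)))⟩
  obtain ⟨t, ht⟩ := (h.mem_Z _).1 h1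
  obtain ⟨k, hk, -, hkt⟩ := h.exists_K t
  refine ⟨k, hk, ?_⟩
  have hkC : k ∈ centralizer (Z : Set G) := kx_le_cent hk
  have hfC : k⁻¹ * d ∈ centralizer (Z : Set G) := mul_mem (inv_mem hkC) hd
  have e1 : d * h.e 0 1 * d⁻¹ = k * h.e 0 1 * k⁻¹ := by
    rw [hkt, zero_add, mul_one]
    have e2 : d * h.e 0 1 * d⁻¹ = h.e t 0 * h.e 0 1 := by rw [ht]; group
    rw [e2, ← h.e_add, add_zero, zero_add]
  refine h.one.lin_base (v := h.e 0 1) (fun x hx => (mem_centralizer_iff.1 hfC x hx).symm) (h.e_memV 0 1) ?_ ?_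
  · rw [h.e_memZ_iff]
    exact one_ne_zero
  · calc k⁻¹ * d * h.e 0 1 = k⁻¹ * (d * h.e 0 1 * d⁻¹) * d := by group
      _ = k⁻¹ * (k * h.e 0 1 * k⁻¹) * d := by rw [e1]
      _ = h.e 0 1 * (k⁻¹ * d) := by group

end Co

end Cfsg.Agent.Omega.NO3S.OneQ

end

section


/-!
# NO-3S, `OneSz` (`q ≥ 4`, `n = 1`), case (N): KAPPA in the module `MF` (bb OMEGA #20317 (F))

`m = c v₀`, `c ∈ C_G(Z)`, a line vector; `dual` : exact duality.

* `Co.K_one_act` : the action of `k ∈ K_Z` with `fn (e 0 1) k = 1`;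
* **`Co.kapM`** : `f` kills `Ē_m`, `f v₀ = 1`, `f (α(y) m) = 0` ==> some `u ∈ I ∩ I_m` is `α(y) y - y` modulo `λ`;
* `Co.kap_alpha` : if moreover `D_Z ≤ I` and `α(y) y - y ∉ λ`, then `α(a m) m = m` (ALPHA);
* **`Co.kap`** : the same for every `D_Z` (LEMMA K if `D_Z ≰ I`);
* **`Co.exists_SPM`** : S-pairs exist: `v₀ ∉ c Ē`, `c v₀ ∉ Ē` for some `c ∈ C_G(Z)`.
-/

set_option autoImplicit false
set_option linter.unusedSectionVars false

namespace Cfsg.Agent.Omega.NO3S.OneQ.Co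

open Subgroup Cfsg Cfsg.Agent.Omega.NO3S.PT Cfsg.Agent.Omega.NoFF.Basic
open scoped Pointwise

universe u

variable {G : Type u} [Group G] [Finite G] {F : Type*} [Field F] [CharP F 2] {S : Sylow 2 G} {B P V Z : Subgroup G}
  (h : Co F S B P V Z)

/-- the action of `k ∈ K_Z` with `fn (e 0 1) k = 1` -/
theorem K_one_act {k : G} (hk : k ∈ kx V Z) (h1 : h.fn (h.e 0 1) k = 1) (x y : F) :
    k * h.e x y * k⁻¹ = h.e (x + y) y := by
  obtain ⟨t, ht⟩ := h.K_tv hk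
  have h2 := h.e_fn (h.W_V 0 1) hk
  rw [h1, ht, h.e_inv, ← h.e_add] at h2
  have h3 := (h.e_inj h2).1
  rw [zero_add, mul_one, add_zero] at h3
  rw [ht, ← h3, one_mul]

/-- **KAPPA** -/
theorem kapM (hN : NTr V Z) (dual : h.Dual) {c : G} (hc : c ∈ centralizer (Z : Set G)) (f : h.MF →ₗ[F] F)
    (hf : ∀ m ∈ h.Eb, f (h.rp ⟨c, h.C_le_hat hc⟩ m) = 0) (hf1 : f h.v0 = 1) (y : h.MF)
    (hy : f (h.al y (h.rp ⟨c, h.C_le_hat hc⟩ h.v0)) = 0) :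
    ∃ u, ∃ hu : u ∈ IV V Z, u ∈ IV (PT.cj c V) Z ∧ h.fm ⟨u, h.one.I_le_W' hu⟩ + (h.al y y - y) ∈ h.lam := by
  have hVV : IsCj V V := ⟨1, (cj_one V).symm⟩
  have hZ := h.one.pl.isCj_self
  have hcN := centralizer_le_normalizer _ hc
  have hcZ : PT.cj c Z = Z := cj_eq_iff.2 hcN
  have hZM : Z ≤ PT.cj c V := by
    nth_rewrite 1 [← hcZ]
    exact cj_le_cj.2 h.one.pl.ZV
  obtain ⟨e, -, he, heK, hee⟩ := dual_line dual hc f hf
  obtain ⟨w₀, rfl⟩ := h.fm_surj y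
  obtain ⟨w, hwd⟩ : ∃ w, w = h.sw * w₀ * h.sw⁻¹ := ⟨_, rfl⟩
  have hwY : w ∈ ws V h.Yp := by rw [hwd]; exact h.sw_W w₀.2
  have hwh : w ∈ h.hat := h.W_hat h.pY hwY
  have hal : h.al (h.fm w₀) = h.rp ⟨w, hwh⟩ := by
    rw [h.al_fm hN, ag]
    congr 1
    exact Subtype.ext hwd.symm
  have hact := h.K_one_act heK (by rw [hee ⟨_, h.W_V 0 1⟩]; exact hf1)
  have heY : PT.cj e h.Yp ≠ h.Yp := by
    intro hcon
    have h1 : e * h.e 0 1 * e⁻¹ ∈ PT.cj e h.Yp := conj_mem_cj (h.e_memY 1)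
    rw [hcon, hact] at h1
    obtain ⟨b, hb⟩ := h1
    have h2 := (h.e_inj hb).1
    rw [zero_add] at h2
    exact zero_ne_one h2
  have hge : ∀ z ∈ Z, e * (h.sw * z * h.sw⁻¹) * e⁻¹ = z * (h.sw * z * h.sw⁻¹) := by
    intro z hz
    obtain ⟨x, rfl⟩ := (h.mem_Z z).1 hz
    rw [h.sw_act, hact, ← h.e_add, add_zero]
    congr 1 <;> rw [zero_add]
  have hQZ : PT.cj c h.Yp ≠ Z := fun e1 => h.Yp_ne (cj_inj.1 (e1.trans hcZ.symm))
  have hkap := h.one.kappa hVV ⟨c, rfl⟩ hZ h.one.pl.ZV hZM h.pY.cj h.pY.le h.Yp_ne (h.pY.cj.cj c)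
    (cj_le_cj.2 h.pY.le) hQZ hwY he heK heY (fun q hq => by
      rw [mem_cj] at hq
      obtain ⟨b, hb⟩ := hq
      have hqe : q = c * h.e 0 b * c⁻¹ := by rw [hb]; group
      have hqW : q ∈ ws V Z := by rw [hqe]; exact h.W_conj hcN (h.W_V 0 b)
      have hwq : w * q * w⁻¹ ∈ ws V Z := h.W_conj (h.hat_norm hwh) hqW
      rw [← h.fn_eq_zero hwq heK, hee ⟨_, hwq⟩, ← h.rp_fm' hwh hqW]
      have h2 : h.fm ⟨q, hqW⟩ = b • h.rp ⟨c, h.C_le_hat hc⟩ h.v0 := by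
        rw [← map_smul, ← h.fm_e 0 b, h.rp_fm' (h.C_le_hat hc) (h.W_V 0 b)]
        exact congrArg h.fm (Subtype.ext hqe)
      rw [h2, map_smul, map_smul, ← hal, hy, smul_zero])
  obtain ⟨huV, huM, -⟩ := hkap
  have hmod := h.kap_mod h.sw_XV (by rw [h.cj_sw]; exact h.Yp_ne) heK hge (by rw [h.cj_sw]; exact heY) w₀.2
  rw [← hwd] at hmod
  refine ⟨_, huV, huM, ?_⟩
  obtain ⟨u', hu', hu'e, e'⟩ := h.rp_W h.pY h.Yp_ne hwY w₀
  rw [hal, e', ← h.fm_mul]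
  have hI := mul_mem huV hu'
  refine (h.fm_mem_lam_I hI).2 ?_
  have e2 : (w₀ * w * (w₀ : G)⁻¹ * w⁻¹)⁻¹ = u' := by rw [hu'e]; group
  rwa [e2] at hmod

/-- KAPPA and ALPHA, `D_Z ≤ I` -/
theorem kap_alpha (hG : IsCharacteristicTwoType G) (hN : NTr V Z) (hD : dd V Z Z ≤ IV V Z) (dual : h.Dual) {c : G}
    (hc : c ∈ centralizer (Z : Set G)) (f : h.MF →ₗ[F] F)
    (hf : ∀ m ∈ h.Eb, f (h.rp ⟨c, h.C_le_hat hc⟩ m) = 0) (hf1 : f h.v0 = 1) (y : h.MF)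
    (hy : f (h.al y (h.rp ⟨c, h.C_le_hat hc⟩ h.v0)) = 0) (hq : h.al y y - y ∉ h.lam) (a : F) :
    h.al (a • h.rp ⟨c, h.C_le_hat hc⟩ h.v0) (h.rp ⟨c, h.C_le_hat hc⟩ h.v0) = h.rp ⟨c, h.C_le_hat hc⟩ h.v0 := by
  obtain ⟨u, hu, huM, hul⟩ := h.kapM hN dual hc f hf hf1 y hy
  have hcN := centralizer_le_normalizer _ hc
  have hcZ : PT.cj c Z = Z := cj_eq_iff.2 hcN
  have hcI : IV (PT.cj c V) Z = PT.cj c (IV V Z) := by
    have h1 := PB.Geom.IV_conj h.one.pl h.one.hf c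
    rwa [hcZ] at h1
  rw [hcI, mem_cj] at huM
  have huW := h.one.I_le_W' hu
  refine h.alphaM hG hN (h.ha_of_dual hN hD dual) hc (u := h.fm ⟨u, huW⟩) (u' := h.fm ⟨c⁻¹ * u * c, h.one.I_le_W' huM⟩)
    (fun e => hq ?_) ⟨u, hu, rfl⟩ ⟨_, huM, rfl⟩ ?_ a
  · rw [e, zero_add] at hul
    exact hul
  · rw [h.rp_fm' (h.C_le_hat hc) (h.one.I_le_W' huM)]
    congr 1
    exact Subtype.ext (by show c * (c⁻¹ * u * c) * c⁻¹ = u; group)

include h in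
theorem not_V_le {c : G} (hN : NTr V Z) (hc : c ∈ centralizer (Z : Set G))
    (hv : h.v0 ∉ (h.Eb).map (h.rp ⟨c, h.C_le_hat hc⟩)) : ¬ V ≤ ee (PT.cj c V) Z Z := fun e =>
  hv ((h.fm_Ec_iff hN hc (h.W_V 0 1)).2 (e (h.e_memV 0 1)))

/-- **(F), the group part** -/
theorem kap [Finite F] (hG : IsCharacteristicTwoType G) (hN : NTr V Z) {c : G} (hc : c ∈ centralizer (Z : Set G))
    (f : h.MF →ₗ[F] F) (hf : ∀ m ∈ h.Eb, f (h.rp ⟨c, h.C_le_hat hc⟩ m) = 0) (hf0 : f h.v0 ≠ 0) (y : h.MF)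
    (hy : f (h.al y (h.rp ⟨c, h.C_le_hat hc⟩ h.v0)) = 0) (hq : h.al y y - y ∉ h.lam) (a : F) :
    h.al (a • h.rp ⟨c, h.C_le_hat hc⟩ h.v0) (h.rp ⟨c, h.C_le_hat hc⟩ h.v0) = h.rp ⟨c, h.C_le_hat hc⟩ h.v0 := by
  by_cases hD : dd V Z Z ≤ IV V Z
  · refine h.kap_alpha hG hN hD (h.dualN hN) hc ((f h.v0)⁻¹ • f) (fun m hm => ?_) ?_ y ?_ hq a
    · rw [LinearMap.smul_apply, hf m hm, smul_zero]
    · rw [LinearMap.smul_apply, smul_eq_mul, inv_mul_cancel₀ hf0]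
    · rw [LinearMap.smul_apply, hy, smul_zero]
  · refine h.lemKM_of hN hD hc (h.not_V_le hN hc ?_) a
    rintro ⟨m, hm, hmv⟩
    exact hf0 (by rw [← hmv]; exact hf m hm)

/-- **S-pairs exist** -/
theorem exists_SPM [Finite F] (hN : NTr V Z) : ∃ c, ∃ hc : c ∈ centralizer (Z : Set G),
    h.v0 ∉ (h.Eb).map (h.rp ⟨c, h.C_le_hat hc⟩) ∧ h.rp ⟨c, h.C_le_hat hc⟩ h.v0 ∉ h.Eb := by
  have hVV : IsCj V V := ⟨1, (cj_one V).symm⟩
  obtain ⟨M, Q, s⟩ := h.one.exists_SP (h.w1_le_ee hN) hVV h.one.pl.isCj_self h.one.pl.ZV h.pY.cj h.pY.le h.Yp_ne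
  have hM := s.hM
  have hZM := s.hXM
  obtain ⟨c, hc, rfl⟩ := h.line_eq hM hZM
  have hcN := centralizer_le_normalizer _ hc
  refine ⟨c, hc, fun hv => ?_, fun hmE => ?_⟩
  · obtain ⟨y, hy, hyE⟩ := s.s2
    obtain ⟨b, rfl⟩ := hy
    apply hyE
    rw [← h.fm_Ec_iff hN hc (h.W_V 0 b), h.fm_e]
    exact Submodule.smul_mem _ _ hv
  · obtain ⟨q, hq, hqE⟩ := s.s1
    apply hqE
    have hqM := s.hQM hq
    rw [mem_cj] at hqM
    obtain ⟨x, y, hxy⟩ := (h.mem_V _).1 hqM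
    obtain rfl : q = c * h.e x y * c⁻¹ := by rw [hxy]; group
    rw [← h.fm_Eb_iff hN (w := ⟨c * h.e x y * c⁻¹, h.W_conj hcN (h.W_V x y)⟩)]
    have hcv : h.fm ⟨c * h.e x y * c⁻¹, h.W_conj hcN (h.W_V x y)⟩ = y • h.rp ⟨c, h.C_le_hat hc⟩ h.v0 := by
      rw [← map_smul, ← h.fm_e x y, h.rp_fm' (h.C_le_hat hc) (h.W_V x y)]
    rw [hcv]
    exact Submodule.smul_mem _ _ hmE

end Cfsg.Agent.Omega.NO3S.OneQ.Co

end

section


/-!
# NO-3S, `OneSz` (`q ≥ 4`, `n = 1`), case (N), `k ≥ 2`: the end of `D_x ≰ I` (pure)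

* **`Pre.dx_end`** : TI, an S-pair `l, m` with `[A_l, m] ≤ Ebar_m`, `[A_m, l] ≤ Ebar_l` (the pairs are partial), LEMMA K
  (`α_l(m)` fixes `m`) and (S2) (`C_{A_l}(m)` has dimension 1): impossible.

`b = α_l(m)`, `b₂ = α_m(l)`: `[a, b₂] ∈ C_{A_l}(m)` for all `a ∈ A_l`, some `a₁ ∈ A_l` has `[a₁, b₂] = b`, some
`a₂ ∈ A_m` has `[a₂, b] = b₂`; so `b b₂ ∈ A_{a₁ m} ∩ A_{a₂ l}`, hence `a₂ l ∈ F a₁ m ≤ Ebar_m` and `l ∈ Ebar_m`.
-/

set_option autoImplicit false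
set_option linter.unusedSectionVars false

namespace Cfsg.Agent.Omega.NO3S.OneQ.Sg

open TIq (NP)

variable {F M H : Type*} [Field F] [AddCommGroup M] [Module F M] [Group H] [DistribMulAction H M] {L : Set M}
    {A : M → Subgroup H} {I : M → Submodule F M} {al : M → M → H}

namespace Pre

variable (G : Pre F L A I al)
include G

/-- the half `[a₁, α_m(l)] = α_l(m)` -/
theorem dx_half (ti : ∀ {l m : M} {a : H}, l ∈ L → m ∈ L → a ∈ A l → a ∈ A m → a ≠ 1 → ∃ c : F, m = c • l)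
    {l m : M} (hl : l ∈ L) (hm : m ∈ L) (h1 : al l m ≠ 1) (k2 : al m l • l = l)
    (h2 : al m l ≠ 1) (n1 : ∀ a ∈ A l, al m (a • m + m) = 1)
    (s1 : ∀ y, al l y • m = m → ∃ f g : F, ¬ (f = 0 ∧ g = 0) ∧ al l (f • y + g • m) = 1) :
    ∃ a ∈ A l, a * al m l * a⁻¹ = al l m * al m l := by
  have hb2 := G.al_mem hm l
  have hb2m : al m l • m = m := G.fix hm hb2 (G.self hm)
  -- `[α_l(x), b₂] = α_l(b₂ x + x)`
  have e1 : ∀ x, al l x * al m l * (al l x)⁻¹ = al l (al m l • x + x) * al m l := by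
    intro x
    rw [G.al_add hl, G.al_conj hl k2, G.inv hl (G.al_mem hl x)]
    have h3 := G.A_comm hl (G.al_mem hl x) (G.al_conj hl k2 x ▸ G.al_mem hl (al m l • x) :
      al m l * al l x * (al m l)⁻¹ ∈ A l)
    rw [← h3]
    group
  -- it fixes `m`
  have e2 : ∀ x, al l (al m l • x + x) • m = m := by
    intro x
    have hx := G.al_mem hl x
    obtain ⟨t, ht⟩ := (G.al_ker hm _).1 (n1 _ hx) _ hb2
    have h3 : al m l • al l x • m = al l x • m + t • m := by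
      have h4 : al l x • m = m + (al l x • m + m) := by rw [add_comm (al l x • m), G.two_left]
      calc al m l • al l x • m = al m l • (m + (al l x • m + m)) := by rw [← h4]
        _ = m + (al l x • m + m + t • m) := by rw [smul_add, hb2m, ht]
        _ = (m + (al l x • m + m)) + t • m := by rw [add_assoc m]
        _ = al l x • m + t • m := by rw [← h4]
    have h5 : al l (al m l • x + x) = al l x * al m l * (al l x)⁻¹ * (al m l)⁻¹ := by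
      rw [e1, mul_inv_cancel_right]
    have h6 : al l (al m l • x + x) • m = m + t • al l x • m := by
      have h7 : (al m l)⁻¹ • m = m := by rw [inv_smul_eq_iff, hb2m]
      rw [h5, mul_smul, mul_smul, mul_smul, h7, G.inv hl hx, h3, smul_add, G.lin, ← mul_smul, G.sq hl hx, one_smul]
    have h8 := G.comm hl (G.al_mem hl (al m l • x + x)) m
    rw [h6] at h8
    have h9 : m + t • al l x • m + m = t • al l x • m := by
      rw [add_comm m, add_assoc, G.two, add_zero]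
    rw [h9] at h8
    by_cases ht0 : t = 0
    · rw [h6, ht0, zero_smul, add_zero]
    · exfalso
      have h10 : al l x • m ∈ I l := by
        have := (I l).smul_mem t⁻¹ h8
        rwa [smul_smul, inv_mul_cancel₀ ht0, one_smul] at this
      have h11 := G.fix hl hx h10
      rw [← mul_smul, G.sq hl hx, one_smul] at h11
      rw [← h11] at h10
      exact h1 (G.al_I_one hl h10)
  -- it is not always `1`
  obtain ⟨x, hx⟩ : ∃ x, al l (al m l • x + x) ≠ 1 := by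
    by_contra hcon
    push Not at hcon
    refine h1 ((G.al_ker hl m).2 fun a ha => ?_)
    obtain ⟨x, rfl⟩ := G.al_surj hl ha
    have h3 := e1 x
    rw [hcon x, one_mul] at h3
    have h4 : al m l ∈ A (al l x • m) := by
      have := G.A_conj (al l x) hm hb2
      rwa [h3] at this
    obtain ⟨c, hc⟩ := ti hm (G.smul (al l x) hm) hb2 h4 h2
    rw [G.fix_of_inv hm (G.sq hl ha) hc]
    exact ⟨0, by rw [zero_smul, add_zero]⟩
  obtain ⟨f, g, hfg, hz⟩ := s1 _ (e2 x)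
  have hf : f ≠ 0 := by
    intro hf
    have hg : g ≠ 0 := fun hg => hfg ⟨hf, hg⟩
    rw [hf, zero_smul, zero_add] at hz
    have h3 := G.al_sm_one hl g⁻¹ hz
    rw [smul_smul, inv_mul_cancel₀ hg, one_smul] at h3
    exact h1 h3
  have hg : g ≠ 0 := by
    intro hg
    rw [hg, zero_smul, add_zero] at hz
    have h3 := G.al_sm_one hl f⁻¹ hz
    rw [smul_smul, inv_mul_cancel₀ hf, one_smul] at h3
    exact hx h3
  refine ⟨al l ((g⁻¹ * f) • x), G.al_mem hl _, ?_⟩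
  rw [e1]
  congr 1
  rw [G.al_congr hl, G.lin, ← smul_add]
  have h3 := G.al_sm_one hl g⁻¹ hz
  rwa [smul_add, smul_smul, smul_smul, inv_mul_cancel₀ hg, one_smul] at h3

/-- **the end of `D_x ≰ I`** -/
theorem dx_end (ti : ∀ {l m : M} {a : H}, l ∈ L → m ∈ L → a ∈ A l → a ∈ A m → a ≠ 1 → ∃ c : F, m = c • l)
    {l m : M} (hl : l ∈ L) (hm : m ∈ L) (h1 : al l m ≠ 1) (h2 : al m l ≠ 1) (k1 : al l m • m = m) (k2 : al m l • l = l)
    (n1 : ∀ a ∈ A l, al m (a • m + m) = 1) (n2 : ∀ a ∈ A m, al l (a • l + l) = 1)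
    (s1 : ∀ y, al l y • m = m → ∃ f g : F, ¬ (f = 0 ∧ g = 0) ∧ al l (f • y + g • m) = 1)
    (s2 : ∀ y, al m y • l = l → ∃ f g : F, ¬ (f = 0 ∧ g = 0) ∧ al m (f • y + g • l) = 1) : False := by
  obtain ⟨a, ha, ha'⟩ := G.dx_half ti hl hm h1 k2 h2 n1 s1
  obtain ⟨b, hb, hb'⟩ := G.dx_half ti hm hl h2 k1 h1 n2 s2
  have hb2m : al m l • m = m := G.fix hm (G.al_mem hm l) (G.self hm)
  have hcomm : al l m * al m l = al m l * al l m := by
    have h3 := G.al_conj hl k2 m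
    rw [hb2m, eq_mul_inv_iff_mul_eq] at h3
    exact h3
  have h3 : al l m * al m l ∈ A (a • m) := by
    rw [← ha']
    exact G.A_conj a hm (G.al_mem hm l)
  have h4 : al l m * al m l ∈ A (b • l) := by
    rw [hcomm, ← hb']
    exact G.A_conj b hl (G.al_mem hl m)
  have h5 : al l m * al m l ≠ 1 := by
    rw [← ha']
    intro h6
    apply h2
    have h7 : al m l = a⁻¹ * (a * al m l * a⁻¹) * a := by group
    rw [h7, h6]; group
  obtain ⟨c, hc⟩ := ti (G.smul a hm) (G.smul b hl) h3 h4 h5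
  -- `b l ∈ Ebar_m`
  have h6 : al m (a • m) = 1 := by
    have h7 : a • m = (a • m + m) + m := by rw [add_assoc, G.two, add_zero]
    rw [h7, G.al_add hm, n1 a ha, G.al_I_one hm (G.self hm), one_mul]
  have h7 : al m (b • l) = 1 := by
    rw [hc]
    exact G.al_sm_one hm c h6
  apply h2
  have h8 : l = b • l + (b • l + l) := by rw [G.two_left]
  rw [h8, G.al_add hm, h7, G.al_I_one hm (G.comm hm hb l), one_mul]

end Pre

end Cfsg.Agent.Omega.NO3S.OneQ.Sg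

end

end
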