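import Cfsg.Agent.Mrg.Omega.TwoFFour.SzNatC
import Cfsg.Agent.Mrg.Omega.NO3S.OneQ.PlaneEnd
import Cfsg.Agent.Mrg.Omega.NO3S.OneQ.POne
import Mathlib
import Cfsg.Agent.Mrg.Omega.NO3S.OneQ.Fix
import Cfsg.Agent.Mrg.Omega.NO3S.PLOf

-- merged: Cfsg.Agent.Mrg.Omega.NO3S.OneQ.TIq.PreTop
section

/-!
# NO-3S, `OneSz`, case (N): `A_l = A_m` forces `M = Ebar_l + Ebar_m` (pure form, every `k`, every `D_x`)

* `Pre.E` : `Ebar_l`; `Pre.D` : `C_M(A_l)`; `Pre.Phi` : the pairing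
* `Pre.fr_E` : `dim E = dim D + dim M / E`
* `Pre.sum_of_eq` : `A l = A m`, `l`, `m` different points ⟹ `M = E_l + E_m`
-/

set_option autoImplicit false
set_option linter.unusedSimpArgs false
set_option linter.unusedSectionVars false

namespace Cfsg.Agent.Omega.NO3S.OneQ.TIq

open Module

/-- the coefficient of `v` in the point `F l` -/
noncomputable def cfp (F : Type*) {M : Type*} [Field F] [AddCommGroup M] [Module F M] (l v : M) : F :=
  open Classical in if h : ∃ c : F, v = c • l then h.choose else 0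

theorem cfp_smul {F M : Type*} [Field F] [AddCommGroup M] [Module F M] {l : M} (hl : l ≠ 0) (c : F) :
    cfp F l (c • l) = c := by
  have h : ∃ d : F, c • l = d • l := ⟨c, rfl⟩
  unfold cfp
  rw [dif_pos h]
  have := h.choose_spec
  have h2 : (c - h.choose) • l = 0 := by rw [sub_smul, ← this, sub_self]
  exact (sub_eq_zero.1 ((smul_eq_zero.1 h2).resolve_right hl)).symm

theorem cfp_spec {F M : Type*} [Field F] [AddCommGroup M] [Module F M] {l v : M} (h : ∃ c : F, v = c • l) :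
    v = cfp F l v • l := by
  unfold cfp
  rw [dif_pos h]
  exact h.choose_spec

namespace Pre

variable {F M H : Type*} [Field F] [AddCommGroup M] [Module F M] [Group H] [DistribMulAction H M] {L : Set M}
    {A : M → Subgroup H} {I : M → Submodule F M} {al : M → M → H} {Kt : M → Subgroup H}

/-- `Ebar_l` -/
def E (G : Pre F L A I al Kt) {l : M} (hl : l ∈ L) : Submodule F M where
  carrier := {e | al l e = 1}
  add_mem' := fun {a b} ha hb => by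
    change al l (a + b) = 1
    rw [G.al_add hl]
    rw [show al l a = 1 from ha, show al l b = 1 from hb, one_mul]
  zero_mem' := G.al_zero hl
  smul_mem' := fun c _ hx => G.al_sm_one hl c hx

theorem mem_E (G : Pre F L A I al Kt) {l e : M} (hl : l ∈ L) : e ∈ G.E hl ↔ al l e = 1 := Iff.rfl

/-- `C_M(A_l)` -/
def D (G : Pre F L A I al Kt) (l : M) : Submodule F M where
  carrier := {x | ∀ a ∈ A l, a • x = x}
  add_mem' := fun {x y} hx hy a ha => by rw [smul_add, hx a ha, hy a ha]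
  zero_mem' := fun a _ => smul_zero a
  smul_mem' := fun c x hx a ha => by rw [G.lin, hx a ha]

theorem mem_D (G : Pre F L A I al Kt) {l x : M} : x ∈ G.D l ↔ ∀ a ∈ A l, a • x = x := Iff.rfl

theorem D_le_E (G : Pre F L A I al Kt) {l : M} (hl : l ∈ L) : G.D l ≤ G.E hl := fun x hx =>
  (G.al_ker hl x).2 fun a ha => ⟨0, by rw [zero_smul, add_zero]; exact hx a ha⟩

theorem phi_ex (G : Pre F L A I al Kt) {l e : M} (hl : l ∈ L) (he : al l e = 1) (x : M) :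
    ∃ c : F, al l x • e + e = c • l := by
  obtain ⟨c, hc⟩ := (G.al_ker hl e).1 he _ (G.al_mem hl x)
  exact ⟨c, G.of_eq hc⟩

/-- the pairing -/
noncomputable def Phi (G : Pre F L A I al Kt) {l : M} (hl : l ∈ L) : G.E hl →ₗ[F] M →ₗ[F] F :=
  LinearMap.mk₂ F (fun e x => cfp F l (al l x • (e : M) + e))
    (fun e e' x => by
      obtain ⟨c, hc⟩ := G.phi_ex hl e.2 x
      obtain ⟨c', hc'⟩ := G.phi_ex hl e'.2 x
      have : al l x • ((e + e' : G.E hl) : M) + ((e + e' : G.E hl) : M) = (c + c') • l := by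
        rw [Submodule.coe_add, smul_add, add_smul, ← hc, ← hc']; abel
      rw [this, hc, hc', cfp_smul (G.ne_zero hl), cfp_smul (G.ne_zero hl), cfp_smul (G.ne_zero hl)])
    (fun d e x => by
      obtain ⟨c, hc⟩ := G.phi_ex hl e.2 x
      have : al l x • ((d • e : G.E hl) : M) + ((d • e : G.E hl) : M) = (d * c) • l := by
        rw [Submodule.coe_smul, G.lin, ← smul_add, hc, smul_smul]
      rw [this, hc, cfp_smul (G.ne_zero hl), cfp_smul (G.ne_zero hl), smul_eq_mul])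
    (fun e x x' => by
      obtain ⟨c, hc⟩ := G.phi_ex hl e.2 x
      obtain ⟨c', hc'⟩ := G.phi_ex hl e.2 x'
      have h1 : al l x' • (e : M) = e + c' • l := G.to_eq hc'
      have h2 : al l x • (e : M) = e + c • l := G.to_eq hc
      have : al l (x + x') • (e : M) + (e : M) = (c + c') • l := by
        rw [G.al_add hl, mul_smul, h1, smul_add, h2, G.lin, G.A_fix hl (G.al_mem hl x), add_smul]
        have := G.two (e : M)
        calc (e : M) + c • l + c' • l + e = (e + e) + (c • l + c' • l) := by abel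
          _ = c • l + c' • l := by rw [this, zero_add]
      rw [this, hc, hc', cfp_smul (G.ne_zero hl), cfp_smul (G.ne_zero hl), cfp_smul (G.ne_zero hl)])
    (fun d e x => by
      obtain ⟨c, hc⟩ := G.phi_ex hl e.2 x
      have : al l (d • x) • (e : M) + (e : M) = (d * c) • l := by
        rw [G.phl hl d _ x e.2, hc, smul_smul]
      rw [this, hc, cfp_smul (G.ne_zero hl), cfp_smul (G.ne_zero hl), smul_eq_mul])

theorem Phi_spec (G : Pre F L A I al Kt) {l : M} (hl : l ∈ L) (e : G.E hl) (x : M) :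
    al l x • (e : M) + e = G.Phi hl e x • l := cfp_spec (G.phi_ex hl e.2 x)

theorem Phi_spec' (G : Pre F L A I al Kt) {l : M} (hl : l ∈ L) (e : G.E hl) (x : M) :
    al l x • (e : M) = e + G.Phi hl e x • l := G.to_eq (G.Phi_spec hl e x)

theorem Phi_eq (G : Pre F L A I al Kt) {l : M} (hl : l ∈ L) (e : G.E hl) (x : M) {c : F}
    (h : al l x • (e : M) = e + c • l) : G.Phi hl e x = c := by
  rw [G.Phi_spec' hl] at h
  have h1 := add_left_cancel h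
  have h2 : (G.Phi hl e x - c) • l = 0 := by rw [sub_smul, h1, sub_self]
  exact sub_eq_zero.1 ((smul_eq_zero.1 h2).resolve_right (G.ne_zero hl))

theorem Phi_zero_iff (G : Pre F L A I al Kt) {l : M} (hl : l ∈ L) (e : G.E hl) :
    G.Phi hl e = 0 ↔ (e : M) ∈ G.D l := by
  constructor
  · intro h a ha
    obtain ⟨x, rfl⟩ := G.al_surj hl ha
    rw [G.Phi_spec' hl, h, LinearMap.zero_apply, zero_smul, add_zero]
  · intro h
    ext x
    rw [LinearMap.zero_apply]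
    apply G.Phi_eq hl
    rw [zero_smul, add_zero]
    exact h _ (G.al_mem hl x)

theorem Phi_surj (G : Pre F L A I al Kt) {l : M} (hl : l ∈ L) {f : M →ₗ[F] F} (hf : G.E hl ≤ LinearMap.ker f) :
    ∃ e : G.E hl, G.Phi hl e = f := by
  obtain ⟨e, he, h⟩ := G.dual hl f (fun e he => LinearMap.mem_ker.1 (hf he))
  refine ⟨⟨e, he⟩, ?_⟩
  ext x
  apply G.Phi_eq hl
  exact G.to_eq (h x)

theorem Phi_E (G : Pre F L A I al Kt) {l : M} (hl : l ∈ L) (e : G.E hl) : G.E hl ≤ LinearMap.ker (G.Phi hl e) := by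
  intro x hx
  rw [LinearMap.mem_ker]
  apply G.Phi_eq hl
  rw [show al l x = 1 from hx, one_smul, zero_smul, add_zero]

section fin

variable [FiniteDimensional F M]

theorem fr_M (G : Pre F L A I al Kt) {l : M} (hl : l ∈ L) :
    finrank F M = finrank F (G.E hl) + finrank F (M ⧸ G.E hl) := by
  have := Submodule.finrank_quotient_add_finrank (G.E hl)
  omega

theorem fr_E (G : Pre F L A I al Kt) {l : M} (hl : l ∈ L) :
    finrank F (G.E hl) = finrank F (G.D l) + finrank F (M ⧸ G.E hl) := by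
  classical
  have h1 := LinearMap.finrank_range_add_finrank_ker (G.Phi hl)
  have h2 : LinearMap.ker (G.Phi hl) = (G.D l).comap (G.E hl).subtype := by
    ext e
    rw [LinearMap.mem_ker, G.Phi_zero_iff hl, Submodule.mem_comap, Submodule.subtype_apply]
  have h3 : finrank F (LinearMap.ker (G.Phi hl)) = finrank F (G.D l) := by
    rw [h2]
    exact (Submodule.comapSubtypeEquivOfLe (G.D_le_E hl)).finrank_eq
  have h4 : finrank F (LinearMap.range (G.Phi hl)) = finrank F (M ⧸ G.E hl) := by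
    have h5 : LinearMap.range (G.Phi hl) = (G.E hl).dualAnnihilator := by
      ext f
      rw [Submodule.mem_dualAnnihilator]
      constructor
      · rintro ⟨e, rfl⟩ x hx
        exact LinearMap.mem_ker.1 (G.Phi_E hl e hx)
      · intro h
        obtain ⟨e, he⟩ := G.Phi_surj hl (f := f) fun x hx => LinearMap.mem_ker.2 (h x hx)
        exact ⟨e, he⟩
    rw [h5]
    exact (Subspace.quotEquivAnnihilator (G.E hl)).symm.finrank_eq
  omega

/-- `A l = A m` ⟹ `E_l ∩ E_m = C_M(A)` -/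
theorem inf_of_eq (G : Pre F L A I al Kt) {l m : M} (hl : l ∈ L) (hm : m ∈ L) (np : NP F l m) (hA : A l = A m) :
    G.E hl ⊓ G.E hm = G.D l := by
  apply le_antisymm
  · rintro x ⟨h1, h2⟩ a ha
    obtain ⟨c, hc⟩ := (G.al_ker hl x).1 h1 a ha
    obtain ⟨d, hd⟩ := (G.al_ker hm x).1 h2 a (hA ▸ ha)
    have h3 : d • m + c • l = 0 := by
      have h4 : x + d • m = x + c • l := by rw [← hc, ← hd]
      rw [add_left_cancel h4, G.two]
    obtain ⟨rfl, rfl⟩ := G.indep' hl np h3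
    rw [hc, zero_smul, add_zero]
  · refine le_inf (G.D_le_E hl) fun x hx => G.D_le_E hm fun a ha => ?_
    rw [← hA] at ha
    exact hx a ha

/-- **`A l = A m` ⟹ `M = E_l + E_m`** -/
theorem sup_of_eq (G : Pre F L A I al Kt) {l m : M} (hl : l ∈ L) (hm : m ∈ L) (np : NP F l m) (hA : A l = A m) :
    G.E hl ⊔ G.E hm = ⊤ := by
  apply Submodule.eq_top_of_finrank_eq
  have h1 := Submodule.finrank_sup_add_finrank_inf_eq (G.E hl) (G.E hm)
  rw [G.inf_of_eq hl hm np hA] at h1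
  have h2 := G.fr_M hl
  have h3 := G.fr_M hm
  have h4 := G.fr_E hl
  have h5 := G.fr_E hm
  have h6 : G.D m = G.D l := by
    ext x
    rw [G.mem_D, G.mem_D, hA]
  rw [h6] at h5
  omega

theorem sum_of_eq (G : Pre F L A I al Kt) {l m : M} (hl : l ∈ L) (hm : m ∈ L) (np : NP F l m) (hA : A l = A m)
    (x : M) : ∃ y z, al l y = 1 ∧ al m z = 1 ∧ x = y + z := by
  have h1 : x ∈ G.E hl ⊔ G.E hm := by rw [G.sup_of_eq hl hm np hA]; trivial
  obtain ⟨y, hy, z, hz, e⟩ := Submodule.mem_sup.1 h1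
  exact ⟨y, z, hy, hz, e.symm⟩

end fin

/-- `A l = A m ≠ 1` ⟹ `m ∈ I l` -/
theorem mem_of_eq (G : Pre F L A I al Kt) {l m : M} (hl : l ∈ L) (hm : m ∈ L) (hA : A l = A m) {b : H}
    (hb : b ∈ A l) (hb1 : b ≠ 1) : m ∈ I l := by
  obtain ⟨e, -, he⟩ := G.phi hm (hA ▸ hb) hb1
  have := G.comm hl hb e
  rwa [G.of_eq he] at this

end Pre

end Cfsg.Agent.Omega.NO3S.OneQ.TIq

end

-- merged: Cfsg.Agent.Mrg.Omega.NO3S.OneQ.KOneTIG
section

section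


/-!
# NO-3S, `OneSz` (`q ≥ 4`, `n = 1`), case (N): THEOREM P and TI for `k = 1`, group level

* `Co.PreI` : an instance of `TIq.Pre` over `MF` coming from a homomorphism `ρ : C_G(Z) →* H` with `ρ g • m = rep g m`
* `Co.PreI.A_ne` : `A_l ≠ A_{l^c}` for `c ∈ C_G(Z)`, `V^c ≠ V` (every `k`, every `D_x`)
* `Co.PreI.ti` : TI in the case `k = 1`
-/

set_option autoImplicit false
set_option linter.unusedSectionVars false

namespace Cfsg.Agent.Omega.NO3S.OneQ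

open Subgroup Cfsg.Agent.Omega.NO3S.PT Cfsg.Agent.Omega.NoFF.Basic
open scoped Pointwise

universe u

variable {G : Type u} [Group G]

namespace Co

variable [Finite G] {F : Type*} [Field F] [CharP F 2] {S : Sylow 2 G} {B P V Z : Subgroup G} (h : Co F S B P V Z)

/-- an instance of `TIq.Pre` over `MF` -/
structure PreI {H : Type*} [Group H] [DistribMulAction H h.MF] (ρ : centralizer (Z : Set G) →* H)
    (L : Set h.MF) (A : h.MF → Subgroup H) (I : h.MF → Submodule F h.MF) (al : h.MF → h.MF → H)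
    (Kt : h.MF → Subgroup H) : Prop where
  pre : TIq.Pre F L A I al Kt
  act : ∀ g m, ρ g • m = h.rep g m
  v0_mem : h.v0 ∈ L
  smul_mem : ∀ g l, l ∈ L → ρ g • l ∈ L
  orbit : ∀ l ∈ L, ∃ g, ∃ c : F, c ≠ 0 ∧ l = c • ρ g • h.v0
  A_zero : ∀ x : H, x ∈ A h.v0 ↔ ∃ a, ∃ ha : a ∈ ws V h.Yp, ρ ⟨a, h.one.W_le_C h.pY ha⟩ = x

/-- elements of `C_G(Z)` trivial on `MF` and on `rd / Z` lie in `K_Z` -/
def Ker {H : Type*} [Group H] (ρ : centralizer (Z : Set G) →* H) (V : Subgroup G) : Prop :=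
  ∀ g (hg : g ∈ centralizer (Z : Set G)), ρ ⟨g, hg⟩ = 1 → (∀ r ∈ rd V Z, g * r * g⁻¹ * r⁻¹ ∈ Z) → g ∈ kx V Z

namespace PreI

variable {h}
variable {H : Type*} [Group H] [DistribMulAction H h.MF] {ρ : centralizer (Z : Set G) →* H}
    {L : Set h.MF} {A : h.MF → Subgroup H} {I : h.MF → Submodule F h.MF} {al : h.MF → h.MF → H}
    {Kt : h.MF → Subgroup H} (i : h.PreI ρ L A I al Kt)
include i

theorem fm_act {g w : G} (hg : g ∈ centralizer (Z : Set G)) (hw : w ∈ ws V Z) :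
    ρ ⟨g, hg⟩ • h.fm ⟨w, hw⟩ = h.fm ⟨g * w * g⁻¹, h.W_conj (centralizer_le_normalizer _ hg) hw⟩ := by
  rw [i.act]
  exact h.rep_fm ⟨g, hg⟩ ⟨w, hw⟩

theorem kx_one {k : G} (hk : k ∈ kx V Z) : ρ ⟨k, kx_le_cent hk⟩ = 1 := by
  refine i.pre.faith _ fun m => ?_
  obtain ⟨⟨w, hw⟩, rfl⟩ := h.fm_surj m
  rw [i.fm_act, h.fm_eq]
  exact h.Z_le_rd (h.kw_mem hw hk)

theorem mem_E_iff {m : h.MF} : al h.v0 m = 1 ↔ m ∈ h.Eb := by
  rw [i.pre.al_ker i.v0_mem]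
  constructor
  · intro h1 a ha
    obtain ⟨c, hc⟩ := h1 _ ((i.A_zero _).2 ⟨a, ha, rfl⟩)
    rw [i.act] at hc
    have e : h.rp ⟨a, h.W_hat h.pY ha⟩ m = h.rep ⟨a, h.one.W_le_C h.pY ha⟩ m := by
      obtain ⟨w, rfl⟩ := h.fm_surj m
      rw [h.rep_fm]
      exact h.rp_fm _ _
    rw [e, hc, add_sub_cancel_left, lam]
    exact Submodule.smul_mem _ _ (Submodule.mem_span_singleton_self _)
  · intro h1 x hx
    obtain ⟨a, ha, rfl⟩ := (i.A_zero _).1 hx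
    have h2 := h1 a ha
    have e : h.rp ⟨a, h.W_hat h.pY ha⟩ m = h.rep ⟨a, h.one.W_le_C h.pY ha⟩ m := by
      obtain ⟨w, rfl⟩ := h.fm_surj m
      rw [h.rep_fm]
      exact h.rp_fm _ _
    rw [e, lam, Submodule.mem_span_singleton] at h2
    obtain ⟨c, hc⟩ := h2
    refine ⟨c, ?_⟩
    rw [i.act, hc, add_sub_cancel]

/-- transport of `E_l` -/
theorem one_conj {l m : h.MF} {g : H} (hl : l ∈ L) (hgl : g • l ∈ L) (hm : al l m = 1) : al (g • l) (g • m) = 1 := by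
  rw [i.pre.al_ker hl] at hm
  rw [i.pre.al_ker hgl]
  intro a ha
  have h1 : g⁻¹ * a * g ∈ A l := by
    have := i.pre.A_conj g⁻¹ hgl ha
    rwa [inv_smul_smul, inv_inv] at this
  obtain ⟨c, hc⟩ := hm _ h1
  refine ⟨c, ?_⟩
  calc a • g • m = g • ((g⁻¹ * a * g) • m) := by simp only [← mul_smul]; congr 1; group
    _ = g • m + c • g • l := by rw [hc, smul_add, i.pre.lin]

theorem one_conj_iff {m : h.MF} {g : centralizer (Z : Set G)} :
    al (ρ g • h.v0) m = 1 ↔ (ρ g)⁻¹ • m ∈ h.Eb := by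
  rw [← i.mem_E_iff]
  have h0 := i.smul_mem g _ i.v0_mem
  constructor
  · intro h1
    have := i.one_conj (g := (ρ g)⁻¹) h0 (by rw [inv_smul_smul]; exact i.v0_mem) h1
    rwa [inv_smul_smul] at this
  · intro h1
    have := i.one_conj (g := ρ g) i.v0_mem h0 h1
    rwa [smul_inv_smul] at this

theorem mem_A_conj {g : G} (hg : g ∈ centralizer (Z : Set G)) {x : H} :
    x ∈ A (ρ ⟨g, hg⟩ • h.v0) ↔ ∃ a, ∃ ha : a ∈ ws V h.Yp,
      ρ ⟨g * a * g⁻¹, mul_mem (mul_mem hg (h.one.W_le_C h.pY ha)) (inv_mem hg)⟩ = x := by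
  have h0 := i.smul_mem ⟨g, hg⟩ _ i.v0_mem
  have key : ∀ a (ha : a ∈ ws V h.Yp), ρ ⟨g * a * g⁻¹, mul_mem (mul_mem hg (h.one.W_le_C h.pY ha)) (inv_mem hg)⟩ =
      ρ ⟨g, hg⟩ * ρ ⟨a, h.one.W_le_C h.pY ha⟩ * (ρ ⟨g, hg⟩)⁻¹ := by
    intro a ha
    rw [← map_inv, ← map_mul, ← map_mul]
    rfl
  constructor
  · intro hx
    have h1 : (ρ ⟨g, hg⟩)⁻¹ * x * ρ ⟨g, hg⟩ ∈ A h.v0 := by
      have := i.pre.A_conj (ρ ⟨g, hg⟩)⁻¹ h0 hx
      rwa [inv_smul_smul, inv_inv] at this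
    obtain ⟨a, ha, e⟩ := (i.A_zero _).1 h1
    refine ⟨a, ha, ?_⟩
    rw [key a ha, e]; group
  · rintro ⟨a, ha, rfl⟩
    rw [key a ha]
    exact i.pre.A_conj _ i.v0_mem ((i.A_zero _).2 ⟨a, ha, rfl⟩)

/-- `V^c ≠ V` : different points -/
theorem np {c : G} (hc : c ∈ centralizer (Z : Set G)) (hcV : PT.cj c V ≠ V) (hrd : rd V Z = Z) :
    TIq.NP F h.v0 (ρ ⟨c, hc⟩ • h.v0) := by
  intro d hd
  apply hcV
  have e1 : ρ ⟨c, hc⟩ • h.v0 = h.fm ⟨c * h.e 0 1 * c⁻¹, _⟩ := i.fm_act hc (h.W_V 0 1)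
  rw [e1, ← h.fm_e 0 d, h.fm_eq, hrd] at hd
  have hcZ : PT.cj c Z = Z := cj_eq_iff.2 (centralizer_le_normalizer _ hc)
  have hL : IsCj V (PT.cj c V) := ⟨c, rfl⟩
  have hZL : Z ≤ PT.cj c V := by
    have := (cj_le_cj (g := c)).2 h.one.pl.ZV
    rwa [hcZ] at this
  -- `u = c e(0,1) c⁻¹ ∈ V ∩ V^c`, not in `Z`
  have hu : c * h.e 0 1 * c⁻¹ ∈ V := by
    have e2 : c * h.e 0 1 * c⁻¹ = c * h.e 0 1 * c⁻¹ * (h.e 0 d)⁻¹ * h.e 0 d := by group
    rw [e2]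
    exact mul_mem (h.one.pl.ZV hd) (h.e_memV _ _)
  have huL : c * h.e 0 1 * c⁻¹ ∈ PT.cj c V := conj_mem_cj (h.e_memV 0 1)
  have huZ : c * h.e 0 1 * c⁻¹ ∉ Z := by
    intro h1
    have h2 : h.e 0 1 ∈ Z := by
      have h3 : c * h.e 0 1 * c⁻¹ ∈ PT.cj c Z := by rwa [hcZ]
      rw [mem_cj] at h3
      have e : c⁻¹ * (c * h.e 0 1 * c⁻¹) * c = h.e 0 1 := by group
      rwa [e] at h3
    rw [h.e_memZ_iff] at h2
    exact one_ne_zero h2
  have hu1 : c * h.e 0 1 * c⁻¹ ≠ 1 := fun e => huZ (e ▸ one_mem _)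
  have hVV : IsCj V V := ⟨1, (cj_one V).symm⟩
  obtain ⟨X, hX, hXV, huX⟩ := h.one.line_pt hVV hu hu1
  have hXL := Pla.pt_le h.one hL hX huX hu1 huL
  refine h.one.line_eq hL hVV h.one.self.cj hX hZL hXL h.one.pl.ZV hXV ?_
  intro e
  apply huZ
  rwa [← e] at huX

/-- `A ≠ 1` -/
theorem exists_ne (hK : Ker ρ V) : ∃ a, ∃ ha : a ∈ ws V h.Yp, ρ ⟨a, h.one.W_le_C h.pY ha⟩ ≠ 1 := by
  by_contra hcon
  push Not at hcon
  apply h.one.ee_ne h.pY
  refine le_antisymm ee_le fun a ha => ?_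
  rw [h.one.ee_eq h.pY h.one.self h.Yp_ne.symm]
  refine ⟨ha, hK a (h.one.W_le_C h.pY ha) (hcon a ha) fun r hr => ?_⟩
  have := inv_mem (h.rd_comm h.pY h.Yp_ne hr ha)
  have e : (r * a * r⁻¹ * a⁻¹)⁻¹ = a * r * a⁻¹ * r⁻¹ := by group
  rwa [e] at this

/-- elements of `W_Y`, `Y` a point of a line on `Z`, centralise `rd / Z` -/
theorem rd_conj {c : G} (hc : c ∈ centralizer (Z : Set G)) {b : G} (hb : b ∈ ws V h.Yp) {r : G} (hr : r ∈ rd V Z) :
    c * b * c⁻¹ * r * (c * b * c⁻¹)⁻¹ * r⁻¹ ∈ Z := by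
  have hcN := centralizer_le_normalizer _ hc
  have h1 : c⁻¹ * r * c ∈ rd V Z := by
    have := (mem_normalizer_iff.1 (inv_mem (norm_rd V Z hcN)) r).1 hr
    rwa [inv_inv] at this
  have h2 := inv_mem (h.rd_comm h.pY h.Yp_ne h1 hb)
  have h3 := (mem_normalizer_iff.1 hcN _).1 h2
  have e : c * (c⁻¹ * r * c * b * (c⁻¹ * r * c)⁻¹ * b⁻¹)⁻¹ * c⁻¹ = c * b * c⁻¹ * r * (c * b * c⁻¹)⁻¹ * r⁻¹ := by group
  rwa [e] at h3

/-- **THEOREM P** : `A_l ≠ A_m`, `l ≠ m` -/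
theorem A_ne (hNN : NN V Z) (hK : Ker ρ V) {c : G} (hc : c ∈ centralizer (Z : Set G))
    (hnp : TIq.NP F h.v0 (ρ ⟨c, hc⟩ • h.v0)) : A h.v0 ≠ A (ρ ⟨c, hc⟩ • h.v0) := by
  intro hA
  have hN : NTr V Z := NTr.of_nn h.one hNN
  have hcN := centralizer_le_normalizer _ hc
  have hcZ : PT.cj c Z = Z := cj_eq_iff.2 hcN
  have hL : IsCj V (PT.cj c V) := ⟨c, rfl⟩
  have hZL : Z ≤ PT.cj c V := by
    have := (cj_le_cj (g := c)).2 h.one.pl.ZV
    rwa [hcZ] at this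
  have hm := i.smul_mem ⟨c, hc⟩ _ i.v0_mem
  -- the common elements
  have key : ∀ a (ha : a ∈ ws V h.Yp) b (hb : b ∈ ws V h.Yp),
      ρ ⟨c * b * c⁻¹, mul_mem (mul_mem hc (h.one.W_le_C h.pY hb)) (inv_mem hc)⟩ = ρ ⟨a, h.one.W_le_C h.pY ha⟩ →
      a⁻¹ * (c * b * c⁻¹) ∈ kx V Z := by
    intro a ha b hb e
    have haC := h.one.W_le_C h.pY ha
    have hbC : c * b * c⁻¹ ∈ centralizer (Z : Set G) := mul_mem (mul_mem hc (h.one.W_le_C h.pY hb)) (inv_mem hc)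
    refine hK _ (mul_mem (inv_mem haC) hbC) ?_ fun r hr => ?_
    · have e1 : (⟨a⁻¹ * (c * b * c⁻¹), mul_mem (inv_mem haC) hbC⟩ : centralizer (Z : Set G)) =
        (⟨a, haC⟩ : centralizer (Z : Set G))⁻¹ * ⟨c * b * c⁻¹, hbC⟩ := rfl
      rw [e1, map_mul, map_inv, e, inv_mul_cancel]
    · have h1 := i.rd_conj hc hb hr
      have h2 := h.rd_comm h.pY h.Yp_ne hr ha
      -- `[a⁻¹ t, r] = a⁻¹ [t, r] a [a⁻¹, r]`
      have h3 : a⁻¹ * (c * b * c⁻¹ * r * (c * b * c⁻¹)⁻¹ * r⁻¹) * a ∈ Z := by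
        have := (mem_normalizer_iff.1 (inv_mem (centralizer_le_normalizer _ haC)) _).1 h1
        rwa [inv_inv] at this
      have h4 : a⁻¹ * (r * a * r⁻¹ * a⁻¹) * a ∈ Z := by
        have := (mem_normalizer_iff.1 (inv_mem (centralizer_le_normalizer _ haC)) _).1 h2
        rwa [inv_inv] at this
      have e2 : a⁻¹ * (c * b * c⁻¹) * r * (a⁻¹ * (c * b * c⁻¹))⁻¹ * r⁻¹ =
          a⁻¹ * (c * b * c⁻¹ * r * (c * b * c⁻¹)⁻¹ * r⁻¹) * a * (a⁻¹ * (r * a * r⁻¹ * a⁻¹) * a) := by group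
      rw [e2]
      exact mul_mem h3 h4
  have hLV : PT.cj c V ≠ V := by
    intro e
    have h1 : c * h.e 0 1 * c⁻¹ ∈ PT.cj c V := conj_mem_cj (h.e_memV 0 1)
    rw [e] at h1
    have e1 : ρ ⟨c, hc⟩ • h.v0 = h.fm ⟨c * h.e 0 1 * c⁻¹, _⟩ := i.fm_act hc (h.W_V 0 1)
    obtain ⟨x, y, hxy⟩ := (h.mem_V _).1 h1
    apply hnp y
    rw [e1, ← h.fm_e x y]
    congr 1
    exact Subtype.ext hxy.symm
  obtain ⟨a₀, ha₀, ha₁⟩ := i.exists_ne hK
  have hb₀ := (i.A_zero _).2 ⟨a₀, ha₀, rfl⟩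
  obtain ⟨b₀, hb₀', e₀⟩ := (i.mem_A_conj hc).1 (hA ▸ hb₀)
  have hk₀ := key a₀ ha₀ b₀ hb₀' e₀
  -- coplanar
  have hLI : PT.cj c V ≤ IV V Z := by
    have h1 : ∀ y : F, c * h.e 0 y * c⁻¹ ∈ IV V Z := by
      intro y
      by_cases hy : y = 0
      · rw [hy, h.e_zero, mul_one, mul_inv_cancel]
        exact one_mem _
      have hym := i.pre.fsm hy hm
      have hbm : ρ ⟨a₀, h.one.W_le_C h.pY ha₀⟩ ∈ A (y • ρ ⟨c, hc⟩ • h.v0) := by
        rw [i.pre.A_sm hy hm, ← hA]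
        exact hb₀
      obtain ⟨e, he, he'⟩ := i.pre.phi hym hbm ha₁
      -- `e = fm w`, `w ∈ E_Z(V^c)`
      have he1 : al (ρ ⟨c, hc⟩ • h.v0) e = 1 := by
        rw [i.pre.al_ker hm]
        rw [i.pre.al_ker hym, i.pre.A_sm hy hm] at he
        intro a ha
        obtain ⟨d, hd⟩ := he a ha
        exact ⟨d * y, by rw [hd, smul_smul]⟩
      rw [i.one_conj_iff] at he1
      obtain ⟨⟨w, hw⟩, hwe⟩ := h.fm_surj ((ρ ⟨c, hc⟩)⁻¹ • e)
      rw [← hwe, h.fm_Eb_iff hN] at he1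
      have hwe' : e = h.fm ⟨c * w * c⁻¹, h.W_conj hcN hw⟩ := by
        rw [← i.fm_act hc hw, hwe, smul_inv_smul]
      -- `u = [a₀, w^c] ∈ I`
      have hu : a₀ * (c * w * c⁻¹) * a₀⁻¹ * (c * w * c⁻¹)⁻¹ ∈ IV V Z :=
        h.one.comm_mem h.pY h.one.self h.Yp_ne ha₀ (h.W_conj hcN hw)
      have hv : c * b₀ * c⁻¹ * (c * w * c⁻¹) * (c * b₀ * c⁻¹)⁻¹ * (c * w * c⁻¹)⁻¹ ∈ PT.cj c h.Yp := by
        have h2 := h.one.ee_act' h.pY h.Yp_ne he1 hb₀'
        have h3 := conj_mem_cj (g := c) h2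
        have e2 : c * (b₀ * w * b₀⁻¹ * w⁻¹) * c⁻¹ =
          c * b₀ * c⁻¹ * (c * w * c⁻¹) * (c * b₀ * c⁻¹)⁻¹ * (c * w * c⁻¹)⁻¹ := by group
        rwa [e2] at h3
      -- `v ∈ u Z`
      obtain ⟨k, hk⟩ : ∃ k, k = a₀⁻¹ * (c * b₀ * c⁻¹) := ⟨_, rfl⟩
      rw [← hk] at hk₀
      have hb₂ : c * b₀ * c⁻¹ = a₀ * k := by rw [hk]; group
      have hz : k * (c * w * c⁻¹) * k⁻¹ * (c * w * c⁻¹)⁻¹ ∈ Z := h.kw_mem (h.W_conj hcN hw) hk₀
      have hz' : a₀ * (k * (c * w * c⁻¹) * k⁻¹ * (c * w * c⁻¹)⁻¹) * a₀⁻¹ ∈ Z :=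
        (mem_normalizer_iff.1 (centralizer_le_normalizer _ (h.one.W_le_C h.pY ha₀)) _).1 hz
      have hvu : c * b₀ * c⁻¹ * (c * w * c⁻¹) * (c * b₀ * c⁻¹)⁻¹ * (c * w * c⁻¹)⁻¹ =
          a₀ * (k * (c * w * c⁻¹) * k⁻¹ * (c * w * c⁻¹)⁻¹) * a₀⁻¹ *
            (a₀ * (c * w * c⁻¹) * a₀⁻¹ * (c * w * c⁻¹)⁻¹) := by
        rw [hb₂]; group
      have hvI : c * b₀ * c⁻¹ * (c * w * c⁻¹) * (c * b₀ * c⁻¹)⁻¹ * (c * w * c⁻¹)⁻¹ ∈ IV V Z := by
        rw [hvu]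
        exact mul_mem (h.one.pl.V_le_IV (h.one.pl.ZV hz')) hu
      -- `v = c e(0, y) c⁻¹`
      rw [mem_cj] at hv
      obtain ⟨t, ht⟩ := hv
      have hvt : c * b₀ * c⁻¹ * (c * w * c⁻¹) * (c * b₀ * c⁻¹)⁻¹ * (c * w * c⁻¹)⁻¹ = c * h.e 0 t * c⁻¹ := by
        rw [ht]; group
      have hfv : h.fm ⟨c * h.e 0 t * c⁻¹, h.W_conj hcN (h.W_V 0 t)⟩ = t • ρ ⟨c, hc⟩ • h.v0 := by
        rw [← i.pre.lin, ← h.fm_e 0 t]
        exact (i.fm_act hc (h.W_V 0 t)).symm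
      have hfv' : h.fm ⟨c * h.e 0 t * c⁻¹, h.W_conj hcN (h.W_V 0 t)⟩ = y • ρ ⟨c, hc⟩ • h.v0 := by
        have h5 := i.fm_act (h.one.W_le_C h.pY ha₀) (h.W_conj hcN hw)
        rw [← hwe', he'] at h5
        have h6 : y • ρ ⟨c, hc⟩ • h.v0 = h.fm ⟨a₀ * (c * w * c⁻¹) * a₀⁻¹ * (c * w * c⁻¹)⁻¹, h.one.I_le_W' hu⟩ := by
          have h7 : h.fm (⟨a₀ * (c * w * c⁻¹) * a₀⁻¹ * (c * w * c⁻¹)⁻¹, h.one.I_le_W' hu⟩ * ⟨c * w * c⁻¹, h.W_conj hcN hw⟩) =
              e + y • ρ ⟨c, hc⟩ • h.v0 := by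
            rw [h5]
            congr 1
            apply Subtype.ext
            show a₀ * (c * w * c⁻¹) * a₀⁻¹ * (c * w * c⁻¹)⁻¹ * (c * w * c⁻¹) = a₀ * (c * w * c⁻¹) * a₀⁻¹
            group
          rw [h.fm_mul, ← hwe', add_comm] at h7
          exact (add_left_cancel h7).symm
        rw [h6, h.fm_eq, ← hvt, hvu]
        have e3 : a₀ * (k * (c * w * c⁻¹) * k⁻¹ * (c * w * c⁻¹)⁻¹) * a₀⁻¹ *
            (a₀ * (c * w * c⁻¹) * a₀⁻¹ * (c * w * c⁻¹)⁻¹) * (a₀ * (c * w * c⁻¹) * a₀⁻¹ * (c * w * c⁻¹)⁻¹)⁻¹ =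
            a₀ * (k * (c * w * c⁻¹) * k⁻¹ * (c * w * c⁻¹)⁻¹) * a₀⁻¹ := by group
        rw [e3]
        exact h.Z_le_rd hz'
      have hty : t = y := smul_left_injective F (i.pre.ne_zero hm) (hfv.symm.trans hfv')
      rw [← hty, ← hvt]
      exact hvI
    intro v hv
    rw [mem_cj] at hv
    obtain ⟨x, y, hxy⟩ := (h.mem_V _).1 hv
    have e1 : v = c * h.e x 0 * c⁻¹ * (c * h.e 0 y * c⁻¹) := by
      have e2 : h.e x y = h.e x 0 * h.e 0 y := by rw [← h.e_add, add_zero, zero_add]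
      calc v = c * (c⁻¹ * v * c) * c⁻¹ := by group
        _ = _ := by rw [← hxy, e2]; group
    rw [e1]
    refine mul_mem ?_ (h1 y)
    exact h.one.pl.V_le_IV (h.one.pl.ZV ((mem_normalizer_iff.1 hcN _).1 (h.e_memZ x)))
  refine h.one.no_fold hNN hL hZL hLV hLI h.pY h.Yp_ne (T := PT.cj c h.Yp) ?_ (cj_le_cj.2 h.pY.le) ?_ ?_ ?_
  · obtain ⟨g, e⟩ := h.pY.cj
    exact ⟨c * g, by rw [e, cj_cj]⟩
  · intro e
    have h1 := congrArg (PT.cj c⁻¹) e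
    rw [cj_cj, inv_mul_cancel, cj_one, cj_eq_iff.2 (inv_mem hcN)] at h1
    exact h.Yp_ne h1
  · intro t ht
    rw [ws_cj, mem_cj] at ht
    have hb := (i.mem_A_conj hc).2 ⟨_, ht, rfl⟩
    rw [← hA] at hb
    obtain ⟨a, ha, e⟩ := (i.A_zero _).1 hb
    have h1 := key a ha _ ht e.symm
    have e2 : t = a * (a⁻¹ * (c * (c⁻¹ * t * c) * c⁻¹)) := by group
    rw [e2]
    exact mul_mem (mem_sup_left ha) (mem_sup_right h1)
  · intro w hw
    have : Finite h.MF := Finite.of_surjective _ h.fm_surj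
    have : FiniteDimensional F h.MF := Module.Finite.of_finite
    obtain ⟨y, z, hy, hz, e⟩ := i.pre.sum_of_eq i.v0_mem hm hnp hA (h.fm ⟨w, hw⟩)
    rw [i.mem_E_iff] at hy
    rw [i.one_conj_iff] at hz
    obtain ⟨⟨w₁, hw₁⟩, rfl⟩ := h.fm_surj y
    obtain ⟨⟨w₂, hw₂⟩, e₂⟩ := h.fm_surj ((ρ ⟨c, hc⟩)⁻¹ • z)
    rw [← e₂, h.fm_Eb_iff hN] at hz
    rw [h.fm_Eb_iff hN] at hy
    have hz' : z = h.fm ⟨c * w₂ * c⁻¹, h.W_conj hcN hw₂⟩ := by
      rw [← i.fm_act hc hw₂, e₂, smul_inv_smul]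
    rw [hz', ← h.fm_mul] at e
    have h2 := (h.fm_eq hw (mul_mem hw₁ (h.W_conj hcN hw₂))).1 e
    have h3 : c * w₂ * c⁻¹ ∈ ee (PT.cj c V) Z Z := by
      have := conj_mem_cj (g := c) hz
      rwa [cj_conj_ee, hcZ] at this
    have e3 : w = w * (w₁ * (c * w₂ * c⁻¹))⁻¹ * w₁ * (c * w₂ * c⁻¹) := by group
    rw [e3]
    exact mul_mem (mul_mem (mem_sup_left (h.rd_le_ee hN h2)) (mem_sup_left hy)) (mem_sup_right h3)

/-- the hypothesis `k = 1` at all points -/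
theorem one_all (one : ∀ x y : h.MF, x ∉ h.Eb → ∃ c : F, y + c • x ∈ h.Eb) {l : h.MF} (hl : l ∈ L) (x y : h.MF)
    (hx : al l x ≠ 1) : ∃ c : F, al l (y + c • x) = 1 := by
  obtain ⟨g, d, hd, rfl⟩ := i.orbit l hl
  have h0 := i.smul_mem g _ i.v0_mem
  have key : ∀ z, al (d • ρ g • h.v0) z = 1 ↔ al (ρ g • h.v0) z = 1 := by
    intro z
    rw [i.pre.al_ker hl, i.pre.al_ker h0, i.pre.A_sm hd h0]
    constructor
    · intro h1 a ha
      obtain ⟨c, hc⟩ := h1 a ha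
      exact ⟨c * d, by rw [hc, smul_smul]⟩
    · intro h1 a ha
      obtain ⟨c, hc⟩ := h1 a ha
      exact ⟨c * d⁻¹, by rw [hc, smul_smul, mul_assoc, inv_mul_cancel₀ hd, mul_one]⟩
  rw [ne_eq, key, i.one_conj_iff] at hx
  obtain ⟨c, hc⟩ := one _ ((ρ g)⁻¹ • y) hx
  refine ⟨c, ?_⟩
  rw [key, i.one_conj_iff, smul_add, i.pre.lin]
  exact hc

/-- **TI for `k = 1`** -/
theorem ti (hNN : NN V Z) (hrd : rd V Z = Z) (hq : ∃ c : F, c ≠ 0 ∧ c ≠ 1)
    (one : ∀ x y : h.MF, x ∉ h.Eb → ∃ c : F, y + c • x ∈ h.Eb) :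
    ∀ c ∈ centralizer (Z : Set G), PT.cj c V ≠ V → ∀ a ∈ ws V h.Yp, ∀ b ∈ ws V h.Yp,
      a⁻¹ * (c * b * c⁻¹) ∈ kx V Z → a ∈ kx V Z := by
  intro c hc hcV a ha b hb hab
  have hK : Ker ρ V := by
    intro g hg h1 _
    refine mem_kx.2 ⟨fun z hz => ((mem_centralizer_iff.1 hg) z hz).symm, fun w hw => ?_⟩
    have h2 := i.fm_act hg hw
    rw [h1, one_smul, h.fm_eq, hrd] at h2
    have h3 := inv_mem h2
    have e : (w * (g * w * g⁻¹)⁻¹)⁻¹ = g * w * g⁻¹ * w⁻¹ := by group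
    rwa [e] at h3
  have haC := h.one.W_le_C h.pY ha
  have hbC : c * b * c⁻¹ ∈ centralizer (Z : Set G) := mul_mem (mul_mem hc (h.one.W_le_C h.pY hb)) (inv_mem hc)
  by_contra hne
  have h1 : ρ ⟨a, haC⟩ ≠ 1 := fun h2 => hne (hK a haC h2 fun r hr => by
    have := inv_mem (h.rd_comm h.pY h.Yp_ne hr ha)
    have e : (r * a * r⁻¹ * a⁻¹)⁻¹ = a * r * a⁻¹ * r⁻¹ := by group
    rwa [e] at this)
  have h2 : ρ ⟨c * b * c⁻¹, hbC⟩ = ρ ⟨a, haC⟩ := by
    have h3 := i.kx_one hab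
    have e1 : (⟨a⁻¹ * (c * b * c⁻¹), kx_le_cent hab⟩ : centralizer (Z : Set G)) =
      (⟨a, haC⟩ : centralizer (Z : Set G))⁻¹ * ⟨c * b * c⁻¹, hbC⟩ := rfl
    rw [e1, map_mul, map_inv, inv_mul_eq_one] at h3
    exact h3.symm
  have h0 := i.smul_mem ⟨c, hc⟩ _ i.v0_mem
  have h3 : ρ ⟨a, haC⟩ ∈ A (ρ ⟨c, hc⟩ • h.v0) := (i.mem_A_conj hc).2 ⟨b, hb, h2⟩
  have h4 := (i.A_zero _).2 ⟨a, ha, rfl⟩
  have hnp := i.np hc hcV hrd
  exact i.A_ne hNN hK hc hnp (i.pre.A_eq (fun hl => i.one_all one hl) hq i.v0_mem h0 hnp h4 h3 h1)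

end PreI

end Co

end Cfsg.Agent.Omega.NO3S.OneQ

end

section


/-!
# NO-3S, `OneSz` (`q ≥ 4`, `n = 1`): THEOREM T, pure part (bb OMEGA #20670, helper512)

`r` an `F`-representation of `C` on `M`, `v0 ∈ M`, `A ≤ C` (the group of the line `F v0`), `st ≤ C` (elements which
fix the line). `Mix.main` : if `A` contains a transvection with centre `F v0`, then `[M, A] ≤ F v0`.
-/

set_option autoImplicit false
set_option linter.unusedSectionVars false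

namespace Cfsg.Agent.Omega.NO3S.OneQ

/-- the hypotheses -/
structure Mix {F M C : Type*} [Field F] [AddCommGroup M] [Module F M] [Group C] (r : Representation F C M) (v0 : M)
    (A st : Subgroup C) : Prop where
  two : ∀ m : M, m + m = 0
  v0_ne : v0 ≠ 0
  span : Submodule.span F (Set.range fun c => r c v0) = ⊤
  quad : ∀ a ∈ A, ∀ b ∈ A, ∀ m, r a (r b m - m) = r b m - m
  fix0 : ∀ a ∈ A, r a v0 = v0
  st_v : ∀ g ∈ st, ∃ t : F, t ≠ 0 ∧ r g v0 = t • v0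
  st_A : ∀ g ∈ st, ∀ a ∈ A, ∃ a' ∈ A, r (g * a * g⁻¹) = r a'
  tv_st : ∀ c, ∀ a ∈ A, r (c * a * c⁻¹) v0 = v0 → c * a * c⁻¹ ∈ st
  l1 : ∀ c, ∀ b ∈ A, ∀ ψ : M →ₗ[F] F, (∀ m, r (c * b * c⁻¹) m = m + ψ m • r c v0) → ψ v0 ≠ 0 →
    ∀ a ∈ A, ψ (r a (r c v0) - r c v0) = 0 → r a (r c v0) = r c v0
  bl : ∀ a ∈ A, ∀ (t : F) (m : M), ∃ a' ∈ A, ∃ d : F, r a' m - m = t • (r a m - m) + d • v0
  fix : ∀ N : Submodule F M, (∀ g ∈ st, ∀ n ∈ N, r g n ∈ N) → (∃ n ∈ N, ∃ a ∈ A, r a n ≠ n) → v0 ∈ N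

namespace Mix

variable {F M C : Type*} [Field F] [AddCommGroup M] [Module F M] [Group C] {r : Representation F C M} {v0 : M}
    {A st : Subgroup C}

/-- the functionals of the transvections of `A_c` -/
def Ph (r : Representation F C M) (v0 : M) (A : Subgroup C) (c : C) : Set (M →ₗ[F] F) :=
  {φ | ∃ a ∈ A, ∀ m, r (c * a * c⁻¹) m = m + φ m • r c v0}

/-- the relation `#` -/
def Rel (r : Representation F C M) (v0 : M) (A : Subgroup C) (c d : C) : Prop :=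
  ∃ φ ∈ Ph r v0 A c, φ (r d v0) ≠ 0

theorem r_inv_apply (r : Representation F C M) (g : C) (m : M) : r g (r g⁻¹ m) = m := by
  rw [← Module.End.mul_apply, ← map_mul, mul_inv_cancel, map_one, Module.End.one_apply]

theorem r_inv_apply' (r : Representation F C M) (g : C) (m : M) : r g⁻¹ (r g m) = m := by
  rw [← Module.End.mul_apply, ← map_mul, inv_mul_cancel, map_one, Module.End.one_apply]

theorem r_mul (r : Representation F C M) (g k : C) (m : M) : r (g * k) m = r g (r k m) := by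
  rw [map_mul, Module.End.mul_apply]

theorem ph_conj {c : C} (g : C) {φ : M →ₗ[F] F} (hφ : φ ∈ Ph r v0 A c) : φ ∘ₗ r g⁻¹ ∈ Ph r v0 A (g * c) := by
  obtain ⟨a, ha, hae⟩ := hφ
  refine ⟨a, ha, fun m => ?_⟩
  have e : g * c * a * (g * c)⁻¹ = g * (c * a * c⁻¹) * g⁻¹ := by group
  rw [e, r_mul, r_mul, hae, map_add, map_smul, r_inv_apply, ← r_mul]
  rfl

theorem rel_conj {c d : C} (g : C) (h : Rel r v0 A c d) : Rel r v0 A (g * c) (g * d) := by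
  obtain ⟨φ, hφ, hne⟩ := h
  refine ⟨_, ph_conj g hφ, ?_⟩
  rw [LinearMap.comp_apply, r_mul, r_inv_apply']
  exact hne

theorem rel_conj' {c d : C} (g : C) : Rel r v0 A (g * c) (g * d) ↔ Rel r v0 A c d := by
  refine ⟨fun h => ?_, rel_conj g⟩
  have := rel_conj g⁻¹ h
  rwa [inv_mul_cancel_left, inv_mul_cancel_left] at this

section

variable (H : Mix r v0 A st)
include H

theorem ph_v {c : C} {φ : M →ₗ[F] F} (hφ : φ ∈ Ph r v0 A c) : φ (r c v0) = 0 := by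
  obtain ⟨a, ha, hae⟩ := hφ
  have h1 := hae (r c v0)
  have e : c * a * c⁻¹ = c * (a * c⁻¹) := by group
  rw [e, r_mul, r_mul, r_inv_apply', H.fix0 a ha, left_eq_add] at h1
  refine (smul_eq_zero.1 h1).resolve_right fun h2 => H.v0_ne ?_
  rw [← r_inv_apply' r c v0, h2, map_zero]

theorem ph_add {φ ψ : M →ₗ[F] F} (hφ : φ ∈ Ph r v0 A 1) (hψ : ψ ∈ Ph r v0 A 1) : φ + ψ ∈ Ph r v0 A 1 := by
  obtain ⟨a, ha, hae⟩ := hφ
  obtain ⟨b, hb, hbe⟩ := hψ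
  refine ⟨a * b, mul_mem ha hb, fun m => ?_⟩
  have ea : 1 * a * 1⁻¹ = a := by group
  have eb : 1 * b * 1⁻¹ = b := by group
  have eab : 1 * (a * b) * 1⁻¹ = a * b := by group
  rw [ea] at hae
  rw [eb] at hbe
  rw [eab, r_mul, hbe, map_add, map_smul, hae, map_one, Module.End.one_apply, H.fix0 a ha, LinearMap.add_apply, add_smul,
    add_assoc]

theorem ph_st {g : C} (hg : g ∈ st) {φ : M →ₗ[F] F} (hφ : φ ∈ Ph r v0 A g) : ∃ t : F, t ≠ 0 ∧ t • φ ∈ Ph r v0 A 1 := by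
  obtain ⟨t, ht, hgt⟩ := H.st_v g hg
  obtain ⟨a, ha, hae⟩ := hφ
  obtain ⟨a', ha', e⟩ := H.st_A g hg a ha
  refine ⟨t, ht, a', ha', fun m => ?_⟩
  have ea : 1 * a' * 1⁻¹ = a' := by group
  rw [ea, ← e, hae, hgt, map_one, Module.End.one_apply, LinearMap.smul_apply, smul_smul, smul_eq_mul, mul_comm]

theorem rel_st {g d : C} (hg : g ∈ st) (h : Rel r v0 A g d) : Rel r v0 A 1 d := by
  obtain ⟨φ, hφ, hne⟩ := h
  obtain ⟨t, ht, h1⟩ := H.ph_st hg hφ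
  exact ⟨_, h1, by rw [LinearMap.smul_apply, smul_eq_mul]; exact mul_ne_zero ht hne⟩

theorem rel_st' {g d : C} (hg : g ∈ st) : Rel r v0 A 1 (g * d) ↔ Rel r v0 A 1 d := by
  have key : ∀ {g d : C}, g ∈ st → Rel r v0 A 1 (g * d) → Rel r v0 A 1 d := by
    intro g d hg h
    have h1 := rel_conj g⁻¹ h
    rw [inv_mul_cancel_left, mul_one] at h1
    exact H.rel_st (inv_mem hg) h1
  refine ⟨key hg, fun h => ?_⟩
  refine key (inv_mem hg) ?_
  rwa [inv_mul_cancel_left]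

variable [Finite M] [Finite F]

theorem rel_symm1 {c : C} (h : Rel r v0 A 1 c) : Rel r v0 A c 1 := by
  by_contra hcon
  obtain ⟨φ, hφ, hx⟩ := h
  set x := φ (r c v0) with hxd
  have : Finite (M →ₗ[F] F) := Finite.of_injective (fun f => (f : M → F)) DFunLike.coe_injective
  -- `x • φ' ∘ c⁻¹ ∈ Ph 1` for `φ' ∈ Ph 1`
  have key : ∀ φ' ∈ Ph r v0 A 1, x • (φ' ∘ₗ r c⁻¹) ∈ Ph r v0 A 1 := by
    intro φ' hφ'
    have hψ : φ' ∘ₗ r c⁻¹ ∈ Ph r v0 A c := by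
      have := ph_conj c hφ'
      rwa [mul_one] at this
    set ψ := φ' ∘ₗ r c⁻¹ with hψd
    have hψ0 : ψ v0 = 0 := by
      by_contra hne
      exact hcon ⟨ψ, hψ, by rw [map_one, Module.End.one_apply]; exact hne⟩
    have hψc := H.ph_v hψ
    obtain ⟨b, hb, hbe⟩ := hψ
    have hbst : c * b * c⁻¹ ∈ st := by
      refine H.tv_st c b hb ?_
      rw [hbe, hψ0, zero_smul, add_zero]
    set g := c * b * c⁻¹ with hg
    have hgi : ∀ m, r g⁻¹ m = m - ψ m • r c v0 := by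
      intro m
      have h1 : r g (m - ψ m • r c v0) = m := by
        rw [hbe, map_sub, map_smul, hψc, smul_zero, sub_zero, sub_add_cancel]
      rw [← r_inv_apply' r g (m - ψ m • r c v0), h1]
    have hg0 : r g v0 = v0 := by rw [hbe, hψ0, zero_smul, add_zero]
    obtain ⟨a, ha, hae⟩ := hφ
    obtain ⟨a', ha', e⟩ := H.st_A g hbst a ha
    have ea : 1 * a * 1⁻¹ = a := by group
    rw [ea] at hae
    have h2 : φ + x • ψ ∈ Ph r v0 A 1 := by
      refine ⟨a', ha', fun m => ?_⟩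
      have ea' : 1 * a' * 1⁻¹ = a' := by group
      have e3 : φ (m - ψ m • r c v0) = (φ + x • ψ) m := by
        rw [map_sub, map_smul, ← hxd, LinearMap.add_apply, LinearMap.smul_apply, smul_eq_mul, smul_eq_mul]
        have h4 : ∀ y : F, -y = y := fun y => by
          have h5 : (y + y) • v0 = 0 := by rw [add_smul, H.two]
          exact neg_eq_of_add_eq_zero_left ((smul_eq_zero.1 h5).resolve_right H.v0_ne)
        rw [sub_eq_add_neg, h4, mul_comm]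
      rw [ea', ← e, r_mul, r_mul, hae, map_add, map_smul, r_inv_apply, map_one, Module.End.one_apply, hg0, hgi, e3]
    have h3 := H.ph_add ⟨a, ha, fun m => by rw [ea]; exact hae m⟩ h2
    have h4 : φ + (φ + x • ψ) = x • ψ := by
      have h5 : φ + φ = 0 := by
        refine LinearMap.ext fun m => ?_
        rw [LinearMap.add_apply, LinearMap.zero_apply]
        have h5 : (φ m + φ m) • v0 = 0 := by rw [add_smul, H.two]
        exact (smul_eq_zero.1 h5).resolve_right H.v0_ne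
      rw [← add_assoc, h5, zero_add]
    rwa [h4] at h3
  let f : Ph r v0 A 1 → Ph r v0 A 1 := fun φ' => ⟨x • ((φ' : M →ₗ[F] F) ∘ₗ r c⁻¹), key φ' φ'.2⟩
  have hf : Function.Injective f := by
    rintro ⟨φ₁, h1⟩ ⟨φ₂, h2⟩ h12
    have h3 : x • (φ₁ ∘ₗ r c⁻¹) = x • (φ₂ ∘ₗ r c⁻¹) := congrArg Subtype.val h12
    apply Subtype.ext
    refine LinearMap.ext fun m => ?_
    have h4 := congrArg (fun g => g (r c m)) h3
    simp only [LinearMap.smul_apply, LinearMap.comp_apply, smul_eq_mul] at h4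
    have h5 := mul_left_cancel₀ hx h4
    rw [r_inv_apply'] at h5
    exact h5
  obtain ⟨⟨φ', hφ'⟩, he⟩ := (Finite.injective_iff_surjective.1 hf) ⟨φ, hφ⟩
  have h1 : x • (φ' ∘ₗ r c⁻¹) = φ := congrArg Subtype.val he
  apply hx
  rw [hxd, ← h1, LinearMap.smul_apply, LinearMap.comp_apply, r_inv_apply']
  have h2 := H.ph_v hφ'
  rw [map_one, Module.End.one_apply] at h2
  rw [h2, smul_zero]

theorem rel_symm {c d : C} (h : Rel r v0 A c d) : Rel r v0 A d c := by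
  have h1 := rel_conj c⁻¹ h
  rw [inv_mul_cancel] at h1
  have h2 := rel_conj c (H.rel_symm1 h1)
  rwa [mul_inv_cancel_left, mul_one] at h2

/-- **(2)** : `m # l` ⟹ `[λ_m, A_l] ≤ λ_l` -/
theorem rel_theta {c : C} (h : Rel r v0 A 1 c) : ∀ a ∈ A, ∃ d : F, r a (r c v0) - r c v0 = d • v0 := by
  by_contra hcon
  push Not at hcon
  obtain ⟨a₁, ha₁, h₁⟩ := hcon
  obtain ⟨ψ, hψ, hψ0⟩ := H.rel_symm1 h
  rw [map_one, Module.End.one_apply] at hψ0
  obtain ⟨b, hb, hbe⟩ := hψ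
  obtain ⟨φ, ⟨a₀, ha₀, hae⟩, hφ⟩ := h
  have ea : 1 * a₀ * 1⁻¹ = a₀ := by group
  rw [ea, map_one, Module.End.one_apply] at hae
  set v := r c v0 with hv
  -- `ψ` is injective on `R`
  have hadd : ∀ a ∈ A, ∀ a' ∈ A, r (a * a') v - v = (r a v - v) + (r a' v - v) := by
    intro a ha a' ha'
    have h1 := H.quad a ha a' ha' v
    rw [map_sub] at h1
    rw [r_mul]
    have : r a (r a' v) = (r a' v - v) + r a v := by rw [← h1]; abel
    rw [this]; abel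
  have hinj : ∀ a ∈ A, ∀ a' ∈ A, ψ (r a v - v) = ψ (r a' v - v) → r a v - v = r a' v - v := by
    intro a ha a' ha' h1
    have h2 : ψ (r (a * a') v - v) = 0 := by
      rw [hadd a ha a' ha', map_add, h1]
      have h5 : (ψ (r a' v - v) + ψ (r a' v - v)) • v0 = 0 := by rw [add_smul, H.two]
      exact (smul_eq_zero.1 h5).resolve_right H.v0_ne
    have h3 := H.l1 c b hb ψ hbe hψ0 (a * a') (mul_mem ha ha') h2
    have h4 := hadd a ha a' ha'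
    rw [h3, sub_self] at h4
    have h5 := H.two (r a' v - v)
    exact add_right_cancel (h4.symm.trans h5.symm)
  choose a' ha' d hd using fun t : F => H.bl a₁ ha₁ t v
  have hne : ∀ t t' : F, r (a' t) v - v = r (a' t') v - v → t = t' := by
    intro t t' h1
    rw [hd, hd] at h1
    by_contra hne
    have h2 : t - t' ≠ 0 := sub_ne_zero.2 hne
    have h3 : (t - t') • (r a₁ v - v) = (d t' - d t) • v0 := by
      rw [sub_smul, sub_smul, sub_eq_sub_iff_add_eq_add, h1, add_comm]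
    refine h₁ ((t - t')⁻¹ * (d t' - d t)) ?_
    rw [mul_smul, ← h3, smul_smul, inv_mul_cancel₀ h2, one_smul]
  have hf : Function.Injective fun t => ψ (r (a' t) v - v) := by
    intro t t' h1
    exact hne t t' (hinj _ (ha' t) _ (ha' t') h1)
  have hs := Finite.injective_iff_surjective.1 hf
  have h0 : ∀ a ∈ A, (∃ e : F, r a v - v = e • v0) → r a v - v = r (a' 0) v - v := by
    rintro a ha ⟨e, he⟩
    obtain ⟨t, ht⟩ := hs (ψ (r a v - v))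
    have h1 := hinj _ (ha' t) _ ha ht
    by_cases ht0 : t = 0
    · rw [← h1, ht0]
    · exfalso
      rw [hd, he] at h1
      have h2 : t • (r a₁ v - v) = (e - d t) • v0 := by rw [sub_smul, ← h1]; abel
      refine h₁ (t⁻¹ * (e - d t)) ?_
      rw [mul_smul, ← h2, smul_smul, inv_mul_cancel₀ ht0, one_smul]
  have h1 := h0 a₀ ha₀ ⟨φ v, by rw [hae]; abel⟩
  have h2 := h0 1 (one_mem _) ⟨0, by rw [map_one, Module.End.one_apply, sub_self, zero_smul]⟩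
  rw [← h2, map_one, Module.End.one_apply, sub_self, hae, add_sub_cancel_left] at h1
  exact hφ ((smul_eq_zero.1 h1).resolve_right H.v0_ne)

/-- `Θ` -/
def Th (r : Representation F C M) (v0 : M) (A : Subgroup C) : Submodule F M where
  carrier := {w | ∀ a ∈ A, ∃ d : F, r a w - w = d • v0}
  zero_mem' := fun a _ => ⟨0, by rw [map_zero, sub_zero, zero_smul]⟩
  add_mem' := by
    intro x y hx hy a ha
    obtain ⟨d, hd⟩ := hx a ha
    obtain ⟨e, he⟩ := hy a ha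
    exact ⟨d + e, by rw [map_add, add_sub_add_comm, hd, he, add_smul]⟩
  smul_mem' := by
    intro t x hx a ha
    obtain ⟨d, hd⟩ := hx a ha
    exact ⟨t * d, by rw [map_smul, ← smul_sub, hd, smul_smul]⟩

/-- the component of `1` -/
def O (r : Representation F C M) (v0 : M) (A : Subgroup C) : Set C :=
  {e | Rel r v0 A 1 e ∨ ∃ m, Rel r v0 A 1 m ∧ Rel r v0 A m e}

/-- the trick -/
theorem trick {m e : C} (h1 : Rel r v0 A 1 m) (h2 : Rel r v0 A m e) (h3 : ¬ Rel r v0 A 1 e) :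
    ∃ (g : C) (t : F), Rel r v0 A 1 g ∧ r g v0 = r e v0 + t • r m v0 := by
  obtain ⟨ψ, ⟨b, hb, hbe⟩, hψ⟩ := h2
  have e1 : r (m * b * m⁻¹ * e) v0 = r e v0 + ψ (r e v0) • r m v0 := by rw [r_mul, hbe]
  refine ⟨m * b * m⁻¹ * e, ψ (r e v0), ?_, e1⟩
  obtain ⟨φ, hφ, hφm⟩ := h1
  refine ⟨φ, hφ, ?_⟩
  have h4 : φ (r e v0) = 0 := by
    by_contra hne
    exact h3 ⟨φ, hφ, hne⟩
  rw [e1, map_add, map_smul, h4, zero_add, smul_eq_mul]
  exact mul_ne_zero hψ hφm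

theorem O_theta {e : C} (he : e ∈ O r v0 A) : r e v0 ∈ Th r v0 A := by
  by_cases h1 : Rel r v0 A 1 e
  · exact H.rel_theta h1
  rcases he with h2 | ⟨m, hm, hme⟩
  · exact absurd h2 h1
  obtain ⟨g, t, hg, hge⟩ := H.trick hm hme h1
  have h2 : r g v0 ∈ Th r v0 A := H.rel_theta hg
  have h3 : r m v0 ∈ Th r v0 A := H.rel_theta hm
  have h4 : r e v0 = r g v0 - t • r m v0 := by rw [hge]; abel
  rw [h4]
  exact sub_mem h2 ((Th r v0 A).smul_mem t h3)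

theorem O_closed {e e' : C} (he : e ∈ O r v0 A) (h : Rel r v0 A e e') : e' ∈ O r v0 A := by
  by_cases h1 : Rel r v0 A 1 e
  · exact Or.inr ⟨e, h1, h⟩
  rcases he with h2 | ⟨m, hm, hme⟩
  · exact absurd h2 h1
  by_cases h3 : Rel r v0 A m e'
  · exact Or.inr ⟨m, hm, h3⟩
  obtain ⟨g, t, hg, hge⟩ := H.trick hm hme h1
  refine Or.inr ⟨g, hg, H.rel_symm ?_⟩
  obtain ⟨χ, hχ, hχe⟩ := H.rel_symm h
  refine ⟨χ, hχ, ?_⟩
  have h4 : χ (r m v0) = 0 := by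
    by_contra hne
    exact h3 (H.rel_symm ⟨χ, hχ, hne⟩)
  rw [hge, map_add, map_smul, h4, smul_zero, add_zero]
  exact hχe

theorem O_st {g e : C} (hg : g ∈ st) (he : g * e ∈ O r v0 A) : e ∈ O r v0 A := by
  rcases he with h1 | ⟨m, hm, hme⟩
  · exact Or.inl ((H.rel_st' hg).1 h1)
  · refine Or.inr ⟨g⁻¹ * m, (H.rel_st' (inv_mem hg)).2 hm, ?_⟩
    have := rel_conj g⁻¹ hme
    rwa [inv_mul_cancel_left] at this

/-- **THEOREM T**, pure form -/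
theorem main (hex : ∃ φ ∈ Ph r v0 A 1, φ ≠ 0) : ∀ a ∈ A, ∀ m, ∃ d : F, r a m - m = d • v0 := by
  -- a neighbour
  obtain ⟨m, hm⟩ : ∃ m, Rel r v0 A 1 m := by
    by_contra hcon
    push Not at hcon
    obtain ⟨φ, hφ, hne⟩ := hex
    apply hne
    refine LinearMap.ext_on_range (v := fun c => r c v0) H.span fun c => ?_
    by_contra h1
    exact hcon c ⟨φ, hφ, h1⟩
  obtain ⟨ψ, hψ, hψ0⟩ := H.rel_symm1 hm
  rw [map_one, Module.End.one_apply] at hψ0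
  set N : Submodule F M := Submodule.span F {x | ∃ e, e ∉ O r v0 A ∧ r e v0 = x} with hN
  have hNst : ∀ g ∈ st, ∀ n ∈ N, r g n ∈ N := by
    intro g hg n hn
    induction hn using Submodule.span_induction with
    | mem x hx =>
      obtain ⟨e, he, rfl⟩ := hx
      refine Submodule.subset_span ⟨g * e, fun h1 => he (H.O_st hg h1), ?_⟩
      rw [r_mul]
    | zero => rw [map_zero]; exact zero_mem _
    | add x y _ _ hx hy => rw [map_add]; exact add_mem hx hy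
    | smul t x _ hx => rw [map_smul]; exact N.smul_mem t hx
  have hψN : ∀ n ∈ N, ψ n = 0 := by
    intro n hn
    induction hn using Submodule.span_induction with
    | mem x hx =>
      obtain ⟨e, he, rfl⟩ := hx
      by_contra hne
      exact he (Or.inr ⟨m, hm, ψ, hψ, hne⟩)
    | zero => rw [map_zero]
    | add x y _ _ hx hy => rw [map_add, hx, hy, add_zero]
    | smul t x _ hx => rw [map_smul, hx, smul_zero]
  have hNA : ∀ n ∈ N, ∀ a ∈ A, r a n = n := by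
    by_contra hcon
    push Not at hcon
    obtain ⟨n, hn, a, ha, hne⟩ := hcon
    exact hψ0 (hψN _ (H.fix N hNst ⟨n, hn, a, ha, hne⟩))
  have htop : (⊤ : Submodule F M) ≤ Th r v0 A := by
    rw [← H.span, Submodule.span_le]
    rintro _ ⟨e, rfl⟩
    by_cases he : e ∈ O r v0 A
    · exact H.O_theta he
    · intro a ha
      refine ⟨0, ?_⟩
      rw [zero_smul, sub_eq_zero]
      exact hNA _ (Submodule.subset_span ⟨e, he, rfl⟩) a ha
  intro a ha m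
  exact htop (Submodule.mem_top : m ∈ ⊤) a ha

end

end Mix

end Cfsg.Agent.Omega.NO3S.OneQ

end

section


/-!
# NO-3S, `OneSz` (`q ≥ 4`, `n = 1`): THEOREM T (bb OMEGA #20670, helper512)

* `Co.rz` : the representation of `C_G(Z)` on `MF`;
* `Co.l1` : LEMMA (1); `Co.mix` : the hypotheses of `Mix`;
* **`Co.ntr`** : if `[W_Z, W_Y] ≰ V`, then `A` contains no `λ`-transvection (`NTr V Z`).
-/

set_option autoImplicit false
set_option linter.unusedSectionVars false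

namespace Cfsg.Agent.Omega.NO3S.OneQ

open Subgroup Cfsg.Agent.Omega.NO3S.PT Cfsg.Agent.Omega.NoFF.Basic
open scoped Pointwise

universe u

variable {G : Type u} [Group G]

namespace Co

variable [Finite G] {F : Type*} [Field F] [CharP F 2] {S : Sylow 2 G} {B P V Z : Subgroup G} (h : Co F S B P V Z)

/-- the representation of `C_G(Z)` -/
noncomputable def rz : Representation F (centralizer (Z : Set G)) h.MF := h.rp.comp (Subgroup.inclusion h.C_le_hat)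

theorem rz_eq {g : G} (hg : g ∈ centralizer (Z : Set G)) : h.rz ⟨g, hg⟩ = h.rp ⟨g, h.C_le_hat hg⟩ := rfl

theorem rz_fm {g w : G} (hg : g ∈ centralizer (Z : Set G)) (hw : w ∈ ws V Z) :
    h.rz ⟨g, hg⟩ (h.fm ⟨w, hw⟩) = h.fm ⟨g * w * g⁻¹, h.W_conj (centralizer_le_normalizer _ hg) hw⟩ :=
  h.rp_fm' (h.C_le_hat hg) hw

theorem rz_mul {g k : G} (hg : g ∈ centralizer (Z : Set G)) (hk : k ∈ centralizer (Z : Set G)) (m : h.MF) :
    h.rz ⟨g * k, mul_mem hg hk⟩ m = h.rz ⟨g, hg⟩ (h.rz ⟨k, hk⟩ m) := by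
  have e : (⟨g * k, mul_mem hg hk⟩ : centralizer (Z : Set G)) = ⟨g, hg⟩ * ⟨k, hk⟩ := rfl
  rw [e, map_mul, Module.End.mul_apply]

/-- `[x, w]` in `MF` -/
theorem rz_comm {x w : G} (hx : x ∈ centralizer (Z : Set G)) (hw : w ∈ ws V Z) :
    ∃ hxw : x * w * x⁻¹ * w⁻¹ ∈ ws V Z, h.fm ⟨x * w * x⁻¹ * w⁻¹, hxw⟩ = h.rz ⟨x, hx⟩ (h.fm ⟨w, hw⟩) - h.fm ⟨w, hw⟩ := by
  have h1 := h.W_conj (centralizer_le_normalizer _ hx) hw
  refine ⟨mul_mem h1 (inv_mem hw), ?_⟩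
  rw [h.rz_fm hx hw, eq_sub_iff_add_eq, ← h.fm_mul]
  congr 1
  apply Subtype.ext
  show x * w * x⁻¹ * w⁻¹ * w = x * w * x⁻¹
  group

section

variable {c b : G} (hc : c ∈ centralizer (Z : Set G)) (hb : b ∈ ws V h.Yp)
include hc hb

/-- `c b c⁻¹` fixes `fm w` only if it commutes with `w` modulo `Z` -/
theorem zmem {w : G} (hw : w ∈ ws V Z) (hxC : c * b * c⁻¹ ∈ centralizer (Z : Set G))
    (he : h.rz ⟨c * b * c⁻¹, hxC⟩ (h.fm ⟨w, hw⟩) = h.fm ⟨w, hw⟩) :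
    c * b * c⁻¹ * w * (c * b * c⁻¹)⁻¹ * w⁻¹ ∈ Z := by
  obtain ⟨hxw, e⟩ := h.rz_comm hxC hw
  rw [he, sub_self] at e
  have h1 := (h.fm_eq_zero _).1 e
  have hcw : c⁻¹ * w * c ∈ ws V Z := by
    have := h.W_conj (centralizer_le_normalizer _ (inv_mem hc)) hw
    rwa [inv_inv] at this
  have h2 : b * (c⁻¹ * w * c) * b⁻¹ * (c⁻¹ * w * c)⁻¹ ∈ IV V Z := h.one.comm_mem h.pY h.one.self h.Yp_ne hb hcw
  have h3 := (mem_normalizer_iff.1 (norm_rd V Z (centralizer_le_normalizer _ (inv_mem hc))) _).1 h1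
  have e3 : c⁻¹ * (c * b * c⁻¹ * w * (c * b * c⁻¹)⁻¹ * w⁻¹) * c⁻¹⁻¹ = b * (c⁻¹ * w * c) * b⁻¹ * (c⁻¹ * w * c)⁻¹ := by group
  have h3' : b * (c⁻¹ * w * c) * b⁻¹ * (c⁻¹ * w * c)⁻¹ ∈ rd V Z := e3 ▸ h3
  have h4 := h.rd_inf_I ⟨h3', h2⟩
  have h5 := (mem_normalizer_iff.1 (centralizer_le_normalizer _ hc) _).1 h4
  have e4 : c * (b * (c⁻¹ * w * c) * b⁻¹ * (c⁻¹ * w * c)⁻¹) * c⁻¹ = c * b * c⁻¹ * w * (c * b * c⁻¹)⁻¹ * w⁻¹ := by group
  rwa [e4] at h5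

/-- **(NORM)** : if `x = c b c⁻¹` fixes the vector of the line `cj d V`, it normalises the line -/
theorem norm_line {d : G} (hd : d ∈ centralizer (Z : Set G)) (hxC : c * b * c⁻¹ ∈ centralizer (Z : Set G))
    (he : h.rz ⟨c * b * c⁻¹, hxC⟩ (h.rz ⟨d, hd⟩ h.v0) = h.rz ⟨d, hd⟩ h.v0) :
    c * b * c⁻¹ ∈ normalizer ((PT.cj d V : Subgroup G) : Set G) := by
  rw [← cj_eq_iff]
  refine eq_of_le_of_card_ge ?_ (card_cj _ _).ge
  intro w hw
  rw [mem_cj] at hw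
  set x := c * b * c⁻¹ with hx
  obtain ⟨v, hv, hvw⟩ : ∃ v ∈ V, x⁻¹ * w * x = d * v * d⁻¹ := ⟨_, mem_cj.1 hw, by group⟩
  obtain ⟨s, t, rfl⟩ := (h.mem_V v).1 hv
  have hvW := h.W_V s t
  have hw' : x⁻¹ * w * x ∈ ws V Z := by
    rw [hvw]
    exact h.W_conj (centralizer_le_normalizer _ hd) hvW
  have h1 : h.fm ⟨x⁻¹ * w * x, hw'⟩ = t • h.rz ⟨d, hd⟩ h.v0 := by
    rw [← map_smul, ← h.fm_e s t, h.rz_fm hd hvW]
    congr 1
    exact Subtype.ext hvw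
  have h2 : x * (x⁻¹ * w * x) * x⁻¹ * (x⁻¹ * w * x)⁻¹ ∈ Z :=
    h.zmem hc hb hw' hxC (by rw [h1, map_smul, he])
  have hdZ : PT.cj d Z = Z := cj_eq_iff.2 (centralizer_le_normalizer _ hd)
  have hZ : Z ≤ PT.cj d V := by
    rw [← hdZ]
    exact cj_le_cj.2 h.one.pl.ZV
  have e : w = x * (x⁻¹ * w * x) * x⁻¹ * (x⁻¹ * w * x)⁻¹ * (x⁻¹ * w * x) := by group
  rw [e]
  exact mul_mem (hZ h2) hw

end

/-- **LEMMA (1)** of #20670 -/
theorem l1 {c b a : G} (hc : c ∈ centralizer (Z : Set G)) (hb : b ∈ ws V h.Yp) (ha : a ∈ ws V h.Yp)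
    (hxC : c * b * c⁻¹ ∈ centralizer (Z : Set G)) (haC : a ∈ centralizer (Z : Set G)) (ψ : h.MF →ₗ[F] F)
    (hψ : ∀ m, h.rz ⟨c * b * c⁻¹, hxC⟩ m = m + ψ m • h.rz ⟨c, hc⟩ h.v0) (hψ0 : ψ h.v0 ≠ 0)
    (hs : ψ (h.rz ⟨a, haC⟩ (h.rz ⟨c, hc⟩ h.v0) - h.rz ⟨c, hc⟩ h.v0) = 0) :
    h.rz ⟨a, haC⟩ (h.rz ⟨c, hc⟩ h.v0) = h.rz ⟨c, hc⟩ h.v0 := by
  by_contra hcon
  set x := c * b * c⁻¹ with hx
  set vc := h.rz ⟨c, hc⟩ h.v0 with hvc
  set s := h.rz ⟨a, haC⟩ vc - vc with hsd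
  have hs0 : s ≠ 0 := fun e => hcon (sub_eq_zero.1 e)
  have hav : h.rz ⟨a, haC⟩ vc = vc + s := by rw [hsd]; abel
  have hbb := h.one.sq_W h.pY hb
  have haa := h.one.sq_W h.pY ha
  have hxx : x * x = 1 := by
    have e : x * x = c * (b * b) * c⁻¹ := by rw [hx]; group
    rw [e, hbb]; group
  have hxi : x⁻¹ = x := inv_eq_of_mul_eq_one_left hxx
  have hai : a⁻¹ = a := inv_eq_of_mul_eq_one_left haa
  have ha0 : h.rz ⟨a, haC⟩ h.v0 = h.v0 := by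
    have := h.rp_W_I h.pY ha (h.one.pl.V_le_IV (h.e_memV 0 1))
    exact this
  -- `ψ vc = 0`
  have hψc : ψ vc = 0 := by
    have h1 := hψ vc
    have e : h.rz ⟨x, hxC⟩ vc = vc := by
      have hbC := h.one.W_le_C h.pY hb
      have e1 : (⟨x, hxC⟩ : centralizer (Z : Set G)) = ⟨c, hc⟩ * (⟨b, hbC⟩ * ⟨c, hc⟩⁻¹) :=
        Subtype.ext (by show x = c * (b * c⁻¹); rw [hx]; group)
      have hb0 : h.rz ⟨b, hbC⟩ h.v0 = h.v0 := h.rp_W_I h.pY hb (h.one.pl.V_le_IV (h.e_memV 0 1))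
      rw [e1, hvc, Mix.r_mul, Mix.r_mul, Mix.r_inv_apply', hb0]
    rw [e, left_eq_add] at h1
    refine (smul_eq_zero.1 h1).resolve_right fun h2 => h.v0_ne ?_
    rw [← Mix.r_inv_apply' h.rz ⟨c, hc⟩ h.v0, ← hvc, h2, map_zero]
  -- step C: `s ∉ λ`
  have hslam : s ∉ h.lam := by
    intro h1
    rw [lam, Submodule.mem_span_singleton] at h1
    obtain ⟨t, ht⟩ := h1
    rw [← ht, map_smul, smul_eq_mul] at hs
    have h2 := (mul_eq_zero.1 hs).resolve_right hψ0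
    apply hs0
    rw [← ht, h2, zero_smul]
  -- the conjugate of `v ∈ V` under `z = x a x a`
  set z := x * a * x * a with hz
  have hzC : z ∈ centralizer (Z : Set G) := mul_mem (mul_mem (mul_mem hxC haC) hxC) haC
  have haV : a ∈ centralizer (V : Set G) := h.one.W_le_cent h.pY ha
  have key : ∀ p q : F, ∃ i, ∃ hi : i ∈ IV V Z, z * h.e p q * z⁻¹ = i * h.e p q ∧
      h.fm ⟨i, h.one.I_le_W' hi⟩ = (q * ψ h.v0) • s := by
    intro p q
    set v := h.e p q with hv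
    have hvW : v ∈ ws V Z := h.W_V p q
    obtain ⟨htW, hte⟩ := h.rz_comm hxC hvW
    set t := x * v * x⁻¹ * v⁻¹ with ht
    have hfv : h.fm ⟨v, hvW⟩ = q • h.v0 := h.fm_e p q
    have hft : h.fm ⟨t, htW⟩ = (q * ψ h.v0) • vc := by
      rw [hte, hψ, hfv, map_smul, smul_eq_mul]; abel
    -- `t ∈ cj c V`
    have htc : c⁻¹ * t * c ∈ V := by
      have hcv : c⁻¹ * v * c ∈ ws V Z := by
        have := h.W_conj (centralizer_le_normalizer _ (inv_mem hc)) hvW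
        rwa [inv_inv] at this
      have h2 : b * (c⁻¹ * v * c) * b⁻¹ * (c⁻¹ * v * c)⁻¹ ∈ IV V Z := h.one.comm_mem h.pY h.one.self h.Yp_ne hb hcv
      have e2 : c⁻¹ * t * c = b * (c⁻¹ * v * c) * b⁻¹ * (c⁻¹ * v * c)⁻¹ := by rw [ht, hx]; group
      rw [e2, ← h.fm_mem_lam_I h2]
      have e3 : h.fm ⟨b * (c⁻¹ * v * c) * b⁻¹ * (c⁻¹ * v * c)⁻¹, h.one.I_le_W' h2⟩ =
          h.rz ⟨c⁻¹, inv_mem hc⟩ (h.fm ⟨t, htW⟩) := by
        rw [h.rz_fm (inv_mem hc) htW]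
        congr 1
        apply Subtype.ext
        show b * (c⁻¹ * v * c) * b⁻¹ * (c⁻¹ * v * c)⁻¹ = c⁻¹ * t * c⁻¹⁻¹
        rw [inv_inv, e2]
      have e4 : h.rz ⟨c⁻¹, inv_mem hc⟩ vc = h.v0 := Mix.r_inv_apply' h.rz ⟨c, hc⟩ h.v0
      rw [e3, hft, map_smul, e4]
      exact h.lam.smul_mem _ (Submodule.mem_span_singleton_self _)
    -- `i' = [a, t] ∈ I`
    have hi' : a * t * a⁻¹ * t⁻¹ ∈ IV V Z := h.one.comm_mem h.pY h.one.self h.Yp_ne ha htW
    set i' := a * t * a⁻¹ * t⁻¹ with hi'd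
    have hi'W := h.one.I_le_W' hi'
    have hfi : h.fm ⟨i', hi'W⟩ = (q * ψ h.v0) • s := by
      obtain ⟨hx1, e1⟩ := h.rz_comm haC htW
      have e2 : h.fm ⟨i', hi'W⟩ = h.fm ⟨a * t * a⁻¹ * t⁻¹, hx1⟩ := rfl
      rw [e2, e1, hft, map_smul, hav, smul_add]; abel
    have hj : x * i' * x⁻¹ * i'⁻¹ ∈ Z := by
      refine h.zmem hc hb hi'W hxC ?_
      rw [hψ, hfi, map_smul, hs, smul_zero, zero_smul, add_zero]
    set j := x * i' * x⁻¹ * i'⁻¹ with hjd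
    have hjI : j ∈ IV V Z := h.one.pl.V_le_IV (h.one.pl.ZV hj)
    refine ⟨j * i', mul_mem hjI hi', ?_, ?_⟩
    · have e1 : a * v * a⁻¹ = v := by
        rw [h.one.cent_V haV (h.e_memV p q), mul_inv_cancel_right]
      have e2 : x * v * x⁻¹ = t * v := by rw [ht]; group
      have e3 : a * (t * v) * a⁻¹ = i' * t * v := by
        have : a * (t * v) * a⁻¹ = (a * t * a⁻¹) * (a * v * a⁻¹) := by group
        rw [this, e1, hi'd]; group
      have e4 : x * t * x⁻¹ = t := by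
        have h5 : b * (c⁻¹ * t * c) = c⁻¹ * t * c * b := h.one.cent_V (h.one.W_le_cent h.pY hb) htc
        have h6 : x * t * x⁻¹ = c * (b * (c⁻¹ * t * c) * b⁻¹) * c⁻¹ := by rw [hx]; group
        rw [h6, h5]; group
      have htt : t * t = 1 := h.one.sq_W h.one.self htW
      have e5 : z * v * z⁻¹ = x * (a * (x * (a * v * a⁻¹) * x⁻¹) * a⁻¹) * x⁻¹ := by rw [hz]; group
      rw [e5, e1, e2, e3]
      have e6 : x * (i' * t * v) * x⁻¹ = j * i' * (x * t * x⁻¹) * (x * v * x⁻¹) := by rw [hjd]; group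
      rw [e6, e4, e2]
      calc j * i' * t * (t * v) = j * i' * (t * t) * v := by group
        _ = j * i' * v := by rw [htt, mul_one]
    · have hjW := h.one.I_le_W' hjI
      have e1 : h.fm ⟨j * i', h.one.I_le_W' (mul_mem hjI hi')⟩ = h.fm ⟨j, hjW⟩ + h.fm ⟨i', hi'W⟩ :=
        h.fm_mul ⟨j, hjW⟩ ⟨i', hi'W⟩
      rw [e1, hfi, (h.fm_eq_zero _).2 (h.Z_le_rd hj), zero_add]
  -- step B
  obtain ⟨i₀, hi₀, he₀, hf₀⟩ := key 0 1
  rw [one_mul] at hf₀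
  set u := z * h.e 0 1 * z⁻¹ with hu
  have huI : u ∈ IV V Z := by
    rw [he₀]
    exact mul_mem hi₀ (h.one.pl.V_le_IV (h.e_memV 0 1))
  have hfu : h.fm ⟨u, h.one.I_le_W' huI⟩ = ψ h.v0 • s + h.v0 := by
    have e1 : h.fm ⟨u, h.one.I_le_W' huI⟩ = h.fm (⟨i₀, h.one.I_le_W' hi₀⟩ * ⟨h.e 0 1, h.W_V 0 1⟩) := by
      congr 1
      exact Subtype.ext he₀
    rw [e1, h.fm_mul, hf₀]
    rfl
  have hzv : h.rz ⟨z, hzC⟩ h.v0 = ψ h.v0 • s + h.v0 := by
    rw [← hfu]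
    exact h.rz_fm hzC (h.W_V 0 1)
  -- step C
  have huV : u ∉ V := by
    intro h1
    rw [← h.fm_mem_lam_I huI, hfu] at h1
    have h2 := sub_mem h1 (Submodule.mem_span_singleton_self h.v0 : h.v0 ∈ h.lam)
    rw [add_sub_cancel_right] at h2
    have h3 := h.lam.smul_mem (ψ h.v0)⁻¹ h2
    rw [smul_smul, inv_mul_cancel₀ hψ0, one_smul] at h3
    exact hslam h3
  -- step D
  obtain ⟨k, hk, hkV, hku⟩ := h.one.pl.F2' h.one.hf h.one.hO huI huV h.pY.cj h.pY.le (h.e_memY 1)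
  have hkC : k ∈ centralizer (Z : Set G) := centralizer_le h.one.pl.ZV hkV
  have hdC : k * z ∈ centralizer (Z : Set G) := mul_mem hkC hzC
  set d := k * z with hdd
  have hdv : h.rz ⟨d, hdC⟩ h.v0 = ψ h.v0 • s := by
    have e1 : h.rz ⟨d, hdC⟩ h.v0 = h.rz ⟨k, hkC⟩ (h.fm ⟨u, h.one.I_le_W' huI⟩) := by
      rw [hfu, ← hzv, ← h.rz_mul hkC hzC]
    rw [e1, h.rz_fm hkC]
    have e2 : k * u * k⁻¹ = h.e 0 1 * u := by rw [← hku]; group
    have e3 : h.fm ⟨k * u * k⁻¹, h.W_conj (centralizer_le_normalizer _ hkC) (h.one.I_le_W' huI)⟩ =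
        h.fm (⟨h.e 0 1, h.W_V 0 1⟩ * ⟨u, h.one.I_le_W' huI⟩) := by
      congr 1
      exact Subtype.ext e2
    rw [e3, h.fm_mul, hfu]
    show h.v0 + (ψ h.v0 • s + h.v0) = ψ h.v0 • s
    rw [add_left_comm, h.add_self, add_zero]
  -- step E
  have hdI : PT.cj d V ≤ IV V Z := by
    intro w hw
    rw [mem_cj] at hw
    obtain ⟨p, q, hpq⟩ := (h.mem_V _).1 hw
    obtain ⟨i, hi, he, -⟩ := key p q
    have e1 : w = k * (z * h.e p q * z⁻¹) * k⁻¹ := by rw [hpq, hdd]; group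
    rw [e1, he]
    exact (mem_normalizer_iff.1 (normalizer_le_IV V Z (centralizer_le_normalizer _ hkV)) _).1
      (mul_mem hi (h.one.pl.V_le_IV (h.e_memV p q)))
  -- step F
  have hxN := h.norm_line hc hb hdC hxC (by rw [hdv, hψ, map_smul, hs, smul_zero, zero_smul, add_zero])
  -- step G
  have hVI : V ≤ PT.cj d (IV V Z) := by
    obtain ⟨L, hL, hYL, hdL⟩ := h.one.exists_line_of h.pY hdC hdI
    have hdZ : PT.cj d Z = Z := cj_eq_iff.2 (centralizer_le_normalizer _ hdC)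
    have h1 : h.Yp ≤ ws V (PT.cj d h.Yp) := hYL.trans (le_ws hL hdL)
    have h2 : Z ≤ ws V (PT.cj d h.Yp) := by
      have h3 : Z ≤ PT.cj d V := by
        rw [← hdZ]
        exact cj_le_cj.2 h.one.pl.ZV
      exact h3.trans (le_ws ⟨d, rfl⟩ (cj_le_cj.2 h.pY.le))
    rw [← h.one.pl.IV_eq h.one.hf h.one.self.cj h.one.self.le h.pY.cj h.pY.le h.Yp_ne.symm, cj_inf, ← ws_cj, ← ws_cj, hdZ]
    refine le_inf h.one.V_le_W' fun v hv => ?_
    obtain ⟨p, hp, q, hq, rfl⟩ := h.one.pl.exists_mul h.one.self.cj h.one.self.le h.pY.cj h.pY.le h.Yp_ne.symm hv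
    exact mul_mem (h2 hp) (h1 hq)
  -- step H
  have hadC : d * a * d⁻¹ ∈ centralizer (Z : Set G) := mul_mem (mul_mem hdC haC) (inv_mem hdC)
  have hyC : x * (d * a * d⁻¹) * x⁻¹ ∈ centralizer (Z : Set G) := mul_mem (mul_mem hxC hadC) (inv_mem hxC)
  have hy0 : h.rz ⟨x * (d * a * d⁻¹) * x⁻¹, hyC⟩ h.v0 = h.v0 := by
    have hn : d⁻¹ * x * d ∈ normalizer (V : Set G) := by
      rw [← cj_eq_iff]
      have h1 := cj_eq_iff.2 hxN
      rw [cj_cj] at h1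
      have h2 := congrArg (PT.cj d⁻¹) h1
      rw [cj_cj, cj_cj, inv_mul_cancel, cj_one] at h2
      rwa [← mul_assoc] at h2
    have hnC : d⁻¹ * x * d ∈ centralizer (Z : Set G) := mul_mem (mul_mem (inv_mem hdC) hxC) hdC
    obtain ⟨h3, h4⟩ := h.one.conj_pnt (centralizer_le_normalizer _ hnC) hn h.pY h.Yp_ne
    have h5 : d⁻¹ * x * d * a * (d⁻¹ * x * d)⁻¹ ∈ ws V (PT.cj (d⁻¹ * x * d) h.Yp) := by
      rw [ws_cj]
      exact conj_mem_cj ha
    have h6 : d⁻¹ * h.e 0 1 * d ∈ IV V Z := mem_cj.1 (hVI (h.e_memV 0 1))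
    have h7 := h.one.I_comm_W h3 h6 h5
    have h8 : x * (d * a * d⁻¹) * x⁻¹ * h.e 0 1 * (x * (d * a * d⁻¹) * x⁻¹)⁻¹ = h.e 0 1 := by
      have e1 : x * (d * a * d⁻¹) * x⁻¹ * h.e 0 1 * (x * (d * a * d⁻¹) * x⁻¹)⁻¹ =
          d * ((d⁻¹ * x * d * a * (d⁻¹ * x * d)⁻¹) * (d⁻¹ * h.e 0 1 * d)) * (d⁻¹ * x * d * a * (d⁻¹ * x * d)⁻¹)⁻¹ * d⁻¹ := by
        group
      rw [e1, ← h7]; group
    have e2 : h.rz ⟨x * (d * a * d⁻¹) * x⁻¹, hyC⟩ h.v0 = _ := h.rz_fm hyC (h.W_V 0 1)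
    rw [e2]
    show _ = h.fm ⟨h.e 0 1, h.W_V 0 1⟩
    congr 1
    exact Subtype.ext h8
  -- step I
  have hX2 : ∀ m, h.rz ⟨x, hxC⟩ (h.rz ⟨x, hxC⟩ m) = m := by
    intro m
    rw [← h.rz_mul hxC hxC]
    have e : (⟨x * x, mul_mem hxC hxC⟩ : centralizer (Z : Set G)) = 1 := Subtype.ext hxx
    rw [e, map_one, Module.End.one_apply]
  have hA2 : ∀ m, h.rz ⟨a, haC⟩ (h.rz ⟨a, haC⟩ m) = m := by
    intro m
    rw [← h.rz_mul haC haC]
    have e : (⟨a * a, mul_mem haC haC⟩ : centralizer (Z : Set G)) = 1 := Subtype.ext haa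
    rw [e, map_one, Module.End.one_apply]
  have hzm : ∀ m, h.rz ⟨z, hzC⟩ m = h.rz ⟨x, hxC⟩ (h.rz ⟨a, haC⟩ (h.rz ⟨x, hxC⟩ (h.rz ⟨a, haC⟩ m))) := by
    intro m
    rw [← h.rz_mul hxC haC, ← h.rz_mul (mul_mem hxC haC) hxC, ← h.rz_mul (mul_mem (mul_mem hxC haC) hxC) haC]
  have hcm : ∀ m, h.rz ⟨x, hxC⟩ (h.rz ⟨a, haC⟩ (h.rz ⟨x, hxC⟩ (h.rz ⟨a, haC⟩ m))) =
      h.rz ⟨a, haC⟩ (h.rz ⟨x, hxC⟩ (h.rz ⟨a, haC⟩ (h.rz ⟨x, hxC⟩ m))) := by
    intro m
    have hab : ∀ m, h.rz ⟨a, haC⟩ (h.rz ⟨x, hxC⟩ (h.rz ⟨a, haC⟩ m)) = m + ψ (h.rz ⟨a, haC⟩ m) • (vc + s) := by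
      intro m
      rw [hψ, map_add, map_smul, hA2, hav]
    rw [hab, hab, hψ, hψ, map_add, map_smul, map_add, hψc, hs, map_add, map_smul, hav, map_add ψ _ (ψ m • (vc + s)),
      map_smul, map_add, hψc, hs]
    simp only [add_zero, smul_zero]
    exact add_right_comm _ _ _
  have hda : ∀ m, h.rz ⟨d * a * d⁻¹, hadC⟩ m = h.rz ⟨a, haC⟩ m := by
    have h1 : ∀ m, h.rz ⟨z, hzC⟩ (h.rz ⟨a, haC⟩ m) = h.rz ⟨a, haC⟩ (h.rz ⟨z, hzC⟩ m) := by
      intro m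
      rw [hzm, hA2, hzm, ← hcm, hA2]
    have h2 : ∀ m, h.rz ⟨k, hkC⟩ (h.rz ⟨a, haC⟩ m) = h.rz ⟨a, haC⟩ (h.rz ⟨k, hkC⟩ m) := by
      intro m
      exact congrArg (fun f => f m) (h.yl_A (mem_yl_of h.pY hk hkV) ha)
    have h3 : ∀ m, h.rz ⟨d, hdC⟩ (h.rz ⟨a, haC⟩ m) = h.rz ⟨a, haC⟩ (h.rz ⟨d, hdC⟩ m) := by
      intro m
      have e1 : ∀ m, h.rz ⟨d, hdC⟩ m = h.rz ⟨k, hkC⟩ (h.rz ⟨z, hzC⟩ m) := fun m => h.rz_mul hkC hzC m
      rw [e1, h1, h2, ← e1]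
    intro m
    have e : (⟨d * a * d⁻¹, hadC⟩ : centralizer (Z : Set G)) = ⟨d, hdC⟩ * (⟨a, haC⟩ * ⟨d, hdC⟩⁻¹) :=
      Subtype.ext (by show d * a * d⁻¹ = d * (a * d⁻¹); group)
    rw [e, Mix.r_mul, Mix.r_mul, h3, Mix.r_inv_apply]
  -- step J
  have hfin : h.rz ⟨x, hxC⟩ (h.rz ⟨a, haC⟩ (h.rz ⟨x, hxC⟩ h.v0)) = h.v0 := by
    have e : (⟨x * (d * a * d⁻¹) * x⁻¹, hyC⟩ : centralizer (Z : Set G)) = ⟨x, hxC⟩ * (⟨d * a * d⁻¹, hadC⟩ * ⟨x, hxC⟩⁻¹) :=
      Subtype.ext (by show x * (d * a * d⁻¹) * x⁻¹ = x * (d * a * d⁻¹ * x⁻¹); group)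
    have e2 : h.rz ⟨x, hxC⟩⁻¹ h.v0 = h.rz ⟨x, hxC⟩ h.v0 := by
      rw [← Mix.r_inv_apply' h.rz ⟨x, hxC⟩ (h.rz ⟨x, hxC⟩ h.v0), hX2]
    rw [e, Mix.r_mul, Mix.r_mul, e2, hda] at hy0
    exact hy0
  have h9 := hzm h.v0
  rw [ha0, hfin, hzv, add_eq_right] at h9
  exact hs0 ((smul_eq_zero.1 h9).resolve_left hψ0)

/-- the group `A` in `C_G(Z)` -/
def AC : Subgroup (centralizer (Z : Set G)) := (ws V h.Yp).subgroupOf _

theorem mem_AC {a : centralizer (Z : Set G)} : a ∈ h.AC ↔ (a : G) ∈ ws V h.Yp := mem_subgroupOf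

/-- the hypotheses of `Mix` -/
theorem mix : Mix h.rz h.v0 h.AC ((normalizer (V : Set G)).subgroupOf (centralizer (Z : Set G))) where
  two := h.add_self
  v0_ne := h.v0_ne
  span := by
    set N := Submodule.span F (Set.range fun c => h.rz c h.v0) with hN
    let D : Subgroup G :=
      { carrier := {w | ∃ hw : w ∈ ws V Z, h.fm ⟨w, hw⟩ ∈ N}
        one_mem' := ⟨one_mem _, by
          have e : h.fm ⟨1, one_mem _⟩ = 0 := h.fm_one
          rw [e]; exact zero_mem _⟩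
        mul_mem' := by
          rintro a b ⟨ha, ha'⟩ ⟨hb, hb'⟩
          refine ⟨mul_mem ha hb, ?_⟩
          have e : h.fm ⟨a * b, mul_mem ha hb⟩ = h.fm ⟨a, ha⟩ + h.fm ⟨b, hb⟩ := h.fm_mul ⟨a, ha⟩ ⟨b, hb⟩
          rw [e]
          exact add_mem ha' hb'
        inv_mem' := by
          rintro a ⟨ha, ha'⟩
          refine ⟨inv_mem ha, ?_⟩
          have e : h.fm ⟨a⁻¹, inv_mem ha⟩ = h.fm ⟨a, ha⟩ := h.fm_inv ⟨a, ha⟩
          rw [e]
          exact ha' }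
    have h0 : h.v0 ∈ N := Submodule.subset_span ⟨1, by
      show h.rz 1 h.v0 = h.v0
      rw [map_one]; rfl⟩
    have hV : V ≤ D := by
      intro v hv
      obtain ⟨p, q, rfl⟩ := (h.mem_V v).1 hv
      exact ⟨h.W_V p q, by rw [h.fm_e]; exact N.smul_mem q h0⟩
    have hNC : ∀ (g : centralizer (Z : Set G)), ∀ n ∈ N, h.rz g n ∈ N := by
      intro g n hn
      induction hn using Submodule.span_induction with
      | mem x hx =>
        obtain ⟨c, rfl⟩ := hx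
        exact Submodule.subset_span ⟨g * c, Mix.r_mul _ _ _ _⟩
      | zero => rw [map_zero]; exact zero_mem _
      | add x y _ _ hx hy => rw [map_add]; exact add_mem hx hy
      | smul t x _ hx => rw [map_smul]; exact N.smul_mem t hx
    have hD : centralizer (Z : Set G) ≤ normalizer (D : Set G) := by
      have key : ∀ g ∈ centralizer (Z : Set G), ∀ w ∈ D, g * w * g⁻¹ ∈ D := by
        rintro g hg w ⟨hw, hwN⟩
        refine ⟨h.W_conj (centralizer_le_normalizer _ hg) hw, ?_⟩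
        rw [← h.rz_fm hg hw]
        exact hNC _ _ hwN
      intro g hg
      rw [mem_normalizer_iff]
      intro w
      refine ⟨key g hg w, fun hw => ?_⟩
      have h1 := key g⁻¹ (inv_mem hg) _ hw
      have e : g⁻¹ * (g * w * g⁻¹) * g⁻¹⁻¹ = w := by group
      rwa [e] at h1
    rw [eq_top_iff]
    rintro m -
    obtain ⟨w, rfl⟩ := h.fm_surj m
    obtain ⟨hw, hwN⟩ := h.W_le_of_V hV hD w.2
    exact hwN
  quad := fun a ha b hb m => h.rp_quad h.pY h.Yp_ne (h.mem_AC.1 ha) (h.mem_AC.1 hb) m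
  fix0 := fun a ha => h.rp_W_I h.pY (h.mem_AC.1 ha) (h.one.pl.V_le_IV (h.e_memV 0 1))
  st_v := by
    rintro ⟨g, hg⟩ hgN
    rw [mem_subgroupOf] at hgN
    obtain ⟨p, q, hpq⟩ := (h.mem_V _).1 ((mem_normalizer_iff.1 hgN _).1 (h.e_memV 0 1))
    have e : h.rz ⟨g, hg⟩ h.v0 = q • h.v0 := by
      have e1 : h.rz ⟨g, hg⟩ h.v0 = _ := h.rz_fm hg (h.W_V 0 1)
      rw [e1, ← h.fm_e p q]
      congr 1
      exact Subtype.ext hpq.symm
    refine ⟨q, ?_, e⟩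
    rintro rfl
    rw [zero_smul] at e
    exact h.v0_ne (by rw [← Mix.r_inv_apply' h.rz ⟨g, hg⟩ h.v0, e, map_zero])
  st_A := by
    rintro ⟨g, hg⟩ hgN ⟨a, haC⟩ ha
    rw [mem_subgroupOf] at hgN
    rw [mem_AC] at ha
    obtain ⟨h3, h4⟩ := h.one.conj_pnt (centralizer_le_normalizer _ hg) hgN h.pY h.Yp_ne
    obtain ⟨k, hk, hkY⟩ := h.one.move h.one.self h3 h.pY h4 h.Yp_ne
    have hkC : k ∈ centralizer (Z : Set G) := kx_le_cent hk
    have h5 : k * (g * a * g⁻¹) * k⁻¹ ∈ ws V h.Yp := by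
      rw [← hkY, ws_cj, ws_cj]
      exact conj_mem_cj (conj_mem_cj ha)
    refine ⟨⟨k * (g * a * g⁻¹) * k⁻¹, h.one.W_le_C h.pY h5⟩, h.mem_AC.2 h5, ?_⟩
    have hk1 : h.rz ⟨k, hkC⟩ = 1 := h.rp_one_of hk _
    have e : (⟨k * (g * a * g⁻¹) * k⁻¹, h.one.W_le_C h.pY h5⟩ : centralizer (Z : Set G)) =
        ⟨k, hkC⟩ * (⟨g, hg⟩ * ⟨a, haC⟩ * ⟨g, hg⟩⁻¹) * ⟨k, hkC⟩⁻¹ := Subtype.ext rfl
    have hk2 : h.rz ⟨k, hkC⟩⁻¹ = 1 := by
      have := h.rz.map_mul ⟨k, hkC⟩ ⟨k, hkC⟩⁻¹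
      rw [mul_inv_cancel, map_one, hk1, one_mul] at this
      exact this.symm
    have e3 : h.rz (⟨k, hkC⟩ * (⟨g, hg⟩ * ⟨a, haC⟩ * ⟨g, hg⟩⁻¹) * ⟨k, hkC⟩⁻¹) = h.rz (⟨g, hg⟩ * ⟨a, haC⟩ * ⟨g, hg⟩⁻¹) := by
      rw [map_mul, map_mul, hk1, hk2, one_mul, mul_one]
    rw [e]
    exact e3.symm
  tv_st := by
    rintro ⟨c, hc⟩ ⟨a, haC⟩ ha he
    rw [mem_AC] at ha
    rw [mem_subgroupOf]
    have hxC : c * a * c⁻¹ ∈ centralizer (Z : Set G) := mul_mem (mul_mem hc haC) (inv_mem hc)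
    have h1 := h.norm_line hc ha (one_mem _) hxC (by
      have e1 : (⟨1, one_mem _⟩ : centralizer (Z : Set G)) = 1 := rfl
      rw [e1, map_one, Module.End.one_apply]
      exact he)
    rwa [cj_one] at h1
  l1 := by
    rintro ⟨c, hc⟩ ⟨b, hbC⟩ hb ψ hψ hψ0 ⟨a, haC⟩ ha hs
    exact h.l1 hc (h.mem_AC.1 hb) (h.mem_AC.1 ha) (mul_mem (mul_mem hc hbC) (inv_mem hc)) haC ψ hψ hψ0 hs
  bl := by
    rintro ⟨a, haC⟩ ha t m
    rw [mem_AC] at ha
    have hwW := h.sw_inv_W ha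
    obtain ⟨x, rfl⟩ := h.fm_surj m
    obtain ⟨w', hw'⟩ := h.fm_surj (t • h.fm ⟨_, hwW⟩)
    have h1 := h.ag_symm w' x
    have h2 := h.ag_symm ⟨_, hwW⟩ x
    have e1 : h.ag ⟨_, hwW⟩ = h.rz ⟨a, haC⟩ := by
      rw [ag, rz_eq]
      congr 1
      apply Subtype.ext
      show h.sw * (h.sw⁻¹ * a * h.sw) * h.sw⁻¹ = a
      group
    refine ⟨⟨h.sw * w' * h.sw⁻¹, h.one.W_le_C h.pY (h.sw_W w'.2)⟩, h.mem_AC.2 (h.sw_W w'.2), ?_⟩
    have e2 : h.rz ⟨h.sw * w' * h.sw⁻¹, h.one.W_le_C h.pY (h.sw_W w'.2)⟩ = h.ag w' := rfl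
    rw [e2, ← e1]
    have h3 := sub_mem (h.lam.smul_mem t h2) h1
    have h4 : h.ag w' (h.fm x) - h.fm x - t • (h.ag ⟨_, hwW⟩ (h.fm x) - h.fm x) ∈ h.lam := by
      have e3 : t • ((h.ag x (h.fm ⟨_, hwW⟩) - h.fm ⟨_, hwW⟩) - (h.ag ⟨_, hwW⟩ (h.fm x) - h.fm x)) -
          ((h.ag x (h.fm w') - h.fm w') - (h.ag w' (h.fm x) - h.fm x)) =
          h.ag w' (h.fm x) - h.fm x - t • (h.ag ⟨_, hwW⟩ (h.fm x) - h.fm x) := by
        rw [hw', map_smul]
        have e4 : ∀ (p q : h.MF), t • (p - q) = t • p - t • q := fun p q => smul_sub _ _ _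
        rw [e4, e4]
        abel
      rw [← e3]
      exact h3
    rw [lam, Submodule.mem_span_singleton] at h4
    obtain ⟨d, hd⟩ := h4
    exact ⟨d, by rw [hd]; abel⟩
  fix := by
    rintro N hN ⟨n, hn, ⟨a, haC⟩, ha, hne⟩
    rw [mem_AC] at ha
    let D : Subgroup G :=
      { carrier := {w | ∃ hw : w ∈ IV V Z, h.fm ⟨w, h.one.I_le_W' hw⟩ ∈ N}
        one_mem' := ⟨one_mem _, by
          have e : h.fm ⟨1, h.one.I_le_W' (one_mem _)⟩ = 0 := h.fm_one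
          rw [e]; exact zero_mem _⟩
        mul_mem' := by
          rintro a b ⟨ha, ha'⟩ ⟨hb, hb'⟩
          refine ⟨mul_mem ha hb, ?_⟩
          have e : h.fm ⟨a * b, h.one.I_le_W' (mul_mem ha hb)⟩ = h.fm ⟨a, h.one.I_le_W' ha⟩ + h.fm ⟨b, h.one.I_le_W' hb⟩ :=
            h.fm_mul ⟨a, h.one.I_le_W' ha⟩ ⟨b, h.one.I_le_W' hb⟩
          rw [e]
          exact add_mem ha' hb'
        inv_mem' := by
          rintro a ⟨ha, ha'⟩
          refine ⟨inv_mem ha, ?_⟩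
          have e : h.fm ⟨a⁻¹, h.one.I_le_W' (inv_mem ha)⟩ = h.fm ⟨a, h.one.I_le_W' ha⟩ := h.fm_inv ⟨a, h.one.I_le_W' ha⟩
          rw [e]
          exact ha' }
    have hDI : D ≤ IV V Z := fun w hw => hw.1
    have hDB : B ≤ normalizer (D : Set G) := by
      have key : ∀ g ∈ B, ∀ w ∈ D, g * w * g⁻¹ ∈ D := by
        rintro g hg w ⟨hw, hwN⟩
        have hgC := h.one.B_le_C hg
        refine ⟨(mem_normalizer_iff.1 (normalizer_le_IV V Z (h.one.B_norm_V hg)) _).1 hw, ?_⟩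
        have e : h.rz ⟨g, hgC⟩ (h.fm ⟨w, h.one.I_le_W' hw⟩) = _ := h.rz_fm hgC (h.one.I_le_W' hw)
        rw [← e]
        exact hN _ (mem_subgroupOf.2 (h.one.B_norm_V hg)) _ hwN
      intro g hg
      rw [mem_normalizer_iff]
      intro w
      refine ⟨key g hg w, fun hw => ?_⟩
      have h1 := key g⁻¹ (inv_mem hg) _ hw
      have e : g⁻¹ * (g * w * g⁻¹) * g⁻¹⁻¹ = w := by group
      rwa [e] at h1
    have hDZ : ¬ D ≤ Z := by
      intro h1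
      obtain ⟨w, rfl⟩ := h.fm_surj n
      obtain ⟨u, hu, hu', e⟩ := h.rp_W h.pY h.Yp_ne ha w
      have h2 : u ∈ D := by
        refine ⟨hu, ?_⟩
        rw [← e]
        have h3 : h.rz ⟨a, haC⟩ (h.fm w) ∈ N := by
          refine hN _ (mem_subgroupOf.2 ?_) _ hn
          exact centralizer_le_normalizer _ (h.one.W_le_cent h.pY ha)
        exact sub_mem h3 hn
      have h3 := (h.fm_eq_zero ⟨u, h.one.I_le_W' hu⟩).2 (h.Z_le_rd (h1 h2))
      rw [h3, sub_eq_zero] at e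
      exact hne e
    obtain ⟨v, ⟨hvI, hvN⟩, hvV, hvZ⟩ := h.one.fix_sub hDI hDB hDZ
    obtain ⟨p, q, rfl⟩ := (h.mem_V v).1 hvV
    have hq : q ≠ 0 := fun e => hvZ (h.e_memZ_iff.2 e)
    have e : h.fm ⟨h.e p q, h.one.I_le_W' hvI⟩ = q • h.v0 := h.fm_e p q
    rw [e] at hvN
    have h1 := N.smul_mem q⁻¹ hvN
    rwa [smul_smul, inv_mul_cancel₀ hq, one_smul] at h1

include h in
/-- **THEOREM T** : if `[W_Z, W_Y] ≰ V`, then `A` contains no `λ`-transvection -/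
theorem ntr {Y : Subgroup G} (hY : Pnt V Z Y) (hne : Y ≠ Z)
    (hnt : ∃ w ∈ ws V Z, ∃ u ∈ ws V Y, w * u * w⁻¹ * u⁻¹ ∉ V) : NTr V Z := by
  intro T hT hTZ u hu huV
  by_contra hcon
  have hFin := h.finF
  have hMfin : Finite h.MF := Finite.of_surjective h.fm h.fm_surj
  -- move `T` to `Yp`
  obtain ⟨k, hk, hkT⟩ := h.one.move h.one.self hT h.pY hTZ h.Yp_ne
  have hkN := h.one.K_norm h.one.self hk
  have hkZ := centralizer_le_normalizer _ (kx_le_cent hk)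
  set a := k * u * k⁻¹ with had
  have ha : a ∈ ws V h.Yp := by
    rw [← hkT, ws_cj]
    exact conj_mem_cj hu
  have haC := h.one.W_le_C h.pY ha
  have haV : ∀ w ∈ ws V Z, a * w * a⁻¹ * w⁻¹ ∈ V := by
    intro w hw
    have h1 : k⁻¹ * w * k ∈ ws V Z := by
      have := h.W_conj (inv_mem hkZ) hw
      rwa [inv_inv] at this
    have h2 := (mem_normalizer_iff.1 hkN _).1 (huV _ h1)
    have e : k * (u * (k⁻¹ * w * k) * u⁻¹ * (k⁻¹ * w * k)⁻¹) * k⁻¹ = a * w * a⁻¹ * w⁻¹ := by rw [had]; group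
    rwa [e] at h2
  have haK : a ∉ kx V Z := by
    intro h1
    apply hcon
    have h2 : k⁻¹ * a * k ∈ kx V Z := h.K_conj hkZ h1
    have e : k⁻¹ * a * k = u := by rw [had]; group
    rwa [e] at h2
  have hlam : ∀ m, h.rz ⟨a, haC⟩ m - m ∈ h.lam := by
    intro m
    obtain ⟨w, rfl⟩ := h.fm_surj m
    obtain ⟨v, hv, hv', e⟩ := h.rp_W h.pY h.Yp_ne ha w
    have e1 : h.rz ⟨a, haC⟩ (h.fm w) - h.fm w = _ := e
    rw [e1, h.fm_mem_lam_I hv, hv']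
    exact haV w w.2
  obtain ⟨f, hf⟩ : ∃ f : h.MF →ₗ[F] F, f h.v0 = 1 := by
    obtain ⟨g, hg⟩ : ∃ g : Module.Dual F h.MF, g h.v0 ≠ 0 := by
      by_contra hc
      push Not at hc
      exact h.v0_ne ((Module.forall_dual_apply_eq_zero_iff F h.v0).1 hc)
    exact ⟨(g h.v0)⁻¹ • g, by rw [LinearMap.smul_apply, smul_eq_mul, inv_mul_cancel₀ hg]⟩
  set φ : h.MF →ₗ[F] F := f ∘ₗ (h.rz ⟨a, haC⟩ - 1) with hφ
  have hφe : ∀ m, h.rz ⟨a, haC⟩ m = m + φ m • h.v0 := by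
    intro m
    have h1 := hlam m
    rw [lam, Submodule.mem_span_singleton] at h1
    obtain ⟨t, ht⟩ := h1
    have h2 : φ m = t := by
      rw [hφ, LinearMap.comp_apply, LinearMap.sub_apply, Module.End.one_apply, ← ht, map_smul, hf, smul_eq_mul, mul_one]
    rw [h2, ht]; abel
  have hφ0 : φ ≠ 0 := by
    intro h0
    apply haK
    rw [mem_kx]
    refine ⟨fun z hz => (mem_centralizer_iff.1 haC z hz).symm, fun w hw => ?_⟩
    have h1 := h.one.comm_mem h.pY h.one.self h.Yp_ne ha hw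
    obtain ⟨hx, e⟩ := h.rz_comm haC hw
    rw [hφe, h0, LinearMap.zero_apply, zero_smul, add_zero, sub_self] at e
    exact h.rd_inf_I ⟨(h.fm_eq_zero _).1 e, h1⟩
  have hmain := h.mix.main ⟨φ, ⟨⟨a, haC⟩, h.mem_AC.2 ha, fun m => by
    have e : (1 : centralizer (Z : Set G)) * ⟨a, haC⟩ * 1⁻¹ = ⟨a, haC⟩ := by group
    rw [e, map_one, Module.End.one_apply]
    exact hφe m⟩, hφ0⟩
  -- the contradiction
  obtain ⟨w, hw, v, hv, hwv⟩ := hnt
  apply hwv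
  obtain ⟨l, hl, hlY⟩ := h.one.move h.one.self hY h.pY hne h.Yp_ne
  have hlN := h.one.K_norm h.one.self hl
  have hlZ := centralizer_le_normalizer _ (kx_le_cent hl)
  have hv' : l * v * l⁻¹ ∈ ws V h.Yp := by
    rw [← hlY, ws_cj]
    exact conj_mem_cj hv
  have hw' : l * w * l⁻¹ ∈ ws V Z := h.W_conj hlZ hw
  obtain ⟨d, hd⟩ := hmain ⟨l * v * l⁻¹, h.one.W_le_C h.pY hv'⟩ (h.mem_AC.2 hv') (h.fm ⟨_, hw'⟩)
  obtain ⟨i, hi, hi', e⟩ := h.rp_W h.pY h.Yp_ne hv' ⟨_, hw'⟩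
  have e1 : h.rz ⟨l * v * l⁻¹, h.one.W_le_C h.pY hv'⟩ (h.fm ⟨_, hw'⟩) - h.fm ⟨_, hw'⟩ = _ := e
  rw [e1] at hd
  have h1 : h.fm ⟨i, h.one.I_le_W' hi⟩ ∈ h.lam := by
    rw [hd]
    exact h.lam.smul_mem d (Submodule.mem_span_singleton_self _)
  rw [h.fm_mem_lam_I hi, hi'] at h1
  have h2 := (mem_normalizer_iff.1 (inv_mem hlN) _).1 (inv_mem h1)
  have e2 : l⁻¹ * (l * v * l⁻¹ * (l * w * l⁻¹) * (l * v * l⁻¹)⁻¹ * (l * w * l⁻¹)⁻¹)⁻¹ * l⁻¹⁻¹ = w * v * w⁻¹ * v⁻¹ := by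
    group
  rwa [e2] at h2

end Co

end Cfsg.Agent.Omega.NO3S.OneQ

end

section


/-!
# NO-3S, `OneQ`: the coordinates `Co` from the frame

* `exists_co_of` : `One S B P V Z`, `V` natural, `Z = F w` give `Co F S B P V Z`;
* `exists_co` : `HypJ S P`, `Uniq S P`, `V` natural, `|Z| = |F|`, (F1), critical distance 1 give `Co F S S P V Z`.
-/

set_option autoImplicit false
set_option linter.unusedSectionVars false
set_option maxHeartbeats 400000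

namespace Cfsg.Agent.Omega.NO3S.OneQ

open Subgroup Cfsg.Agent.Omega.NO3S.PT Cfsg.Agent.Omega.NatPair Cfsg.Agent.Lib.SL2Mat
open scoped Pointwise

universe u

variable {G : Type u} [Group G] [Finite G] {F : Type*} [Field F] [Finite F] [CharP F 2] {S : Sylow 2 G} {B P V Z : Subgroup G}

/-- a 2-element which centralises the line `F w` is a transvection -/
theorem tv_of {L : Type*} [Group L] {V : Subgroup L} (M : NatMod F V) {w : Fin 2 → F} (hw : w ≠ 0) {s : L}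
    (hsV : s ∈ normalizer (V : Set L)) (h2 : ∃ n : ℕ, s ^ 2 ^ n = 1) (hs : ∀ c : F, s * M.e (c • w) = M.e (c • w) * s) :
    ∃ a : F, ∀ x, M.act s x = x + (a * dt w x) • w := by
  obtain ⟨σ, hσ⟩ := M.exists_semi hsV
  have hw1 : ∀ c : F, M.act s (c • w) = c • w := fun c => (M.commute_e hsV).1 (hs c)
  have hww : M.act s w = w := by have := hw1 1; rwa [one_smul] at this
  have hσ1 : ∀ c, σ c = c := by
    intro c
    have h1 := hσ c w
    rw [hw1, hww] at h1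
    exact (smul_left_injective F hw h1).symm
  have hlin : ∀ (c : F) x, M.act s (c • x) = c • M.act s x := fun c x => by rw [hσ, hσ1]
  obtain ⟨x0, hx0⟩ := exists_dt hw
  have hx0' : dt w x0 ≠ 0 := by rw [hx0]; exact one_ne_zero
  set γ := dt w (M.act s x0) with hγ
  have key : ∀ y, dt w (M.act s y) = γ * dt w y := by
    intro y
    obtain ⟨a, b, rfl⟩ := exists_comb hx0' y
    rw [M.act_add hsV, hlin, hlin, hww, dt_add, dt_add, dt_smul, dt_smul, dt_smul, dt_self, hx0, ← hγ]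
    ring
  have hpow : ∀ n : ℕ, dt w (M.act (s ^ n) x0) = γ ^ n := by
    intro n
    induction n with
    | zero => rw [pow_zero, pow_zero, M.act_one, hx0]
    | succ n ih => rw [pow_succ', M.act_mul hsV (pow_mem hsV n), key, ih, pow_succ']
  have hγ1 : γ = 1 := by
    obtain ⟨n, hn⟩ := h2
    have h1 := hpow (2 ^ n)
    rw [hn, M.act_one, hx0] at h1
    exact eq_one_of_pow h1.symm
  have h1 : dt w (M.act s x0 - x0) = 0 := by
    have h2 : dt w (M.act s x0 - x0) = dt w (M.act s x0) - dt w x0 := by unfold dt; simp only [Pi.sub_apply]; ring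
    rw [h2, ← hγ, hγ1, hx0, sub_self]
  obtain ⟨a, ha⟩ := exists_smul_of_dt hw h1
  refine ⟨a, fun y => ?_⟩
  obtain ⟨α, β, rfl⟩ := exists_comb hx0' y
  have h2 : M.act s x0 = x0 + a • w := by rw [← ha]; abel
  rw [M.act_add hsV, hlin, hlin, hww, h2, dt_add, dt_smul, dt_smul, dt_self, hx0]
  rw [smul_add, smul_smul]
  simp only [mul_zero, mul_one, zero_add]
  rw [mul_comm β a]
  abel

/-- **the coordinates from `One`, `NatP` and the line `Z = F w`** -/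
theorem exists_co_of (h : One S B P V Z) (M : NatP F V P) {w : Fin 2 → F} (hw : w ≠ 0)
    (hZl : ∀ z : G, z ∈ Z ↔ ∃ c : F, M.e (c • w) = z) : Nonempty (Co F S B P V Z) := by
  have SP := h.pl.SP
  have PN := h.pl.PN
  have hVP : V ≤ P := (h.pl.VS).trans SP
  set N := toMod M hVP with hN
  have hVn : ∀ g : P, g ∈ normalizer ((V.subgroupOf P : Subgroup P) : Set P) := by
    intro g
    rw [mem_normalizer_iff]
    intro x
    rw [mem_subgroupOf, mem_subgroupOf]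
    exact mem_normalizer_iff.1 (PN g.2) x
  have hact : ∀ (g : P) (x : Fin 2 → F), (g : G) * M.e x * (g : G)⁻¹ = M.e (N.act g x) := fun g x =>
    congrArg Subtype.val (N.e_act (hVn g) x).symm
  have hs1 : ∀ s ∈ B, ∃ a : F, ∀ x, s * M.e x * s⁻¹ = M.e (x + (a * dt w x) • w) := by
    intro s hs
    have hsP : s ∈ P := SP (h.pl.BS hs)
    have h2 : ∃ n : ℕ, (⟨s, hsP⟩ : P) ^ 2 ^ n = 1 := by
      obtain ⟨n, hn⟩ := twoEl_of_isPGroup h.isP_B hs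
      exact ⟨n, Subtype.ext hn⟩
    obtain ⟨a, ha⟩ := tv_of N hw (hVn ⟨s, hsP⟩) h2 fun c =>
      Subtype.ext (h.pl.cen _ ((hZl _).2 ⟨c, rfl⟩) s hs)
    refine ⟨a, fun x => ?_⟩
    rw [← ha]
    exact hact ⟨s, hsP⟩ x
  obtain ⟨D, hD⟩ := exists_ap_e hw
  have hadd : ∀ a b c d : F, (![a + c, b + d] : Fin 2 → F) = ![a, b] + ![c, d] := by
    intro a b c d
    apply ext2 <;> simp
  have hD0 : ∀ a : F, ap D ![a, 0] = a • w := by
    intro a
    have h1 : (![a, 0] : Fin 2 → F) = a • ![1, 0] := by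
      apply ext2 <;> simp
    rw [h1, ap_smul, hD]
  have hdtD : ∀ x y : F, dt w (ap D ![x, y]) = y := by
    intro x y
    rw [← hD, dt_ap]
    simp [dt]
  refine ⟨{ one := h
            e := fun a b => M.e (ap D ![a, b])
            e_add := ?_
            e_inj := ?_
            mem_V := ?_
            mem_Z := ?_
            lift := ?_
            tv := ?_ }⟩
  · intro a b c d
    show M.e (ap D ![a + c, b + d]) = M.e (ap D ![a, b]) * M.e (ap D ![c, d])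
    rw [hadd, ap_add, M.e_add]
  · intro a b c d h1
    have h2 := M.e_inj h1
    have h3 := congrArg (ap D⁻¹) h2
    rw [ap_inv_ap, ap_inv_ap] at h3
    exact ⟨congrFun h3 0, congrFun h3 1⟩
  · intro g
    rw [M.mem_iff]
    constructor
    · rintro ⟨x, rfl⟩
      refine ⟨ap D⁻¹ x 0, ap D⁻¹ x 1, ?_⟩
      have h1 : (![ap D⁻¹ x 0, ap D⁻¹ x 1] : Fin 2 → F) = ap D⁻¹ x := ext2 (by simp) (by simp)
      show M.e (ap D ![ap D⁻¹ x 0, ap D⁻¹ x 1]) = M.e x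
      rw [h1, ap_ap_inv]
    · rintro ⟨a, b, rfl⟩
      exact ⟨_, rfl⟩
  · intro g
    rw [hZl]
    constructor
    · rintro ⟨c, rfl⟩
      exact ⟨c, by show M.e (ap D ![c, 0]) = _; rw [hD0]⟩
    · rintro ⟨c, rfl⟩
      exact ⟨c, by rw [← hD0]⟩
  · intro a b c d habcd
    have hdet : a * d - b * c = 1 := by rw [CharTwo.sub_eq_add, habcd]
    obtain ⟨g, hg, hge⟩ := M.lift (D * mk a b c d hdet * D⁻¹)
    refine ⟨g, hg, fun x y => ?_⟩
    show g * M.e (ap D ![x, y]) * g⁻¹ = M.e (ap D ![a * x + b * y, c * x + d * y])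
    rw [hge, ap_mul, ap_mul, ap_inv_ap]
    congr 2
  · intro s hs
    obtain ⟨t, ht⟩ := hs1 s hs
    refine ⟨t, fun x y => ?_⟩
    show s * M.e (ap D ![x, y]) * s⁻¹ = M.e (ap D ![x + t * y, y])
    rw [ht, hdtD, ← hD0, ← ap_add]
    congr 2
    apply ext2 <;> simp

/-- `|Z| = |F|`: `Z` is a line -/
theorem exists_line (h : PL S P V Z) (M : NatP F V P) (hq : Nat.card Z = Nat.card F) :
    ∃ w : Fin 2 → F, w ≠ 0 ∧ ∀ z : G, z ∈ Z ↔ ∃ c : F, M.e (c • w) = z := by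
  have SP := h.SP
  have PN := h.PN
  have VS := h.VS
  have ZV := h.ZV
  have cen := h.cen
  have : Fact (Nat.Prime 2) := ⟨Nat.prime_two⟩
  have hVP : V ≤ P := VS.trans SP
  set N := toMod M hVP with hN
  have hVn : ∀ g : P, g ∈ normalizer ((V.subgroupOf P : Subgroup P) : Set P) := by
    intro g
    rw [mem_normalizer_iff]
    intro x
    rw [mem_subgroupOf, mem_subgroupOf]
    exact mem_normalizer_iff.1 (PN g.2) x
  set T : Sylow 2 P := S.subtype SP with hT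
  have hTV : (T : Subgroup P) ≤ normalizer ((V.subgroupOf P : Subgroup P) : Set P) := fun g _ => hVn g
  obtain ⟨w, hw, hTw⟩ : ∃ w : Fin 2 → F, w ≠ 0 ∧ (T : Subgroup P) ≤ normalizer ((N.line w : Subgroup P) : Set P) := by
    have hw0 : (![1, 0] : Fin 2 → F) ≠ 0 := fun h => by
      have := congrFun h 0
      simp at this
    obtain ⟨T₁, -, h1⟩ := N.exists_sylow T hTV hw0
    obtain ⟨g, hg⟩ := MulAction.exists_smul_eq P T₁ T
    refine ⟨N.act g ![1, 0], N.act_ne_zero (hVn g) hw0, ?_⟩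
    intro s hs
    rw [← hg] at hs
    have h2 : g⁻¹ * s * g ∈ (T₁ : Subgroup P) := NatPair.mem_cj.1 hs
    rw [← N.cj_line (hVn g), ← NatPair.cj_eq_iff, ← NatPair.cj_mul]
    have h3 : s * g = g * (g⁻¹ * s * g) := by group
    rw [h3, NatPair.cj_mul, NatPair.cj_eq_iff.2 (h1 h2)]
  refine ⟨w, hw, ?_⟩
  have h1 : Z.subgroupOf P ≤ N.line w := by
    intro z hz
    rw [mem_subgroupOf] at hz
    refine N.cent_le_of_sylow T hTV hw hTw ⟨mem_centralizer_iff.2 fun s hs => ?_, mem_subgroupOf.2 (ZV hz)⟩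
    exact Subtype.ext (cen z hz s (mem_subgroupOf.1 hs))
  have h2 : Nat.card (N.line w) = Nat.card (Z.subgroupOf P) := by
    rw [N.card_line hw, ← hq]
    exact Nat.card_congr (subgroupOfEquivOfLe (ZV.trans hVP)).toEquiv.symm
  have h3 : Z.subgroupOf P = N.line w := Subgroup.eq_of_le_of_card_ge h1 h2.le
  intro z
  constructor
  · intro hz
    have h4 : (⟨z, hVP (ZV hz)⟩ : P) ∈ N.line w := by rw [← h3]; exact mem_subgroupOf.2 hz
    obtain ⟨c, hc⟩ := h4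
    exact ⟨c, congrArg Subtype.val hc⟩
  · rintro ⟨c, rfl⟩
    have h4 : N.e (c • w) ∈ Z.subgroupOf P := by rw [h3]; exact ⟨c, rfl⟩
    exact mem_subgroupOf.1 h4

section frame

open Cfsg Cfsg.Agent.ZN Cfsg.Agent.Omega.MinPar Cfsg.Agent.Omega.Frame Cfsg.Agent.Omega.FrameNOFF
open Cfsg.Agent.MinSimple.VModule Cfsg.Agent.Omega.NoFF.Lines

theorem WN_eq {P : Subgroup G} (h : Hyp S P) (hU : Uniq (S : Subgroup G) P) (M : NatP F (zl (S : Subgroup G) P) P)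
    (hq : Nat.card (zc (S : Subgroup G)) = Nat.card F) :
    WN (S : Subgroup G) P = ws (zl (S : Subgroup G) P) (zc (S : Subgroup G)) := by
  obtain ⟨hp, hw⟩ := pl_of_uniq h hU M hq
  refine le_antisymm ?_ (hw.le.trans WW_le_WN)
  refine W_le fun Q hQ c hc => ?_
  rw [Set.mem_singleton_iff.1 hQ]
  refine le_ws ⟨c, rfl⟩ ?_
  have h1 : PT.cj c (zc (S : Subgroup G)) = zc (S : Subgroup G) := PT.cj_eq_iff.2 hc
  have h2 : PT.cj c (zc (S : Subgroup G)) ≤ PT.cj c (zl (S : Subgroup G) P) := PT.cj_le_cj.2 hp.ZV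
  rw [h1] at h2
  exact h2

/-- a critical pair at distance 1 gives two noncommuting points of `V` -/
theorem exists_nc {P : Subgroup G} (h : Hyp S P) (hU : Uniq (S : Subgroup G) P) (M : NatP F (zl (S : Subgroup G) P) P)
    (hq : Nat.card (zc (S : Subgroup G)) = Nat.card F) {y : G} (hc : CritN (S : Subgroup G) P 1 1 y) :
    ∃ Y, Pnt (zl (S : Subgroup G) P) (zc (S : Subgroup G)) Y ∧
      ¬ ws (zl (S : Subgroup G) P) (zc (S : Subgroup G)) ≤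
        centralizer ((ws (zl (S : Subgroup G) P) Y : Subgroup G) : Set G) := by
  obtain ⟨hp, hw⟩ := pl_of_uniq h hU M hq
  have hWN := WN_eq h hU M hq
  obtain ⟨c, p, c', hc0, hp0, hc0', rfl⟩ : ∃ c p c', c ∈ normalizer (zc (S : Subgroup G) : Set G) ∧ p ∈ P ∧
      c' ∈ normalizer (zc (S : Subgroup G) : Set G) ∧ y = c * p * c' := by
    have h1 := hc.path
    cases h1 with
    | step hg _ _ _ =>
      cases hg with
      | zero g hc1 =>
        rename_i p1 c1 P1 h2 h3 h4 c2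
        rw [Set.mem_singleton_iff.1 h2] at h3
        exact ⟨c2, p1, c1, hc1, h3, h4, by group⟩
  refine ⟨PT.cj p (zc (S : Subgroup G)), ⟨⟨p, rfl⟩, hp.pt_le hp0⟩, fun hcon => hc.ne ?_⟩
  unfold Com
  rw [map_one, one_smul]
  have h2 : ∀ n ∈ normalizer (zc (S : Subgroup G) : Set G), PT.cj n (WN (S : Subgroup G) P) =
      WN (S : Subgroup G) P := by
    intro n hn
    rw [hWN]
    exact PT.cj_eq_iff.2 (normalizer_le_ws _ _ hn)
  have h3 : MulAut.conj (c * p * c') • WN (S : Subgroup G) P = PT.cj c (PT.cj p (WN (S : Subgroup G) P)) := by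
    have h4 : PT.cj (c * p * c') (WN (S : Subgroup G) P) = PT.cj c (PT.cj p (WN (S : Subgroup G) P)) := by
      rw [← PT.cj_cj, h2 c' hc0', PT.cj_cj]
    exact h4
  show WN (S : Subgroup G) P ≤ centralizer ((MulAut.conj (c * p * c') • WN (S : Subgroup G) P : Subgroup G) : Set G)
  rw [h3, ← PT.cj_centralizer]
  have h5 := PT.cj_le_cj (g := c) |>.2 hcon
  rw [← hWN, h2 c hc0, PT.ws_cj, ← hWN] at h5
  exact h5

/-- **`Co` from the frame.** -/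
theorem exists_co {P : Subgroup G} (h : HypJ S P) (hU : Uniq (S : Subgroup G) P) (M : NatP F (zl (S : Subgroup G) P) P)
    (hq : Nat.card (zc (S : Subgroup G)) = Nat.card F)
    (hf : ¬ kx (zl (S : Subgroup G) P) (zc (S : Subgroup G)) ≤ centralizer (zl (S : Subgroup G) P : Set G)) {y : G}
    (hc : CritN (S : Subgroup G) P 1 1 y) :
    Nonempty (Co F S (S : Subgroup G) P (zl (S : Subgroup G) P) (zc (S : Subgroup G))) := by
  have h0 := h.toHypN.toHyp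
  obtain ⟨hp, -⟩ := pl_of_uniq h0 hU M hq
  obtain ⟨w, hw, hZ⟩ := exists_line hp M hq
  exact exists_co_of ⟨hp.toPB (hU.ns h0.star), hf, omQ_of_hypJ h hp, exists_nc h0 hU M hq hc⟩ M hw hZ

end frame

end Cfsg.Agent.Omega.NO3S.OneQ

end

section


/-!
# NO-3S, `OneSz` (`q ≥ 4`, `n = 1`), case (N), `D_x = I`: the record `TIq.LocK` at the vector `v0`

* `Co.HH` : the image of `C_G(Z)` in `GL_F(MF)`; `Co.rH c hc` : the image of `c`;
* `Co.A0` : the image of `W_Y`; `Co.I0` : `C_MF(A)` (`= Ī` if `D_x = I`); `Co.al0`; `Co.K0` : the image of `yl`;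
* **`Co.locK`** : `LocK F v0 A0 I0 al0 K0`.
-/

set_option autoImplicit false
set_option linter.unusedSectionVars false

namespace Cfsg.Agent.Omega.NO3S.OneQ

open Subgroup Cfsg.Agent.Omega.NO3S.PT Cfsg.Agent.Omega.NoFF.Basic
open Cfsg.Agent.ZN.Block (o2_isPGroup)
open scoped Pointwise

universe u

variable {G : Type u} [Group G]

namespace Co

variable [Finite G] {F : Type*} [Field F] [CharP F 2] {S : Sylow 2 G} {B P V Z : Subgroup G} (h : Co F S B P V Z)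

/-! ### the group -/

/-- `C_G(Z)` on `MF` -/
noncomputable def ru : centralizer (Z : Set G) →* (Module.End F h.MF)ˣ :=
  MonoidHom.toHomUnits (h.rp.comp (Subgroup.inclusion h.C_le_hat))

/-- the image of `C_G(Z)` -/
noncomputable abbrev HH : Subgroup (Module.End F h.MF)ˣ := h.ru.range

/-- the image of `c` -/
noncomputable def rH (c : G) (hc : c ∈ centralizer (Z : Set G)) : h.HH := ⟨h.ru ⟨c, hc⟩, ⟨_, rfl⟩⟩

theorem rH_smul {c : G} (hc : c ∈ centralizer (Z : Set G)) (m : h.MF) :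
    h.rH c hc • m = h.rp ⟨c, h.C_le_hat hc⟩ m := rfl

theorem exists_rH (x : h.HH) : ∃ c, ∃ hc : c ∈ centralizer (Z : Set G), x = h.rH c hc := by
  obtain ⟨x, ⟨c, hc⟩, rfl⟩ := x
  exact ⟨c, hc, rfl⟩

theorem rH_mul {a b : G} (ha : a ∈ centralizer (Z : Set G)) (hb : b ∈ centralizer (Z : Set G)) :
    h.rH (a * b) (mul_mem ha hb) = h.rH a ha * h.rH b hb := by
  apply Subtype.ext
  show h.ru (⟨a, ha⟩ * ⟨b, hb⟩) = h.ru ⟨a, ha⟩ * h.ru ⟨b, hb⟩
  rw [map_mul]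

theorem rH_inv {a : G} (ha : a ∈ centralizer (Z : Set G)) : h.rH a⁻¹ (inv_mem ha) = (h.rH a ha)⁻¹ := by
  apply Subtype.ext
  show h.ru (⟨a, ha⟩ : centralizer (Z : Set G))⁻¹ = (h.ru ⟨a, ha⟩)⁻¹
  rw [map_inv]

theorem rH_congr {a b : G} (ha : a ∈ centralizer (Z : Set G)) (e : a = b) : h.rH a ha = h.rH b (e ▸ ha) := by
  subst e; rfl

theorem HH_ext {x y : h.HH} (e : ∀ m : h.MF, x • m = y • m) : x = y := by
  apply Subtype.ext
  apply Units.ext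
  exact LinearMap.ext e

theorem rH_one {a : G} (ha : a ∈ centralizer (Z : Set G)) (e : ∀ m, h.rp ⟨a, h.C_le_hat ha⟩ m = m) :
    h.rH a ha = 1 := h.HH_ext fun m => by rw [rH_smul, e, one_smul]

theorem rH_K {k : G} (hk : k ∈ kx V Z) : h.rH k (kx_le_cent hk) = 1 := h.rH_one _ (h.rp_K hk)

/-! ### the data -/

/-- `A` -/
noncomputable def A0 : Subgroup h.HH := ((ws V h.Yp).subgroupOf (centralizer (Z : Set G))).map h.ru.rangeRestrict

theorem mem_A0 {x : h.HH} : x ∈ h.A0 ↔ ∃ a, ∃ ha : a ∈ ws V h.Yp, x = h.rH a (h.one.W_le_C h.pY ha) := by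
  unfold A0
  rw [Subgroup.mem_map]
  constructor
  · rintro ⟨⟨a, ha⟩, haW, rfl⟩
    exact ⟨a, haW, rfl⟩
  · rintro ⟨a, ha, rfl⟩
    exact ⟨⟨a, h.one.W_le_C h.pY ha⟩, ha, rfl⟩

/-- `K~` -/
noncomputable def K0 : Subgroup h.HH := ((yl V Z).subgroupOf (centralizer (Z : Set G))).map h.ru.rangeRestrict

theorem mem_K0 {x : h.HH} : x ∈ h.K0 ↔ ∃ a, ∃ ha : a ∈ yl V Z, x = h.rH a (h.yl_C ha) := by
  unfold K0
  rw [Subgroup.mem_map]
  constructor
  · rintro ⟨⟨a, ha⟩, haW, rfl⟩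
    exact ⟨a, haW, rfl⟩
  · rintro ⟨a, ha, rfl⟩
    exact ⟨⟨a, h.yl_C ha⟩, ha, rfl⟩

/-- `C_MF(A)` -/
noncomputable def I0 : Submodule F h.MF where
  carrier := {m | ∀ a (ha : a ∈ ws V h.Yp), h.rp ⟨a, h.W_hat h.pY ha⟩ m = m}
  zero_mem' := fun a ha => map_zero _
  add_mem' := fun {m n} hm hn a ha => by rw [map_add, hm a ha, hn a ha]
  smul_mem' := fun c m hm a ha => by rw [map_smul, hm a ha]

theorem mem_I0 {m : h.MF} : m ∈ h.I0 ↔ ∀ a (ha : a ∈ ws V h.Yp), h.rp ⟨a, h.W_hat h.pY ha⟩ m = m := Iff.rfl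

theorem fm_I0 (hN : NTr V Z) (w : ws V Z) : h.fm w ∈ h.I0 ↔ (w : G) ∈ dd V Z Z :=
  (h.cent_N h.pY h.Yp_ne (hN _ h.pY h.Yp_ne) w).symm

/-- `D_x = I` : `C_MF(A) = Ī` -/
theorem mem_I0_iff (hN : NTr V Z) (hD : dd V Z Z ≤ IV V Z) {m : h.MF} : m ∈ h.I0 ↔ m ∈ h.Ib := by
  obtain ⟨w, rfl⟩ := h.fm_surj m
  rw [h.fm_I0 hN]
  constructor
  · exact fun h1 => ⟨w, hD h1, rfl⟩
  · rintro ⟨u, hu, e⟩
    rw [← h.fm_I0 hN, ← e]
    exact fun a ha => h.rp_W_I h.pY ha hu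

/-- `α` with values in `HH` -/
noncomputable def al0 (m : h.MF) : h.HH :=
  h.rH (h.sw * (h.fm_surj m).choose * h.sw⁻¹) (h.one.W_le_C h.pY (h.sw_W (h.fm_surj m).choose.2))

theorem al0_smul (m x : h.MF) : h.al0 m • x = h.al m x := rfl

theorem al0_mem (m : h.MF) : h.al0 m ∈ h.A0 := h.mem_A0.2 ⟨_, h.sw_W (h.fm_surj m).choose.2, rfl⟩

theorem al0_surj (hN : NTr V Z) {x : h.HH} (hx : x ∈ h.A0) : ∃ m, h.al0 m = x := by
  obtain ⟨a, ha, rfl⟩ := h.mem_A0.1 hx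
  obtain ⟨m, hm⟩ := h.al_surj hN ha
  exact ⟨m, h.HH_ext fun x => by rw [al0_smul, hm]; rfl⟩

theorem al0_one (hN : NTr V Z) {m : h.MF} : h.al0 m = 1 ↔ m ∈ h.Eb := by
  rw [← h.al_eq_one hN]
  constructor
  · intro e
    refine LinearMap.ext fun x => ?_
    rw [← h.al0_smul, e, one_smul]; rfl
  · intro e
    refine h.HH_ext fun x => ?_
    rw [h.al0_smul, e, one_smul]; rfl

/-! ### the stabiliser of the point -/

/-- an element of `C_G(Z)` which fixes the point normalises `V` -/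
theorem norm_of_smul (hrd : rd V Z = Z) {g : G} (hg : g ∈ centralizer (Z : Set G)) {c : F}
    (h1 : h.rp ⟨g, h.C_le_hat hg⟩ h.v0 = c • h.v0) : g ∈ normalizer (V : Set G) := by
  rw [← cj_eq_iff]
  refine eq_of_le_of_card_ge ?_ (by rw [card_cj])
  intro v hv
  rw [mem_cj] at hv
  obtain ⟨x, y, hxy⟩ := (h.mem_V _).1 hv
  have e0 : v = g * h.e x y * g⁻¹ := by rw [hxy]; group
  have h2 : g * h.e 0 y * g⁻¹ * (h.e 0 (y * c))⁻¹ ∈ Z := by
    have e : h.rp ⟨g, h.C_le_hat hg⟩ (h.fm ⟨h.e 0 y, h.W_V 0 y⟩) = _ := h.rp_fm' (h.C_le_hat hg) (h.W_V 0 y)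
    have e2 : h.rp ⟨g, h.C_le_hat hg⟩ (h.fm ⟨h.e 0 y, h.W_V 0 y⟩) = h.fm ⟨h.e 0 (y * c), h.W_V 0 (y * c)⟩ := by
      rw [h.fm_e, map_smul, h1, h.fm_e, smul_smul]
    rw [e, h.fm_eq, hrd] at e2
    exact e2
  have h3 : g * h.e 0 y * g⁻¹ ∈ V := by
    have e : g * h.e 0 y * g⁻¹ = g * h.e 0 y * g⁻¹ * (h.e 0 (y * c))⁻¹ * h.e 0 (y * c) := by group
    rw [e]
    exact mul_mem (h.one.pl.ZV h2) (h.e_memV _ _)
  have h4 : g * h.e x 0 * g⁻¹ ∈ V := by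
    rw [(mem_centralizer_iff.1 hg _ (h.e_memZ x)).symm, mul_inv_cancel_right]
    exact h.e_memV _ _
  have e1 : h.e x y = h.e x 0 * h.e 0 y := by rw [← h.e_add, add_zero, zero_add]
  rw [e0, e1]
  have e2 : g * (h.e x 0 * h.e 0 y) * g⁻¹ = g * h.e x 0 * g⁻¹ * (g * h.e 0 y * g⁻¹) := by group
  rw [e2]
  exact mul_mem h4 h3

/-- `A` is normalised by the stabiliser of the point -/
theorem sA0 (hrd : rd V Z = Z) {x a : h.HH} {c : F} (hx : x • h.v0 = c • h.v0) (ha : a ∈ h.A0) : x * a * x⁻¹ ∈ h.A0 := by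
  obtain ⟨g, hg, rfl⟩ := h.exists_rH x
  obtain ⟨b, hb, rfl⟩ := h.mem_A0.1 ha
  have hgN := h.norm_of_smul hrd hg hx
  have hbC := h.one.W_le_C h.pY hb
  have hY' : Pnt V Z (PT.cj g h.Yp) := h.pY.conj hgN
  have hgZ : PT.cj g Z = Z := cj_eq_iff.2 (centralizer_le_normalizer _ hg)
  have hne : PT.cj g h.Yp ≠ Z := fun e => h.Yp_ne (cj_inj.1 (e.trans hgZ.symm))
  obtain ⟨k, hk, hkY⟩ := h.one.move h.one.self hY' h.pY hne h.Yp_ne
  have h1 : k * (g * b * g⁻¹) * k⁻¹ ∈ ws V h.Yp := by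
    have h2 := conj_mem_cj (g := g) hb
    rw [← ws_cj] at h2
    have h3 := conj_mem_cj (g := k) h2
    rwa [← ws_cj, hkY] at h3
  refine h.mem_A0.2 ⟨_, h1, ?_⟩
  have hkC := kx_le_cent hk
  have e1 := h.rH_mul (mul_mem hkC (mul_mem (mul_mem hg hbC) (inv_mem hg))) (inv_mem hkC)
  have e2 := h.rH_mul hkC (mul_mem (mul_mem hg hbC) (inv_mem hg))
  have e3 := h.rH_mul (mul_mem hg hbC) (inv_mem hg)
  have e4 := h.rH_mul hg hbC
  have e5 : h.rH (k * (g * b * g⁻¹) * k⁻¹) (h.one.W_le_C h.pY h1) = h.rH g hg * h.rH b hbC * (h.rH g hg)⁻¹ := by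
    rw [e1, e2, e3, e4, h.rH_inv hg, h.rH_inv hkC, h.rH_K hk, one_mul, inv_one, mul_one]
  exact e5.symm

theorem sK0 (hrd : rd V Z = Z) {x t : h.HH} {c : F} (hx : x • h.v0 = c • h.v0) (ht : t ∈ h.K0) : x * t * x⁻¹ ∈ h.K0 := by
  obtain ⟨g, hg, rfl⟩ := h.exists_rH x
  obtain ⟨b, hb, rfl⟩ := h.mem_K0.1 ht
  have hgN := h.norm_of_smul hrd hg hx
  have h1 : g * b * g⁻¹ ∈ yl V Z := (mem_normalizer_iff.1 (norm_yl V Z hgN) _).1 hb
  refine h.mem_K0.2 ⟨_, h1, ?_⟩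
  have e3 := h.rH_mul (mul_mem hg (h.yl_C hb)) (inv_mem hg)
  have e4 := h.rH_mul hg (h.yl_C hb)
  have e5 : h.rH (g * b * g⁻¹) (h.yl_C h1) = h.rH g hg * h.rH b (h.yl_C hb) * (h.rH g hg)⁻¹ := by
    rw [e3, e4, h.rH_inv hg]
  exact e5.symm

theorem sI0 (hN : NTr V Z) (hD : dd V Z Z ≤ IV V Z) (hrd : rd V Z = Z) {x : h.HH} {c : F} {u : h.MF}
    (hx : x • h.v0 = c • h.v0) (hu : u ∈ h.I0) : x • u ∈ h.I0 := by
  obtain ⟨g, hg, rfl⟩ := h.exists_rH x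
  have hgN := h.norm_of_smul hrd hg hx
  rw [h.mem_I0_iff hN hD] at hu ⊢
  obtain ⟨u, hu, rfl⟩ := hu
  have h1 : g * u * g⁻¹ ∈ IV V Z := (mem_normalizer_iff.1 (normalizer_le_IV V Z hgN) _).1 hu
  refine ⟨_, h1, ?_⟩
  rw [h.rH_smul]
  exact (h.rp_fm' (h.C_le_hat hg) (h.one.I_le_W' hu)).symm

/-- `α` and the stabiliser of the vector -/
theorem al0_conj (hN : NTr V Z) (hrd : rd V Z = Z) {x : h.HH} (hx : x • h.v0 = h.v0) (m : h.MF) :
    h.al0 (x • m) = x * h.al0 m * x⁻¹ := by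
  obtain ⟨g, hg, rfl⟩ := h.exists_rH x
  obtain ⟨k, hk, hkg⟩ := h.fix_v0 hrd hg hx
  have hkC := kx_le_cent hk
  have hgk : k⁻¹ * g ∈ centralizer (Z : Set G) := mul_mem (inv_mem hkC) hg
  have e1 : h.rH g hg = h.rH (k⁻¹ * g) hgk := by
    have e2 := h.rH_mul (inv_mem hkC) hg
    rw [e2, h.rH_inv hkC, h.rH_K hk, inv_one, one_mul]
  rw [e1, eq_mul_inv_iff_mul_eq]
  refine h.HH_ext fun n => ?_
  have h2 := h.al_equi hN hkg m
  have h3 := LinearMap.congr_fun h2 n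
  rw [mul_smul, mul_smul, h.al0_smul, h.al0_smul]
  exact h3

/-! ### the facts -/

/-- `MF` is spanned by the conjugates of `v0` -/
theorem span_v0 : Submodule.span F (Set.range fun x : h.HH => x • h.v0) = ⊤ := by
  rw [eq_top_iff]
  intro m _
  obtain ⟨w, rfl⟩ := h.fm_surj m
  let U := Submodule.span F (Set.range fun x : h.HH => x • h.v0)
  have hU : ∀ (x : h.HH) (m : h.MF), m ∈ U → x • m ∈ U := by
    intro x m hm
    induction hm using Submodule.span_induction with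
    | mem a ha =>
      obtain ⟨y, rfl⟩ := ha
      exact Submodule.subset_span ⟨x * y, mul_smul x y h.v0⟩
    | zero => rw [smul_zero]; exact zero_mem _
    | add a b _ _ ha hb => rw [smul_add]; exact add_mem ha hb
    | smul c a _ ha => rw [smul_comm]; exact U.smul_mem c ha
  let D : Subgroup G :=
    { carrier := {w | ∃ hw : w ∈ ws V Z, h.fm ⟨w, hw⟩ ∈ U}
      one_mem' := ⟨one_mem _, by
        have : h.fm ⟨1, one_mem _⟩ = 0 := h.fm_one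
        rw [this]; exact zero_mem _⟩
      mul_mem' := by
        rintro a b ⟨ha, ha'⟩ ⟨hb, hb'⟩
        refine ⟨mul_mem ha hb, ?_⟩
        have := h.fm_mul ⟨a, ha⟩ ⟨b, hb⟩
        have e : (⟨a * b, mul_mem ha hb⟩ : ws V Z) = ⟨a, ha⟩ * ⟨b, hb⟩ := rfl
        rw [e, this]
        exact add_mem ha' hb'
      inv_mem' := by
        rintro a ⟨ha, ha'⟩
        refine ⟨inv_mem ha, ?_⟩
        have := h.fm_inv ⟨a, ha⟩
        have e : (⟨a⁻¹, inv_mem ha⟩ : ws V Z) = (⟨a, ha⟩ : ws V Z)⁻¹ := rfl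
        rw [e, this]
        exact ha' }
  have hV : V ≤ D := by
    intro v hv
    obtain ⟨x, y, rfl⟩ := (h.mem_V v).1 hv
    refine ⟨h.W_V x y, ?_⟩
    rw [h.fm_e]
    refine U.smul_mem y (Submodule.subset_span ⟨1, one_smul _ _⟩)
  have hC : centralizer (Z : Set G) ≤ normalizer (D : Set G) := by
    refine QAbs.norm_of fun g hg w hw => ?_
    obtain ⟨hw, hw'⟩ := hw
    refine ⟨h.W_conj (centralizer_le_normalizer _ hg) hw, ?_⟩
    have h1 := hU (h.rH g hg) _ hw'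
    have h2 : h.rH g hg • h.fm ⟨w, hw⟩ = _ := h.rp_fm' (h.C_le_hat hg) hw
    rw [h2] at h1
    exact h1
  obtain ⟨hw, hw'⟩ := h.W_le_of_V hV hC w.2
  exact hw'

include h in
/-- `W_Y ≤ yl` -/
theorem W_le_yl {Y : Subgroup G} (hY : Pnt V Z Y) : ws V Y ≤ yl V Z := by
  intro a ha
  refine mem_yl_of hY ⟨fun x hx => ?_, fun w hw => ?_⟩ (h.one.W_le_cent hY ha)
  · exact h.one.comm_W hY.cj ha (h.one.V_le_W hY (hY.le hx))
  · rw [h.one.comm_W hY.cj ha hw, mul_inv_cancel_right, mul_inv_cancel]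
    exact one_mem _

/-- **the record `LocK`** -/
theorem locK [Finite F] (hG : IsCharacteristicTwoType G) (hN : NTr V Z) (hD : dd V Z Z ≤ IV V Z) : TIq.LocK F h.v0 h.A0 h.I0 h.al0 h.K0 where
  two := h.add_self
  ne0 := h.v0_ne
  gen := h.span_v0
  sA := h.sA0 (h.rd_eq hN hD)
  sI := h.sI0 hN hD (h.rd_eq hN hD)
  sq := by
    intro a ha
    obtain ⟨m, rfl⟩ := h.al0_surj hN ha
    refine h.HH_ext fun x => ?_
    rw [mul_smul, one_smul, h.al0_smul, h.al0_smul]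
    exact LinearMap.congr_fun (h.al_sq hN m) x
  ne := by
    by_contra hc
    push Not at hc
    obtain ⟨m, hm⟩ : ∃ m, m ∉ h.Eb := by
      by_contra hc'
      push Not at hc'
      apply h.one.ee_ne h.one.self
      refine le_antisymm ee_le fun w hw => ?_
      exact (h.fm_Eb_iff hN (w := ⟨w, hw⟩)).1 (hc' _)
    exact hm ((h.al0_one hN).1 (hc _ (h.al0_mem m)))
  self := (h.mem_I0_iff hN hD).2 (h.lam_le_Ib (Submodule.mem_span_singleton_self _))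
  comm := by
    intro a ha m
    obtain ⟨n, rfl⟩ := h.al0_surj hN ha
    rw [h.al0_smul, ← h.sub_eq, h.mem_I0_iff hN hD]
    exact h.al_sub_Ib hN n m
  fix := by
    intro x u hx hu
    obtain ⟨a, ha, rfl⟩ := h.mem_A0.1 hx
    exact hu a ha
  al_mem := h.al0_mem
  al_add := by
    intro m m'
    refine h.HH_ext fun x => ?_
    rw [mul_smul, h.al0_smul, h.al0_smul, h.al0_smul, h.al_add hN]
    rfl
  al_surj := h.al0_surj hN
  al_conj := h.al0_conj hN (h.rd_eq hN hD)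
  al_ker := by
    intro m
    rw [h.al0_one hN]
    constructor
    · intro h1 x hx
      obtain ⟨a, ha, rfl⟩ := h.mem_A0.1 hx
      obtain ⟨c, hc⟩ := Submodule.mem_span_singleton.1 (h1 a ha)
      refine ⟨c, ?_⟩
      rw [hc, h.rH_smul]
      abel
    · intro h1 a ha
      obtain ⟨c, hc⟩ := h1 _ (h.mem_A0.2 ⟨a, ha, rfl⟩)
      refine Submodule.mem_span_singleton.2 ⟨c, ?_⟩
      rw [h.rH_smul] at hc
      rw [hc]
      abel
  sy := by
    intro m m'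
    obtain ⟨c, hc⟩ := Submodule.mem_span_singleton.1 (h.al_symm hN m m')
    refine ⟨c, ?_⟩
    rw [hc, h.al0_smul, h.al0_smul, h.sub_eq, h.sub_eq, h.sub_eq]
  phl := by
    intro c e x he
    have h1 := h.al_smul_Eb hN c x ((h.al0_one hN).1 he)
    rwa [h.sub_eq, h.sub_eq] at h1
  bl := by
    intro c m x
    obtain ⟨d, hd⟩ := Submodule.mem_span_singleton.1 (h.al_smul hN c x m)
    refine ⟨d, ?_⟩
    have e1 : h.al (c • x) m + m = h.al (c • x) m - m := (h.sub_eq _ _).symm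
    have e2 : h.al x m + m = h.al x m - m := (h.sub_eq _ _).symm
    rw [h.al0_smul, h.al0_smul, e1, e2]
    exact sub_eq_iff_eq_add'.1 hd.symm
  dual := by
    intro f hf
    obtain ⟨e, he, hee⟩ := h.dual_N h.pY h.Yp_ne (hN _ h.pY h.Yp_ne) f fun w hw =>
      hf _ ((h.al0_one hN).2 (h.fm_Eb (w := ⟨w, ee_le hw⟩) hw))
    have hx : h.sw * e * h.sw⁻¹ ∈ ee V Z Z := by
      have h1 : h.sw * e * h.sw⁻¹ ∈ cj h.sw (ee V Z h.Yp) := conj_mem_cj he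
      rwa [cj_ee h.sw_N, h.cj_sw'] at h1
    refine ⟨h.fm ⟨_, ee_le hx⟩, (h.al0_one hN).2 (h.fm_Eb hx), fun m => ?_⟩
    obtain ⟨w, rfl⟩ := h.fm_surj m
    rw [h.al0_smul, h.al_fm hN, ← h.sub_eq, h.ag_ee hx w, hee]
    congr 2
    group
  faith := fun x hx => h.HH_ext fun m => by rw [hx, one_smul]
  sK := h.sK0 (h.rd_eq hN hD)
  Kt_two := by
    have h1 : IsPGroup 2 (yl V Z : Subgroup G) := (o2_isPGroup _).to_le (h.yl_le_o2 hG)
    have h2 : IsPGroup 2 ((yl V Z).subgroupOf (centralizer (Z : Set G))) :=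
      h1.comap_of_injective (centralizer (Z : Set G)).subtype (Subgroup.subtype_injective _)
    exact h2.map _
  A_le_Kt := by
    intro x hx
    obtain ⟨a, ha, rfl⟩ := h.mem_A0.1 hx
    exact h.mem_K0.2 ⟨a, h.W_le_yl h.pY ha, rfl⟩
  Kt_fix := by
    intro x hx
    obtain ⟨t, ht, rfl⟩ := h.mem_K0.1 hx
    exact h.rp_cV (yl_le_cent V Z ht)
  Kt_A := by
    intro x y hx hy
    obtain ⟨t, ht, rfl⟩ := h.mem_K0.1 hx
    obtain ⟨a, ha, rfl⟩ := h.mem_A0.1 hy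
    refine h.HH_ext fun m => ?_
    exact LinearMap.congr_fun (h.yl_A ht ha) m
  Kt_E := by
    intro x e hx he
    obtain ⟨t, ht, rfl⟩ := h.mem_K0.1 hx
    obtain ⟨w, rfl⟩ := h.fm_surj e
    have hw := (h.fm_Eb_iff hN).1 ((h.al0_one hN).1 he)
    have h1 := h.one.yl_dd h.one.self ht hw
    have hWc := h.W_conj (h.hat_norm (h.C_le_hat (h.yl_C ht))) w.2
    have e1 : h.rH t (h.yl_C ht) • h.fm w = h.fm ⟨t * w * t⁻¹, hWc⟩ := h.rp_fm' (h.C_le_hat (h.yl_C ht)) w.2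
    rw [e1, ← h.fm_mul, h.fm_I0 hN]
    have e2 : ((⟨t * w * t⁻¹, hWc⟩ * w : ws V Z) : G) = t * w * t⁻¹ * (w : G)⁻¹ := by
      rw [h.one.inv_eq_W h.one.self w.2]; rfl
    rw [e2]
    exact h1
  Kt_I := by
    intro x m hx hm
    obtain ⟨t, ht, rfl⟩ := h.mem_K0.1 hx
    obtain ⟨u, hu, rfl⟩ := (h.mem_I0_iff hN hD).1 hm
    have h1 : t * u * t⁻¹ * u⁻¹ ∈ V := h.one.XV_I (yl_le_XV V Z ht) hu
    have h2 : h.rH t (h.yl_C ht) • h.fm ⟨u, h.one.I_le_W' hu⟩ = _ := h.rp_fm' (h.C_le_hat (h.yl_C ht)) (h.one.I_le_W' hu)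
    rw [h2, ← h.fm_mul]
    obtain ⟨c, hc⟩ := Submodule.mem_span_singleton.1 (h.mem_lam.2 ⟨⟨_, h.one.V_le_W' h1⟩, h1, rfl⟩)
    refine ⟨c, ?_⟩
    rw [hc]
    congr 1
    apply Subtype.ext
    show t * u * t⁻¹ * u = t * u * t⁻¹ * u⁻¹
    rw [h.one.inv_eq_W h.one.self (h.one.I_le_W' hu)]
  Kt_hom := by
    intro m hm hnp
    obtain ⟨u, hu, rfl⟩ := (h.mem_I0_iff hN hD).1 hm
    have huV : u ∉ V := by
      intro huV
      obtain ⟨c, hc⟩ := Submodule.mem_span_singleton.1 ((h.fm_mem_lam_I hu).2 huV)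
      exact hnp c hc.symm
    obtain ⟨k, hk, hku⟩ := h.exists_yl hu huV 1
    refine ⟨h.rH k (h.yl_C hk), h.mem_K0.2 ⟨k, hk, rfl⟩, ?_⟩
    have h2 : h.rH k (h.yl_C hk) • h.fm ⟨u, h.one.I_le_W' hu⟩ = _ := h.rp_fm' (h.C_le_hat (h.yl_C hk)) (h.one.I_le_W' hu)
    rw [h2, add_comm]
    show _ = h.fm ⟨h.e 0 1, h.W_V 0 1⟩ + _
    rw [← h.fm_mul]
    congr 1
    exact Subtype.ext hku

end Co

end Cfsg.Agent.Omega.NO3S.OneQ

end

section


/-!
# NO-3S, `OneSz` (`q ≥ 4`, `n = 1`), case (N): THEOREM P at all line vectors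

* `Co.PreI.A_ne_all` : `A l ≠ A m` for different points `l`, `m`
* **`Co.PreI.fold`** : `A m ≤ A l` is impossible
-/

set_option autoImplicit false
set_option linter.unusedSectionVars false

namespace Cfsg.Agent.Omega.NO3S.OneQ

open Subgroup Cfsg.Agent.Omega.NO3S.PT Cfsg.Agent.Omega.NoFF.Basic
open scoped Pointwise

universe u

variable {G : Type u} [Group G]

namespace Co

variable [Finite G] {F : Type*} [Field F] [CharP F 2] {S : Sylow 2 G} {B P V Z : Subgroup G} {h : Co F S B P V Z}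

namespace PreI

variable {H : Type*} [Group H] [DistribMulAction H h.MF] {ρ : centralizer (Z : Set G) →* H}
    {L : Set h.MF} {A : h.MF → Subgroup H} {I : h.MF → Submodule F h.MF} {al : h.MF → h.MF → H}
    {Kt : h.MF → Subgroup H} (i : h.PreI ρ L A I al Kt)
include i

theorem mem_A_smul {g : H} {l : h.MF} (hl : l ∈ L) (hgl : g • l ∈ L) {x : H} :
    x ∈ A (g • l) ↔ g⁻¹ * x * g ∈ A l := by
  constructor
  · intro hx
    have := i.pre.A_conj g⁻¹ hgl hx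
    rwa [inv_smul_smul, inv_inv] at this
  · intro hx
    have := i.pre.A_conj g hl hx
    have e : g * (g⁻¹ * x * g) * g⁻¹ = x := by group
    rwa [e] at this

/-- **THEOREM P** -/
theorem A_ne_all (hNN : NN V Z) (hK : Ker ρ V) {l m : h.MF} (hl : l ∈ L) (hm : m ∈ L) (hnp : TIq.NP F l m) :
    A l ≠ A m := by
  intro hA
  obtain ⟨g, c, hc, rfl⟩ := i.orbit l hl
  obtain ⟨k, d, hd, rfl⟩ := i.orbit m hm
  have hg := i.smul_mem g _ i.v0_mem
  have hk := i.smul_mem k _ i.v0_mem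
  rw [i.pre.A_sm hc hg, i.pre.A_sm hd hk] at hA
  have e1 : ρ (g⁻¹ * k) • h.v0 = (ρ g)⁻¹ • ρ k • h.v0 := by rw [map_mul, map_inv, mul_smul]
  have hgk : ρ (g⁻¹ * k) • h.v0 ∈ L := i.smul_mem _ _ i.v0_mem
  refine i.A_ne hNN hK (g⁻¹ * k).2 (c := ((g⁻¹ * k : centralizer (Z : Set G)) : G)) ?_ ?_
  · intro t ht
    have ht' : ρ (g⁻¹ * k) • h.v0 = t • h.v0 := ht
    rw [e1, inv_smul_eq_iff, i.pre.lin] at ht'
    apply hnp (d * t * c⁻¹)
    rw [ht', smul_smul, smul_smul, mul_assoc, inv_mul_cancel₀ hc, mul_one]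
  · show A h.v0 = A (ρ (g⁻¹ * k) • h.v0)
    rw [e1]
    ext x
    rw [i.mem_A_smul hk (by rw [← e1]; exact hgk), inv_inv, ← hA, i.mem_A_smul i.v0_mem hg]
    have e2 : (ρ g)⁻¹ * (ρ g * x * (ρ g)⁻¹) * ρ g = x := by group
    rw [e2]

/-- `|A l| = |A m|` -/
theorem A_eq_of_le [Finite H] {l m : h.MF} (hl : l ∈ L) (hm : m ∈ L) (hA : A m ≤ A l) : A l = A m := by
  refine (eq_of_le_of_card_ge hA ?_).symm
  obtain ⟨g, c, hc, rfl⟩ := i.orbit l hl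
  obtain ⟨k, d, hd, rfl⟩ := i.orbit m hm
  have hg := i.smul_mem g _ i.v0_mem
  have hk := i.smul_mem k _ i.v0_mem
  rw [i.pre.A_sm hc hg, i.pre.A_sm hd hk]
  have e : ρ k • h.v0 = (ρ k * (ρ g)⁻¹) • ρ g • h.v0 := by rw [mul_smul, inv_smul_smul]
  rw [e]
  rw [e] at hk
  refine Nat.card_le_card_of_injective
    (fun a : A (ρ g • h.v0) => (⟨ρ k * (ρ g)⁻¹ * a * (ρ k * (ρ g)⁻¹)⁻¹, i.pre.A_conj _ hg a.2⟩ :
      A ((ρ k * (ρ g)⁻¹) • ρ g • h.v0))) ?_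
  intro a b hab
  exact Subtype.ext (by simpa using congrArg Subtype.val hab)

/-- **LEMMA PLANE, pure form** : the field `fold` of helper859's `SgB.ti` -/
theorem fold [Finite H] (hNN : NN V Z) (hK : Ker ρ V) {l m : h.MF} (hl : l ∈ L) (hm : m ∈ L)
    (hnp : TIq.NP F l m) (hA : ∀ a ∈ A m, a ∈ A l) : False :=
  i.A_ne_all hNN hK hl hm hnp (i.A_eq_of_le hl hm hA)

/-- `Ker` from `rd = Z` -/
theorem ker_of_rd (hrd : rd V Z = Z) : Ker ρ V := by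
  intro g hg h1 _
  refine mem_kx.2 ⟨fun z hz => ((mem_centralizer_iff.1 hg) z hz).symm, fun w hw => ?_⟩
  have h2 := i.fm_act hg hw
  rw [h1, one_smul, h.fm_eq, hrd] at h2
  have h3 := inv_mem h2
  have e : (w * (g * w * g⁻¹)⁻¹)⁻¹ = g * w * g⁻¹ * w⁻¹ := by group
  rwa [e] at h3

end PreI

/-- `{g ∈ C_G(Z) | [W_Z, g] ≤ rd, [rd, g] ≤ Z}` -/
def kr (V Z : Subgroup G) : Subgroup G where
  carrier := {g | g ∈ centralizer (Z : Set G) ∧ (∀ w ∈ ws V Z, g * w * g⁻¹ * w⁻¹ ∈ rd V Z) ∧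
    ∀ r ∈ rd V Z, g * r * g⁻¹ * r⁻¹ ∈ Z}
  one_mem' := ⟨one_mem _, fun w _ => by rw [one_mul, inv_one, mul_one, mul_inv_cancel]; exact one_mem _,
    fun r _ => by rw [one_mul, inv_one, mul_one, mul_inv_cancel]; exact one_mem _⟩
  mul_mem' := by
    rintro a b ⟨ha, ha1, ha2⟩ ⟨hb, hb1, hb2⟩
    have haN := centralizer_le_normalizer _ ha
    refine ⟨mul_mem ha hb, fun w hw => ?_, fun r hr => ?_⟩
    · have e : a * b * w * (a * b)⁻¹ * w⁻¹ = a * (b * w * b⁻¹ * w⁻¹) * a⁻¹ * (a * w * a⁻¹ * w⁻¹) := by group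
      rw [e]
      exact mul_mem ((mem_normalizer_iff.1 (norm_rd V Z haN) _).1 (hb1 w hw)) (ha1 w hw)
    · have e : a * b * r * (a * b)⁻¹ * r⁻¹ = a * (b * r * b⁻¹ * r⁻¹) * a⁻¹ * (a * r * a⁻¹ * r⁻¹) := by group
      rw [e]
      exact mul_mem ((mem_normalizer_iff.1 haN _).1 (hb2 r hr)) (ha2 r hr)
  inv_mem' := by
    rintro a ⟨ha, ha1, ha2⟩
    have haN := centralizer_le_normalizer _ ha
    refine ⟨inv_mem ha, fun w hw => ?_, fun r hr => ?_⟩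
    · have h1 := inv_mem (ha1 w hw)
      have h2 := (mem_normalizer_iff.1 (inv_mem (norm_rd V Z haN)) _).1 h1
      have e : a⁻¹ * (a * w * a⁻¹ * w⁻¹)⁻¹ * a⁻¹⁻¹ = a⁻¹ * w * a⁻¹⁻¹ * w⁻¹ := by group
      rwa [e] at h2
    · have h1 := inv_mem (ha2 r hr)
      have h2 := (mem_normalizer_iff.1 (inv_mem haN) _).1 h1
      have e : a⁻¹ * (a * r * a⁻¹ * r⁻¹)⁻¹ * a⁻¹⁻¹ = a⁻¹ * r * a⁻¹⁻¹ * r⁻¹ := by group
      rwa [e] at h2

theorem mem_kr {V Z : Subgroup G} {g : G} : g ∈ kr V Z ↔ g ∈ centralizer (Z : Set G) ∧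
    (∀ w ∈ ws V Z, g * w * g⁻¹ * w⁻¹ ∈ rd V Z) ∧ ∀ r ∈ rd V Z, g * r * g⁻¹ * r⁻¹ ∈ Z := Iff.rfl

theorem norm_kr {V Z : Subgroup G} : normalizer (Z : Set G) ≤ normalizer ((kr V Z : Subgroup G) : Set G) := by
  have key : ∀ g ∈ normalizer (Z : Set G), ∀ x ∈ kr V Z, g * x * g⁻¹ ∈ kr V Z := by
    rintro g hg x ⟨hx, hx1, hx2⟩
    have hgW := normalizer_le_ws V Z hg
    have hgR := norm_rd V Z hg
    have hgC : g * x * g⁻¹ ∈ centralizer (Z : Set G) := by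
      have h1 : PT.cj g (centralizer (Z : Set G)) = centralizer (Z : Set G) := by
        rw [cj_centralizer, cj_eq_iff.2 hg]
      rw [← h1]
      exact conj_mem_cj hx
    refine ⟨hgC, fun w hw => ?_, fun r hr => ?_⟩
    · have h1 : g⁻¹ * w * g ∈ ws V Z := by
        have := (mem_normalizer_iff.1 (inv_mem hgW) w).1 hw
        rwa [inv_inv] at this
      have h2 := (mem_normalizer_iff.1 hgR _).1 (hx1 _ h1)
      have e : g * (x * (g⁻¹ * w * g) * x⁻¹ * (g⁻¹ * w * g)⁻¹) * g⁻¹ = g * x * g⁻¹ * w * (g * x * g⁻¹)⁻¹ * w⁻¹ := by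
        group
      rwa [e] at h2
    · have h1 : g⁻¹ * r * g ∈ rd V Z := by
        have := (mem_normalizer_iff.1 (inv_mem hgR) r).1 hr
        rwa [inv_inv] at this
      have h2 := (mem_normalizer_iff.1 hg _).1 (hx2 _ h1)
      have e : g * (x * (g⁻¹ * r * g) * x⁻¹ * (g⁻¹ * r * g)⁻¹) * g⁻¹ = g * x * g⁻¹ * r * (g * x * g⁻¹)⁻¹ * r⁻¹ := by
        group
      rwa [e] at h2
  intro g hg
  rw [mem_normalizer_iff]
  intro x
  refine ⟨key g hg x, fun hx => ?_⟩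
  have h1 := key g⁻¹ (inv_mem hg) _ hx
  have e : g⁻¹ * (g * x * g⁻¹) * g⁻¹⁻¹ = x := by group
  rwa [e] at h1

end Co

end Cfsg.Agent.Omega.NO3S.OneQ

end

section


/-!
# NO-3S, `OneSz`: `Co.Ker` from LEMMA Q+ (every `D_x`, `rd > Z` allowed)

* `Co.kr_le_kx` : `{g ∈ C_G(Z) | [W_Z, g] ≤ rd, [rd, g] ≤ Z} ≤ K_Z`
* **`Co.ker_of_Q`** : `Ker ρ V`
-/

set_option autoImplicit false
set_option linter.unusedSectionVars false

namespace Cfsg.Agent.Omega.NO3S.OneQ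

open Subgroup Cfsg.Agent.Omega.NO3S.PT Cfsg.Agent.Omega.NoFF.Basic
open scoped Pointwise

universe u

variable {G : Type u} [Group G]

namespace Co

theorem kr_pow {g w r : G} (h1 : g * w * g⁻¹ = r * w) (h2 : g * r * g⁻¹ = r) (n : ℕ) :
    g ^ n * w * (g ^ n)⁻¹ = r ^ n * w := by
  induction n with
  | zero => simp
  | succ n ih =>
    have e1 : g ^ (n + 1) * w * (g ^ (n + 1))⁻¹ = g * (g ^ n * w * (g ^ n)⁻¹) * g⁻¹ := by
      rw [pow_succ']; group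
    have e2 : g * (r ^ n * w) * g⁻¹ = g * r ^ n * g⁻¹ * (g * w * g⁻¹) := by group
    have e3 : g * r ^ n * g⁻¹ = r ^ n := by rw [← conj_pow, h2]
    rw [e1, ih, e2, e3, h1, ← mul_assoc, ← pow_succ]

theorem kr_one {g w r : G} (ho : Odd (orderOf g)) (h1 : g * w * g⁻¹ = r * w) (h2 : g * r * g⁻¹ = r)
    (h3 : r * r = 1) : r = 1 := by
  have h4 := kr_pow h1 h2 (orderOf g)
  rw [pow_orderOf_eq_one, inv_one, mul_one, one_mul] at h4
  have h5 : r ^ orderOf g = 1 := by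
    have := h4.symm
    rwa [mul_eq_right] at this
  obtain ⟨k, hk⟩ := ho
  rw [hk, pow_succ, pow_mul, pow_two, h3, one_pow, one_mul] at h5
  exact h5

variable [Finite G] {F : Type*} [Field F] [CharP F 2] {S : Sylow 2 G} {B P V Z : Subgroup G} (h : Co F S B P V Z)
include h

theorem kr_odd {g : G} (hg : g ∈ kr V Z) (ho : Odd (orderOf g)) : g ∈ centralizer ((ws V Z : Subgroup G) : Set G) := by
  have hrW : rd V Z ≤ ws V Z := rd_le
  have hZW : Z ≤ ws V Z := h.Z_le_rd.trans rd_le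
  have hr : ∀ r ∈ rd V Z, g * r * g⁻¹ = r := by
    intro r hr
    have h1 := hg.2.2 r hr
    have h2 := kr_one (g := g) (w := r) (r := g * r * g⁻¹ * r⁻¹) ho (by group)
      (by rw [← (mem_centralizer_iff.1 hg.1) _ h1, mul_inv_cancel_right]) (h.one.sq_W h.one.self (hZW h1))
    rwa [mul_inv_eq_one] at h2
  rw [mem_centralizer_iff]
  intro w hw
  have h1 := hg.2.1 w hw
  have h2 := kr_one (g := g) (w := w) (r := g * w * g⁻¹ * w⁻¹) ho (by group)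
      (hr _ h1) (h.one.sq_W h.one.self (hrW h1))
  rw [mul_inv_eq_one, mul_inv_eq_iff_eq_mul] at h2
  exact h2.symm

theorem two_kr [Finite F] (hG : IsCharacteristicTwoType G) : IsPGroup 2 (kr V Z) := by
  rintro ⟨g, hg⟩
  obtain ⟨m, hm⟩ := QAbs.exists_odd g
  have h1 := h.kr_odd (pow_mem hg (2 ^ m)) hm
  obtain ⟨k, hk⟩ := h.two_cent hG h.one.self.cj ⟨_, h1⟩
  refine ⟨m + k, Subtype.ext ?_⟩
  have h2 := congrArg Subtype.val hk
  show g ^ 2 ^ (m + k) = 1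
  rw [pow_add, pow_mul]
  simpa using h2

/-- `{g ∈ C_G(Z) | [W_Z, g] ≤ rd, [rd, g] ≤ Z} ≤ K_Z` -/
theorem kr_le_kx [Finite F] (hG : IsCharacteristicTwoType G) : kr V Z ≤ kx V Z := by
  rw [h.kx_eq hG h.one.self.cj]
  exact ZN.Block.le_o2 (h.two_kr hG) (fun g hg => hg.1) ((centralizer_le_normalizer _).trans norm_kr)

/-- LEMMA Q+ gives `Ker` for every instance -/
theorem ker_of_Q [Finite F] (hG : IsCharacteristicTwoType G) {H : Type*} [Group H] [DistribMulAction H h.MF]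
    {ρ : centralizer (Z : Set G) →* H} (act : ∀ g m, ρ g • m = h.rep g m) : Ker ρ V := by
  intro g hg h1 h2
  refine h.kr_le_kx hG ⟨hg, fun w hw => ?_, h2⟩
  have h3 : ρ ⟨g, hg⟩ • h.fm ⟨w, hw⟩ = h.fm ⟨g * w * g⁻¹, h.W_conj (centralizer_le_normalizer _ hg) hw⟩ := by
    rw [act]
    exact h.rep_fm ⟨g, hg⟩ ⟨w, hw⟩
  rw [h1, one_smul, h.fm_eq] at h3
  have h4 := inv_mem h3
  have e : (w * (g * w * g⁻¹)⁻¹)⁻¹ = g * w * g⁻¹ * w⁻¹ := by group
  rwa [e] at h4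

end Co

end Cfsg.Agent.Omega.NO3S.OneQ

end

end
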