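import Cfsg.Agent.WeakTI.BenderModel
import Cfsg.Agent.WeakTI.FlatBorel
import Cfsg.Agent.Mrg.Omega.NO3S.OneQ.TIq.Base
import Cfsg.Agent.Mrg.Omega.NO3S.OneQ.TIq.Phi
import Cfsg.Agent.Mrg.Omega.NO3S.OneQ.Fix
import Cfsg.Agent.Mrg.Omega.TwoFFour.SzNatC
import Cfsg.Agent.Mrg.Omega.NO3S.OneQ.InstB
import Cfsg.Agent.Mrg.Omega.NO3S.OneQ.InstA
import Cfsg.Agent.Mrg.Omega.NO3S.OneQ.KOneDx
import Cfsg.Agent.Mrg.Omega.NO3S.OneQ.KOneTIG

-- merged: Cfsg.Agent.Mrg.Omega.NO3S.OneQ.TIq.Bend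
section

section


/-!
# NO-3S, `OneSz`: the group-theoretic end (bb OMEGA #19637 (E4))

`NoE A` : `A` is an elementary abelian TI-subgroup with `N_A(B) = 1` for all conjugates `B ≠ A`, not normal, `|A| ≥ 4`.

* `NoE.of` : from `1 ≠ a ∈ N_A(B) → B = A`;
* `NoE.isoSuzuki` : if `Z(⟨A^H⟩) = 1` and `A` has `|A|² + 1` conjugates then `⟨A^H⟩` is a Suzuki group, with a Sylow
  2-subgroup of order `|A|²` whose involutions are in `A`.
-/

set_option autoImplicit false
set_option linter.unusedSectionVars false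

namespace Cfsg.Agent.Omega.NO3S.OneQ.TIq

open Subgroup Pointwise
open Cfsg.Agent.WeakTI.Basic Cfsg.Agent.WeakTI.PairBasic Cfsg.Agent.WeakTI.ReduceTwo Cfsg.Agent.WeakTI.NoEdges
open Cfsg.Agent.WeakTI.QuotInv Cfsg.Agent.WeakTI.AxisQuot Cfsg.Agent.WeakTI.SubTransfer
open Cfsg.Agent.WeakTI.ReduceComponent Cfsg.Agent.WeakTI.ReduceMain Cfsg.Agent.WeakTI.BenderAct
open Cfsg.Agent.WeakTI.FlatBorel (CritAll BenderAll)

universe u

variable {H : Type u} [Group H] {A B C : Subgroup H}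

/-- `A` is elementary abelian, TI, without edges, not normal, `|A| ≥ 4` -/
structure NoE (A : Subgroup H) : Prop where
  wa : WTI A
  hno : ∀ B, ¬ Pair A B
  nn : ∃ B, Cj A B ∧ A ≠ B
  card : 4 ≤ Nat.card A

/-- the constructor: `1 ≠ a ∈ A` normalises no conjugate `B ≠ A` -/
theorem NoE.of (hc : ∀ a ∈ A, ∀ b ∈ A, a * b = b * a) (hsq : ∀ a ∈ A, a * a = 1) (h4 : 4 ≤ Nat.card A)
    (hN : ∀ g a : H, a ∈ A → a ≠ 1 → a ∈ normalizer ((MulAut.conj g • A : Subgroup H) : Set H) →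
      MulAut.conj g • A = A)
    (hnn : ∃ g : H, MulAut.conj g • A ≠ A) : NoE A := by
  have hne : A ≠ ⊥ := by
    rintro rfl
    rw [Subgroup.card_bot] at h4
    omega
  have hwa : WTI A :=
    { comm := hc
      sq := hsq
      ne := hne
      ti := by
        intro g
        by_cases h1 : MulAut.conj g • A ⊓ A = ⊥
        · exact Or.inr h1
        · obtain ⟨x, hx, hx1⟩ := exists_mem_ne_one h1
          exact Or.inl (hN g x hx.2 hx1 (le_normalizer hx.1))
      wc := by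
        intro g hg
        obtain ⟨a, ha, ha1⟩ := exists_mem_ne_one hne
        have h1 : g * a * g⁻¹ ∈ normalizer (A : Set H) := hg (conj_mem_cj ha)
        have h2 : a ∈ normalizer ((MulAut.conj g⁻¹ • A : Subgroup H) : Set H) := by
          rw [mem_normalizer_iff_cj] at h1 ⊢
          have h3 := congrArg (fun S => MulAut.conj g⁻¹ • S) h1
          simp only [← cj_mul] at h3
          rw [← cj_mul]
          have e : g⁻¹ * (g * a * g⁻¹) = a * g⁻¹ := by group
          rwa [e] at h3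
        have h3 := hN g⁻¹ a ha ha1 h2
        have h4 := congrArg (fun S => MulAut.conj g • S) h3
        simp only [← cj_mul, mul_inv_cancel, cj_one] at h4
        exact h4.symm }
  refine ⟨hwa, ?_, ?_, h4⟩
  · rintro B ⟨-, ⟨g, rfl⟩, hAB, hnb⟩
    obtain ⟨x, hx, hx1⟩ := exists_mem_ne_one hnb
    exact hAB (hN g x (mem_nrm.1 hx).1 hx1 (mem_nrm.1 hx).2).symm
  · obtain ⟨g, hg⟩ := hnn
    exact ⟨_, ⟨g, rfl⟩, fun e => hg e.symm⟩

namespace NoE

theorem eq_of_commute [Finite H] (h : NoE A) (hB : Cj A B) (hC : Cj A C) {b c : H} (hb : b ∈ B) (hb1 : b ≠ 1)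
    (hc : c ∈ C) (hc1 : c ≠ 1) (hbc : b * c = c * b) : B = C :=
  Cfsg.Agent.WeakTI.NoEdges.eq_of_commute h.wa h.hno hB hC hb hb1 hc hc1 hbc

/-- the normaliser of `A` contains every element fixing a nontrivial element of `A` -/
theorem eq_of_norm (h : NoE A) (hB : Cj A B) {a : H} (ha : a ∈ A) (ha1 : a ≠ 1) (haB : a ∈ normalizer (B : Set H)) :
    A = B := by
  by_contra hne
  refine h.hno B ⟨h.wa, hB, hne, fun hbot => ha1 ?_⟩
  have h1 : a ∈ nrm A B := mem_nrm.2 ⟨ha, haB⟩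
  rw [hbot] at h1
  exact mem_bot.1 h1

variable [Finite H]

/-- the passage to `X ≥ ⟨A^H⟩` -/
theorem noEdges_sub (h : NoE A) (D : Subgroup (soc A)) : ¬ Pair (A.subgroupOf (soc A)) D := by
  intro hp
  obtain ⟨C, hC, hCH, rfl⟩ := cj_of_cj_subgroupOf le_soc hp.cj
  exact h.hno C (pair_of_pair_subgroupOf h.wa le_soc hCH hp)

theorem sub (h : NoE A) : NoE (A.subgroupOf (soc A)) where
  wa := h.wa.subgroupOf le_soc
  hno := h.noEdges_sub
  nn := by
    obtain ⟨B, hB, hAB⟩ := h.nn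
    exact ⟨_, cj_subgroupOf_of_cj h.wa le_soc hB (cj_le_soc hB),
      fun he => hAB (subgroupOf_inj le_soc (cj_le_soc hB) he)⟩
  card := by
    rw [Nat.card_congr (Subgroup.subgroupOfEquivOfLe le_soc).toEquiv]
    exact h.card

theorem inf_pCore (h : NoE A) : A ⊓ pCore 2 H = ⊥ := by
  by_contra hne
  obtain ⟨x, ⟨hxA, hxO⟩, hx1⟩ := exists_mem_ne_one hne
  obtain ⟨B, hB, hAB⟩ := h.nn
  exact hAB (h.eq_of_norm hB hxA hx1 (pCore_le_normalizer (h.wa.of_cj hB) hxO))

/-- central elements in members are trivial -/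
theorem eq_one_of_central (h : NoE A) (hB : Cj A B) {z : H} (hz : z ∈ B) (hzc : z ∈ center H) : z = 1 := by
  by_contra hz1
  obtain ⟨C, hC, hAC⟩ := h.nn
  have h1 : ∀ D, Cj A D → B = D := by
    intro D hD
    obtain ⟨d, hd, hd1⟩ := exists_mem_ne_one (h.wa.of_cj hD).ne
    exact h.eq_of_commute hB hD hz hz1 hd hd1 (mem_center_iff.1 hzc d).symm
  exact hAC ((h1 A (Cj.refl A)).symm.trans (h1 C hC))

/-- `Red A` if the conjugates of `A` generate and the centre is trivial -/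
theorem red (h : NoE A) (hgen : normalClosure (A : Set H) = ⊤) (hZ : center H = ⊥) : Red A where
  wti := h.wa
  gen := hgen
  card := h.card
  ab := Cfsg.Agent.WeakTI.ReduceCenter.normal_abelian_eq_bot h.wa hgen h.card h.inf_pCore hZ
  odd := by
    rw [eq_bot_iff, ← hZ]
    exact Cfsg.Agent.WeakTI.ReduceCenter.pPrimeCore_le_center h.wa hgen h.card

/-- the number of conjugates in `⟨A^H⟩` -/
theorem card_sub (h : NoE A) :
    Nat.card {D // Cj (A.subgroupOf (soc A)) D} = Nat.card {D // Cj A D} := by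
  refine (Nat.card_congr (Equiv.ofBijective (fun D : {D // Cj A D} =>
    (⟨D.1.subgroupOf (soc A), cj_subgroupOf_of_cj h.wa le_soc D.2 (cj_le_soc D.2)⟩ :
      {D // Cj (A.subgroupOf (soc A)) D})) ⟨?_, ?_⟩)).symm
  · rintro ⟨D, hD⟩ ⟨D', hD'⟩ he
    exact Subtype.ext (subgroupOf_inj (cj_le_soc hD) (cj_le_soc hD') (congrArg Subtype.val he))
  · rintro ⟨D, hD⟩
    obtain ⟨C, hC, hCH, rfl⟩ := cj_of_cj_subgroupOf le_soc hD
    exact ⟨⟨C, hC⟩, rfl⟩

/-- `NE A` in a simple group -/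
theorem ne_of_simple (h : NoE A) (hs : IsSimpleGroup H) : NE A where
  wa := h.wa
  hno := h.hno
  card := h.card
  faithful := by
    rcases hs.eq_bot_or_eq_top_of_normal (kern A) inferInstance with h1 | h1
    · exact h1
    · exfalso
      obtain ⟨B, ⟨g, rfl⟩, hAB⟩ := h.nn
      have h2 : g ∈ normalizer (A : Set H) := kern_le_normalizer (h1 ▸ mem_top g)
      exact hAB (mem_normalizer_iff_cj.1 h2).symm

/-- the case `⟨A^H⟩ = H` -/
theorem exists_bor (h : NoE A) (hcrit : CritAll.{u}) (hbend : BenderAll.{u})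
    (hgen : normalClosure (A : Set H) = ⊤) (hZ : center H = ⊥)
    (hc : Nat.card {D // Cj A D} = Nat.card A ^ 2 + 1) :
    Cfsg.Lie.IsoSuzuki H ∧ ∃ T : Subgroup H, Bor A T ∧ Nat.card T = Nat.card A ^ 2 := by
  have hR := h.red hgen hZ
  obtain ⟨hs, hna⟩ := Cfsg.Agent.WeakTI.NoEdges.isSimpleGroup hR h.hno
  have hne := h.ne_of_simple hs
  have hA4 := h.card
  rcases hbend H hs hna (exists_stronglyEmbedded h.wa h.hno (normalizer_ne_top hR) (hcrit H hs hna)) with
    ⟨F, i1, i2, hchar, -, ⟨e⟩⟩ | hS | ⟨F, i1, i2, q, hF, hq, -, ⟨e⟩⟩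
  · exfalso
    have h1 := (bor_of_psl e hne).card_members hne
    rw [hc] at h1
    nlinarith
  · exact ⟨hS, Cfsg.Agent.WeakTI.BenderModel.bor_card_of_suzuki hS hne⟩
  · exfalso
    obtain ⟨T, hT, hTc⟩ := Cfsg.Agent.WeakTI.BenderModel.bor_card_of_psu hF hq e hne
    have h1 := hT.card_members hne
    rw [hc, hTc] at h1
    have h2 : Nat.card A ^ 2 < Nat.card A ^ 3 := Nat.pow_lt_pow_right (by omega) (by norm_num)
    omega

/-- the largest 2-subgroup of `N(A)` is a Sylow 2-subgroup -/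
theorem exists_sylow (h : NoE A) {T : Subgroup H} (hT : Bor A T) : ∃ P : Sylow 2 H, (P : Subgroup H) = T := by
  have : Fact (Nat.Prime 2) := ⟨Nat.prime_two⟩
  obtain ⟨P, hP⟩ := h.wa.isPGroup.exists_le_sylow
  have hPN := h.wa.le_normalizer_of_isPGroup P.isPGroup' hP
  have hPT : (P : Subgroup H) ≤ T := by
    intro x hx
    obtain ⟨k, hk⟩ := P.isPGroup' ⟨x, hx⟩
    exact hT.mem_of_pow x (hPN hx) k (congrArg Subtype.val hk)
  have hT2 : IsPGroup 2 T := by
    intro x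
    refine ⟨2, Subtype.ext ?_⟩
    have h1 := hT.pow x x.2
    simpa using h1
  exact ⟨P, (P.is_maximal' hT2 hPT).symm⟩

/-- **(E4)**: if `Z(⟨A^H⟩) = 1` and `A` has `|A|² + 1` conjugates then `⟨A^H⟩` is a Suzuki group, with a Sylow
2-subgroup of order `|A|²` whose involutions lie in `A`. -/
theorem isoSuzuki (h : NoE A) (hcrit : CritAll.{u}) (hbend : BenderAll.{u}) (hZ : center (soc A) = ⊥)
    (hc : Nat.card {D // Cj A D} = Nat.card A ^ 2 + 1) :
    Cfsg.Lie.IsoSuzuki (soc A) ∧ ∃ P : Sylow 2 (soc A), Nat.card P = Nat.card A ^ 2 ∧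
      (∀ x ∈ P, x * x = 1 → (x : H) ∈ A) ∧ ∀ x : soc A, (x : H) ∈ A → x ∈ P := by
  have h1 := h.sub
  have hcA : Nat.card (A.subgroupOf (soc A)) = Nat.card A :=
    Nat.card_congr (Subgroup.subgroupOfEquivOfLe le_soc).toEquiv
  obtain ⟨h2, T, hT, hTc⟩ := h1.exists_bor hcrit hbend (normalClosure_subgroupOf h.wa) hZ
    (by rw [h.card_sub, hc, hcA])
  obtain ⟨P, rfl⟩ := h1.exists_sylow hT
  refine ⟨h2, P, ?_, ?_, ?_⟩
  · rw [← hcA]
    exact hTc
  · intro x hx hxx
    exact mem_subgroupOf.1 (hT.mem_of_sq x hx hxx)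
  · intro x hx
    exact hT.le (mem_subgroupOf.2 hx)

end NoE

end Cfsg.Agent.Omega.NO3S.OneQ.TIq

end

section


/-!
# NO-3S, `OneSz`: the group-theoretic end over `TIq.Gen` (bb OMEGA #19637 (E4))

`Opp F L A` : `a ∈ A l` fixes no `m ∈ L` outside `F l`; `Reg F L Kt` : `Kt l` is regular on the points `≠ F l`.

* `Gen.cj_A` : `A l ^ h = A (h l)`; `Gen.noE` : `A l` has no edges;
* `Gen.card_members` : the number of conjugates of `A l` is `|Kt l| + 1`;
* `Gen.center_soc` : `Z(⟨A^H⟩) = 1` if `dim_F M = 4`;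
* `Gen.isoSuzuki` : `⟨A^H⟩` is a Suzuki group.
-/

set_option autoImplicit false
set_option linter.unusedSectionVars false

namespace Cfsg.Agent.Omega.NO3S.OneQ.TIq

open Subgroup Pointwise
open Cfsg.Agent.WeakTI.Basic Cfsg.Agent.WeakTI.PairBasic Cfsg.Agent.WeakTI.QuotInv
open Cfsg.Agent.WeakTI.FlatBorel (CritAll BenderAll)

universe u

/-- all pairs are opposite -/
def Opp (F : Type*) {M H : Type*} [SMul F M] [Group H] [SMul H M] (L : Set M) (A : M → Subgroup H) : Prop :=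
  ∀ {l m : M} {a : H}, l ∈ L → m ∈ L → NP F l m → a ∈ A l → a • m = m → a = 1

/-- `Kt l` is regular on the points different from `F l` -/
structure Reg (F : Type*) {M H : Type*} [Field F] [SMul F M] [Group H] [SMul H M] (L : Set M) (Kt : M → Subgroup H)
    (l : M) : Prop where
  trans : ∀ m ∈ L, ∀ m' ∈ L, NP F l m → NP F l m' → ∃ t ∈ Kt l, ∃ c : F, c ≠ 0 ∧ t • m = c • m'
  eq_one : ∀ m ∈ L, NP F l m → ∀ t ∈ Kt l, ∀ c : F, t • m = c • m → t = 1

namespace Gen

variable {F M : Type*} {H : Type u} [Field F] [AddCommGroup M] [Module F M] [Group H] [DistribMulAction H M] {L : Set M}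
    {A : M → Subgroup H} {I : M → Submodule F M} {al : M → M → H}

/-- `A l ^ h = A (h l)` -/
theorem cj_A (G : Gen F L A I al) {l : M} (hl : l ∈ L) (h : H) : MulAut.conj h • A l = A (h • l) := by
  ext x
  rw [mem_cj]
  constructor
  · intro hx
    have h1 := G.A_conj h hl hx
    have e : h * (h⁻¹ * x * h) * h⁻¹ = x := by group
    rwa [e] at h1
  · intro hx
    have h1 := G.A_conj h⁻¹ (G.smul h hl) hx
    rwa [inv_smul_smul, inv_inv] at h1

/-- `A l = A m` only if `m ∈ F l` -/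
theorem exists_of_A_eq (G : Gen F L A I al) {l m : M} (hl : l ∈ L) (hm : m ∈ L) (he : A l = A m) : ∃ c : F, m = c • l := by
  obtain ⟨a, ha, ha1⟩ := G.ne hl
  exact G.ti hl hm ha (he ▸ ha) ha1

theorem exists_of_norm (G : Gen F L A I al) {l : M} {h : H} (hl : l ∈ L) (hh : h ∈ normalizer (A l : Set H)) :
    ∃ c : F, h • l = c • l := by
  rw [mem_normalizer_iff_cj, G.cj_A hl] at hh
  exact G.exists_of_A_eq hl (G.smul h hl) hh.symm

/-- no edges -/
theorem noE (G : Gen F L A I al) (ho : Opp F L A) {l m : M} (hl : l ∈ L) (hm : m ∈ L) (hlm : NP F l m)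
    (h4 : 4 ≤ Nat.card (A l)) : NoE (A l) := by
  refine NoE.of (fun a ha b hb => G.A_comm hl ha hb) (fun a ha => G.sq hl ha) h4 ?_ ?_
  · intro g a ha ha1 haN
    rw [G.cj_A hl] at haN ⊢
    obtain ⟨c, hc⟩ := G.exists_of_norm (G.smul g hl) haN
    have h1 := G.fix_of_inv (G.smul g hl) (G.sq hl ha) hc
    by_cases hn : NP F l (g • l)
    · exact absurd (ho hl (G.smul g hl) hn ha h1) ha1
    · unfold NP at hn
      push Not at hn
      obtain ⟨d, hd⟩ := hn
      have hd0 : d ≠ 0 := by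
        rintro rfl
        rw [zero_smul] at hd
        exact G.ne_zero (G.smul g hl) hd
      rw [hd, G.A_sm hd0 hl]
  · obtain ⟨h, c, hc, he⟩ := G.trans hl hm
    refine ⟨h, fun h1 => ?_⟩
    rw [G.cj_A hl, he, G.A_sm hc hm] at h1
    obtain ⟨d, hd⟩ := G.exists_of_A_eq hl hm h1.symm
    exact hlm d hd

/-- the number of conjugates -/
theorem card_members [Finite H] (G : Gen F L A I al) {Kt : M → Subgroup H} {l m : M} (hl : l ∈ L) (hm : m ∈ L)
    (hlm : NP F l m) (hfix : ∀ t ∈ Kt l, t • l = l) (hR : Reg F L Kt l) :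
    Nat.card {D // Cj (A l) D} = Nat.card (Kt l) + 1 := by
  have hlm' := G.np_symm hl hm hlm
  have key : ∀ t : H, t ∈ Kt l → NP F l (t • m) := by
    intro t ht c hc
    apply hlm c
    have h1 : t • m = t • (c • l) := by rw [hc, G.lin, hfix t ht]
    exact smul_left_cancel t h1
  have hfin : Finite (Kt l) := inferInstance
  rw [← Finite.card_option]
  symm
  let f : Option (Kt l) → {D // Cj (A l) D} := fun x =>
    match x with
    | none => ⟨A l, Cj.refl _⟩
    | some t => ⟨MulAut.conj (t : H) • A m, by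
        obtain ⟨h, c, hc, he⟩ := G.trans hl hm
        refine ⟨t * h, ?_⟩
        rw [cj_mul, G.cj_A hl, he, G.A_sm hc hm]⟩
  have hA : ∀ t : H, MulAut.conj t • A m = A (t • m) := fun t => G.cj_A hm t
  refine Nat.card_congr (Equiv.ofBijective f ⟨?_, ?_⟩)
  · rintro (_ | x) (_ | y) he
    · rfl
    · exfalso
      have h1 : A l = MulAut.conj (y : H) • A m := congrArg Subtype.val he
      rw [hA] at h1
      obtain ⟨c, hc⟩ := G.exists_of_A_eq hl (G.smul _ hm) h1
      exact key y y.2 c hc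
    · exfalso
      have h1 : MulAut.conj (x : H) • A m = A l := congrArg Subtype.val he
      rw [hA] at h1
      obtain ⟨c, hc⟩ := G.exists_of_A_eq hl (G.smul _ hm) h1.symm
      exact key x x.2 c hc
    · have h1 : MulAut.conj (x : H) • A m = MulAut.conj (y : H) • A m := congrArg Subtype.val he
      rw [hA, hA] at h1
      obtain ⟨c, hc⟩ := G.exists_of_A_eq (G.smul _ hm) (G.smul _ hm) h1
      have h2 : ((x : H)⁻¹ * y) • m = c • m := by
        rw [mul_smul, hc, G.lin, inv_smul_smul]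
      have h3 := hR.eq_one m hm hlm _ (mul_mem (inv_mem x.2) y.2) c h2
      rw [Subtype.ext (inv_mul_eq_one.1 h3)]
  · rintro ⟨D, g, rfl⟩
    by_cases hn : NP F l (g • l)
    · obtain ⟨t, ht, c, hc, he⟩ := hR.trans m hm (g • l) (G.smul g hl) hlm hn
      refine ⟨some ⟨t, ht⟩, Subtype.ext ?_⟩
      show MulAut.conj t • A m = MulAut.conj g • A l
      rw [hA, he, G.A_sm hc (G.smul g hl), G.cj_A hl]
    · unfold NP at hn
      push Not at hn
      obtain ⟨d, hd⟩ := hn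
      have hd0 : d ≠ 0 := by
        rintro rfl
        rw [zero_smul] at hd
        exact G.ne_zero (G.smul g hl) hd
      refine ⟨none, Subtype.ext ?_⟩
      show A l = MulAut.conj g • A l
      rw [G.cj_A hl, hd, G.A_sm hd0 hl]

/-- `H → End_F(M)` -/
noncomputable def toEnd (G : Gen F L A I al) : H →* (M →ₗ[F] M) where
  toFun h :=
    { toFun := fun m => h • m
      map_add' := fun x y => smul_add h x y
      map_smul' := fun c x => G.lin h c x }
  map_one' := LinearMap.ext fun m => one_smul H m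
  map_mul' a b := LinearMap.ext fun m => mul_smul a b m

theorem toEnd_apply (G : Gen F L A I al) (h : H) (m : M) : G.toEnd h m = h • m := rfl

theorem sq_one' (G : Gen F L A I al) {l : M} (hl : l ∈ L) {c : F} (h : c * c = 1) : c = 1 :=
  G.sq_one hl (by rw [h, one_smul])

/-- elements of `⟨A^H⟩` have determinant 1 -/
theorem det_soc (G : Gen F L A I al) {l : M} (hl : l ∈ L) {h : H} (hh : h ∈ soc (A l)) :
    LinearMap.det (G.toEnd h) = 1 := by
  let δ : H →* F := (LinearMap.det : (M →ₗ[F] M) →* F).comp G.toEnd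
  have h1 : soc (A l) ≤ δ.ker := by
    refine normalClosure_le_normal fun a ha => ?_
    rw [SetLike.mem_coe, MonoidHom.mem_ker]
    refine G.sq_one' hl ?_
    rw [← map_mul, G.sq hl ha, map_one]
  exact MonoidHom.mem_ker.1 (h1 hh)

/-- **`Z(⟨A^H⟩) = 1`** -/
theorem center_soc [Finite H] (G : Gen F L A I al) (hf : ∀ h : H, (∀ m : M, h • m = m) → h = 1) {l : M} (hl : l ∈ L)
    (hE : NoE (A l)) (h4 : Module.finrank F M = 4) : center (soc (A l)) = ⊥ := by
  rw [Subgroup.eq_bot_iff_forall]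
  rintro ⟨c, hcs⟩ hc
  rw [mem_center_iff] at hc
  have hcc : ∀ s ∈ soc (A l), s * c = c * s := fun s hs => congrArg Subtype.val (hc ⟨s, hs⟩)
  -- `c` normalises `A l`
  have hcN : c ∈ normalizer (A l : Set H) := by
    rw [mem_normalizer_iff]
    intro x
    constructor
    · intro hx
      rw [← hcc x (le_soc hx), mul_inv_cancel_right]
      exact hx
    · intro hx
      have h1 : c * x * c⁻¹ ∈ soc (A l) := le_soc hx
      have h2 := hcc _ h1
      have h3 : c * x * c⁻¹ = x := by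
        have h4 : c * x * c⁻¹ * c = c * (c * x * c⁻¹) := h2
        rw [inv_mul_cancel_right] at h4
        exact (mul_left_cancel h4).symm
      rwa [h3] at hx
  obtain ⟨γ, hγ⟩ := G.exists_of_norm hl hcN
  -- `c` is the scalar `γ` on `L`
  have hL : ∀ m ∈ L, c • m = γ • m := by
    intro m hm
    obtain ⟨h, d, hd, he⟩ := G.trans hl hm
    obtain ⟨s, hs, hEq⟩ := hE.wa.exists_conj_of_le (B := MulAut.conj h • A l) ⟨h, rfl⟩ le_soc
      (cj_le_soc ⟨h, rfl⟩)
    rw [G.cj_A hl, G.cj_A hl] at hEq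
    obtain ⟨d', hd'⟩ := G.exists_of_A_eq (G.smul s hl) (G.smul h hl) hEq.symm
    have h1 : c • (s • l) = γ • (s • l) := by
      rw [← mul_smul, ← hcc s hs, mul_smul, hγ, G.lin]
    have h2 : c • (h • l) = γ • (h • l) := by
      rw [hd', G.lin, h1, smul_comm]
    rw [he, G.lin, smul_comm γ d] at h2
    exact (smul_right_injective M hd) h2
  have hM : G.toEnd c = γ • LinearMap.id := by
    refine LinearMap.ext_on G.gen fun m hm => ?_
    rw [G.toEnd_apply, LinearMap.smul_apply, LinearMap.id_apply]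
    exact hL m hm
  have h1 := G.det_soc hl hcs
  rw [hM, LinearMap.det_smul, h4, LinearMap.det_id, mul_one] at h1
  have h2 : γ = 1 := by
    apply G.sq_one' hl
    apply G.sq_one' hl
    calc γ * γ * (γ * γ) = γ ^ 4 := by ring
      _ = 1 := h1
  apply Subtype.ext
  refine hf c fun m => ?_
  rw [← G.toEnd_apply, hM, h2, one_smul]
  rfl

/-- **(E4)** -/
theorem isoSuzuki [Finite H] (G : Gen F L A I al) (hcrit : CritAll.{u}) (hbend : BenderAll.{u})
    (hf : ∀ h : H, (∀ m : M, h • m = m) → h = 1) (ho : Opp F L A) (h4 : Module.finrank F M = 4)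
    {Kt : M → Subgroup H} {l m : M} (hl : l ∈ L) (hm : m ∈ L) (hlm : NP F l m)
    (hA : 4 ≤ Nat.card (A l)) (hfix : ∀ t ∈ Kt l, t • l = l) (hR : Reg F L Kt l)
    (hKt : Nat.card (Kt l) = Nat.card (A l) ^ 2) :
    Cfsg.Lie.IsoSuzuki (soc (A l)) ∧ ∃ P : Sylow 2 (soc (A l)), Nat.card P = Nat.card (A l) ^ 2 ∧
      (∀ x ∈ P, x * x = 1 → (x : H) ∈ A l) ∧ ∀ x : soc (A l), (x : H) ∈ A l → x ∈ P := by
  have hE := G.noE ho hl hm hlm hA
  refine hE.isoSuzuki hcrit hbend (G.center_soc hf hl hE h4) ?_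
  rw [G.card_members hl hm hlm hfix hR, hKt]

end Gen

end Cfsg.Agent.Omega.NO3S.OneQ.TIq

end

end

-- merged: Cfsg.Agent.Mrg.Omega.NO3S.OneQ.TIq.OneEnd
section

/-!
# NO-3S, `OneSz`, the TI world, `D_x = I`: the end (bb OMEGA #19637 (E), #19856 (4))

* `GenK.e2` : `Ibar_l ∩ Ibar_m = 0` for different points
* `GenK.two_fix` : a 2-element which fixes `l` and `m ∉ Ebar_l` is trivial
* `GenK.card_Kt` : `|K~_l| = q ^ 2`
* `GenK.orbit` : `K~_l` is transitive on the points `≠ F l`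
* `GenK.fin` : the summary
-/

set_option autoImplicit false
set_option linter.unusedSimpArgs false
set_option linter.unusedSectionVars false

namespace Cfsg.Agent.Omega.NO3S.OneQ.TIq

open Module

namespace GenK

variable {F M H : Type*} [Field F] [AddCommGroup M] [Module F M] [Group H] [DistribMulAction H M] {L : Set M}
    {A : M → Subgroup H} {I : M → Submodule F M} {al : M → M → H} {Kt : M → Subgroup H}

section fin

variable [Finite F] [Finite M] [Finite H]

/-- a vector of `L` in `Ibar_l` is in `F l` -/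
theorem np_I (K : GenK F L A I al Kt) (hq : 3 ≤ Nat.card F) {l m : M} (hl : l ∈ L) (hm : m ∈ L)
    (hlm : NP F l m) : m ∉ I l := by
  intro hI
  obtain ⟨c, hc⟩ := K.no_plane hq hl hm hI
  exact hlm c hc

/-- different points are opposite -/
theorem opp' (K : GenK F L A I al Kt) (hq : 3 ≤ Nat.card F) {l m : M} (hl : l ∈ L) (hm : m ∈ L)
    (hlm : NP F l m) {b : H} (hb : b ∈ A l) (hbm : b • m = m) : b = 1 := by
  by_contra hb1
  exact K.np_I hq hl hm hlm (K.toGen.fix_mem hl (K.k_one hl) hb hb1 hbm)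

/-- (E2) -/
theorem e2 (K : GenK F L A I al Kt) (hq : 3 ≤ Nat.card F) {l m : M} (hl : l ∈ L) (hm : m ∈ L)
    (hlm : NP F l m) : I l ⊓ I m = ⊥ := by
  have G := K.toGen
  have two := G.two
  have tl := G.two_left
  have hml := G.np_symm hl hm hlm
  have hmI := K.np_I hq hl hm hlm
  have hlI := K.np_I hq hm hl hml
  rw [eq_bot_iff]
  intro u hu
  rw [Submodule.mem_bot]
  by_contra hu0
  have hE' : al m l = 1 := K.opp' hq hm hl hml (G.al_mem hm l) (G.alpha hm hl hml hu.2 hu.1 hu0)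
  have hmu : NP F m u := by
    rintro c rfl
    have hc : c ≠ 0 := by
      rintro rfl
      exact hu0 (zero_smul _ _)
    exact hmI (((I l).smul_mem_iff hc).1 hu.1)
  have hlu : NP F l u := by
    rintro c rfl
    have hc : c ≠ 0 := by
      rintro rfl
      exact hu0 (zero_smul _ _)
    exact hlI (((I m).smul_mem_iff hc).1 hu.2)
  obtain ⟨t, ht, htu⟩ := K.Kt_hom hm hu.2 hmu
  obtain ⟨x, y, hxy⟩ := Gen.span_two (G.fr_two hm (K.k_one hm)) (G.ne_zero hm) (G.self hm) hu.2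
    (Gen.notMem_span m u hmu) (K.Kt_E hm ht hE')
  obtain ⟨a, ha, hal⟩ := G.d3_move hm (G.pex hm hlI) hE' x
  have htl : t • l = l + (x • m + y • u) := by rw [← hxy, add_comm (t • l), tl]
  have hatl : (a * t) • l = l + y • u := by
    rw [mul_smul, htl, smul_add, smul_add, G.lin, G.lin, hal, G.A_fix hm ha, G.fix hm ha hu.2]
    calc l + x • m + (x • m + y • u) = l + y • u + (x • m + x • m) := by abel
      _ = _ := by rw [two, add_zero]
  have hatu : (a * t) • u = u + m := by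
    rw [mul_smul, htu, smul_add, G.A_fix hm ha, G.fix hm ha hu.2]
  by_cases hy : y = 0
  · rw [hy, zero_smul, add_zero] at hatl
    have h1 := G.I_conj' hl hu.1 hatl
    rw [hatu] at h1
    have h2 := add_mem hu.1 h1
    rw [tl] at h2
    exact hmI h2
  · have h1 := G.smul (a * t) hl
    rw [hatl] at h1
    obtain ⟨c, hc⟩ := K.no_plane hq hl h1 (add_mem (G.self hl) ((I l).smul_mem y hu.1))
    apply hlu (y⁻¹ * (c + 1))
    have h2 : y • u = (c + 1) • l := by
      rw [add_smul, one_smul, ← hc, add_comm l (y • u), add_assoc, two, add_zero]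
    rw [mul_smul, ← h2, smul_smul, inv_mul_cancel₀ hy, one_smul]

/-- `c ^ (2 ^ n) = 1` ⟹ `c = 1` -/
theorem pow_one' (K : GenK F L A I al Kt) {l : M} (hl : l ∈ L) {c : F} (n : ℕ) (h : c ^ 2 ^ n = 1) : c = 1 := by
  induction n with
  | zero => rwa [pow_zero, pow_one] at h
  | succ n ih =>
    apply ih
    apply K.toGen.sq_one hl
    rw [← sq, ← pow_mul, ← pow_succ, h, one_smul]

theorem smul_pow' (K : GenK F L A I al Kt) {m : M} {t : H} {c : F} (h : t • m = c • m) (n : ℕ) :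
    t ^ n • m = c ^ n • m := by
  induction n with
  | zero => rw [pow_zero, pow_zero, one_smul, one_smul]
  | succ n ih =>
    rw [pow_succ, mul_smul, h, K.lin, ih, smul_smul, pow_succ, mul_comm]

/-- a 2-element which fixes the point fixes the vector -/
theorem fix_vec (K : GenK F L A I al Kt) {m : M} (hm : m ∈ L) {t : H} {n : ℕ} (ht : t ^ 2 ^ n = 1) {c : F}
    (h : t • m = c • m) : t • m = m := by
  have h1 := K.smul_pow' h (2 ^ n)
  rw [ht, one_smul] at h1
  have h2 : (c ^ 2 ^ n - 1) • m = 0 := by rw [sub_smul, one_smul, ← h1, sub_self]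
  have h3 := sub_eq_zero.1 ((smul_eq_zero.1 h2).resolve_right (K.toGen.ne_zero hm))
  rw [h, K.pow_one' hm n h3, one_smul]

/-- a 2-element which fixes `l` centralises `A_l` -/
theorem two_A (K : GenK F L A I al Kt) {l : M} (hl : l ∈ L) {t : H} {n : ℕ} (ht : t ^ 2 ^ n = 1)
    (htl : t • l = l) {a : H} (ha : a ∈ A l) : t * a = a * t := by
  have G := K.toGen
  have two := G.two
  have tl := G.two_left
  have hk := K.k_one hl
  obtain ⟨x, rfl⟩ := G.al_surj hl ha
  by_cases hxE : al l x = 1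
  · rw [hxE, mul_one, one_mul]
  have htE : ∀ e, al l e = 1 → al l (t • e) = 1 := by
    intro e he
    rw [G.al_conj hl htl, he]
    group
  have h1 := G.E_max hl hk (N := G.E hl ⊔ Submodule.span F {x}) le_sup_left
    ((le_sup_right : _ ≤ G.E hl ⊔ Submodule.span F {x}) (Submodule.mem_span_singleton_self _)) hxE (t • x)
  obtain ⟨e, he, z, hz, h2⟩ := Submodule.mem_sup.1 h1
  obtain ⟨c, rfl⟩ := Submodule.mem_span_singleton.1 hz
  have hpow : ∀ j : ℕ, t ^ j • x - c ^ j • x ∈ G.E hl := by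
    intro j
    induction j with
    | zero => rw [pow_zero, pow_zero, one_smul, one_smul, sub_self]; exact zero_mem _
    | succ j ih =>
      have h3 : t ^ (j + 1) • x - c ^ (j + 1) • x = t • (t ^ j • x - c ^ j • x) + c ^ j • e := by
        rw [pow_succ', mul_smul, smul_sub, G.lin, ← h2, pow_succ, smul_add, mul_smul]
        abel
      rw [h3]
      exact add_mem (htE _ ih) (Submodule.smul_mem _ _ he)
  have h3 := hpow (2 ^ n)
  rw [ht, one_smul] at h3
  have h4 : c ^ 2 ^ n = 1 := by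
    by_contra hne
    apply hxE
    have h5 : (1 - c ^ 2 ^ n) • x ∈ G.E hl := by rw [sub_smul, one_smul]; exact h3
    exact ((G.E hl).smul_mem_iff (sub_ne_zero.2 (Ne.symm hne))).1 h5
  have h5 := K.pow_one' hl n h4
  rw [h5, one_smul] at h2
  have h6 := G.al_conj hl htl x
  have he' : al l e = 1 := he
  rw [← h2, G.al_add hl, he', one_mul] at h6
  calc t * al l x = t * al l x * t⁻¹ * t := by group
    _ = al l x * t := by rw [← h6]

/-- a 2-element which fixes `l` and `m ∉ Ebar_l` is trivial -/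
theorem two_fix (K : GenK F L A I al Kt) (hq : 3 ≤ Nat.card F) {l m : M} (hl : l ∈ L) (hm : m ∈ L)
    (hlm : al l m ≠ 1) {t : H} {n : ℕ} (ht : t ^ 2 ^ n = 1) (htl : t • l = l) (htm : t • m = m) : t = 1 := by
  have G := K.toGen
  have two := G.two
  have tl := G.two_left
  have hk := K.k_one hl
  have hNP := G.np_of_E hl hlm
  have hA : ∀ a ∈ A l, t * a = a * t := fun a ha => K.two_A hl ht htl ha
  obtain ⟨a, ha, ha1⟩ := G.ne hl
  have hw := G.nfix hl hk hlm ha ha1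
  have htw : t • (a • m + m) = a • m + m := by
    rw [smul_add, ← mul_smul, hA a ha, mul_smul, htm]
  have hI : ∀ u ∈ I l, t • u = u := by
    intro u hu
    obtain ⟨c, d, rfl⟩ := Gen.span_two (G.fr_two hl hk) (G.ne_zero hl) (G.self hl) (G.comm hl ha m) hw hu
    rw [smul_add, G.lin, G.lin, htl, htw]
  have hx : ∀ x : M, t • x + x ∈ I l := by
    intro x
    refine G.fixI hl fun b hb => ?_
    have h1 := hI _ (G.comm hl hb x)
    calc b • (t • x + x) = t • (b • x) + b • x := by rw [smul_add, ← mul_smul, ← hA b hb, mul_smul]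
      _ = t • ((b • x + x) + x) + b • x := by rw [add_assoc, two, add_zero]
      _ = t • x + x + (b • x + b • x) := by rw [smul_add, h1]; abel
      _ = t • x + x := by rw [two, add_zero]
  have hI' : ∀ u ∈ I m, t • u = u := by
    intro u hu
    have h1 : t • u + u ∈ I l ⊓ I m := ⟨hx u, add_mem (G.I_conj' hm hu htm) hu⟩
    rw [K.e2 hq hl hm hNP] at h1
    exact G.eq_of_add h1
  have hsup : I l ⊔ I m = ⊤ := by
    apply Submodule.eq_top_of_finrank_eq
    have h1 := Submodule.finrank_sup_add_finrank_inf_eq (I l) (I m)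
    rw [K.e2 hq hl hm hNP, finrank_bot, G.fr_two hl hk, G.fr_two hm (K.k_one hm)] at h1
    rw [G.fr_four hl hk]
    omega
  apply K.faith
  intro x
  have hx' : x ∈ I l ⊔ I m := by rw [hsup]; trivial
  obtain ⟨y, hy, y', hy', rfl⟩ := Submodule.mem_sup.1 hx'
  rw [smul_add, hI y hy, hI' y' hy']

/-- a family of vectors in different points has at most `q ^ 2 + 1` elements -/
theorem spread (K : GenK F L A I al Kt) (hq : 3 ≤ Nat.card F) {J : Type*} [Finite J] (s : J → M)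
    (hs : ∀ j, s j ∈ L) (hne : ∀ i j, i ≠ j → NP F (s i) (s j)) : Nat.card J ≤ Nat.card F ^ 2 + 1 := by
  classical
  have G := K.toGen
  rcases isEmpty_or_nonempty J with hJ | ⟨⟨j₀⟩⟩
  · simp
  have hcI : ∀ j, Nat.card (I (s j)) = Nat.card F ^ 2 := fun j => by
    rw [Module.natCard_eq_pow_finrank (K := F) (V := I (s j)), G.fr_two (hs j) (K.k_one (hs j))]
  have hcM : Nat.card M = Nat.card F ^ 4 := by
    rw [Module.natCard_eq_pow_finrank (K := F) (V := M), G.fr_four (hs j₀) (K.k_one (hs j₀))]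
  have hsub : ∀ j, Nat.card {u : I (s j) // u ≠ 0} = Nat.card F ^ 2 - 1 := by
    intro j
    have : Fintype (I (s j)) := Fintype.ofFinite _
    rw [← hcI j, Nat.card_eq_fintype_card, Nat.card_eq_fintype_card, Fintype.card_subtype_compl,
      Fintype.card_subtype_eq]
  have hsubM : Nat.card {u : M // u ≠ 0} = Nat.card F ^ 4 - 1 := by
    have : Fintype M := Fintype.ofFinite _
    rw [← hcM, Nat.card_eq_fintype_card, Nat.card_eq_fintype_card, Fintype.card_subtype_compl,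
      Fintype.card_subtype_eq]
  let f : (Σ j : J, {u : I (s j) // u ≠ 0}) → {u : M // u ≠ 0} := fun p =>
    ⟨(p.2.1 : M), fun h => p.2.2 (Subtype.ext h)⟩
  have hf : Function.Injective f := by
    rintro ⟨i, ⟨u, hu⟩, hu0⟩ ⟨j, ⟨v, hv⟩, hv0⟩ h
    have h1 : u = v := congrArg Subtype.val h
    subst h1
    have hij : i = j := by
      by_contra hij
      have h2 : u ∈ I (s i) ⊓ I (s j) := ⟨hu, hv⟩
      rw [K.e2 hq (hs i) (hs j) (hne i j hij)] at h2
      exact hu0 (Subtype.ext h2)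
    subst hij
    rfl
  have h1 := Nat.card_le_card_of_injective f hf
  have : Fintype J := Fintype.ofFinite _
  rw [hsubM, Nat.card_sigma] at h1
  simp only [hsub, Finset.sum_const, Finset.card_univ, smul_eq_mul] at h1
  rw [Nat.card_eq_fintype_card]
  obtain ⟨q, hq'⟩ : ∃ q, q = Nat.card F ^ 2 := ⟨_, rfl⟩
  have h4 : Nat.card F ^ 4 = q * q := by rw [hq']; ring
  rw [← hq', h4] at h1
  rw [← hq']
  have hq9 : 9 ≤ q := by rw [hq']; nlinarith
  have h5 : q * q - 1 = (q + 1) * (q - 1) := by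
    obtain ⟨k, rfl⟩ : ∃ k, q = k + 1 := ⟨q - 1, by omega⟩
    have : (k + 1) * (k + 1) = (k + 1 + 1) * k + 1 := by ring
    rw [Nat.add_sub_cancel, this, Nat.add_sub_cancel]
  rw [h5] at h1
  exact Nat.le_of_mul_le_mul_right h1 (by omega)

theorem t_pow (K : GenK F L A I al Kt) {l : M} (hl : l ∈ L) {t : H} (ht : t ∈ Kt l) : ∃ n : ℕ, t ^ 2 ^ n = 1 := by
  obtain ⟨n, hn⟩ := K.Kt_two hl ⟨t, ht⟩
  exact ⟨n, congrArg Subtype.val hn⟩

/-- `K~_l` is semiregular on the points outside `Ebar_l` -/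
theorem semireg (K : GenK F L A I al Kt) (hq : 3 ≤ Nat.card F) {l m : M} (hl : l ∈ L) (hm : m ∈ L)
    (hlm : al l m ≠ 1) {t : H} (ht : t ∈ Kt l) {c : F} (h : t • m = c • m) : t = 1 := by
  obtain ⟨n, hn⟩ := K.t_pow hl ht
  exact K.two_fix hq hl hm hlm hn (K.Kt_fix hl ht) (K.fix_vec hm hn h)

/-- `q ^ 2 ≤ |K~_l|` -/
theorem card_Kt_ge (K : GenK F L A I al Kt) {l : M} (hl : l ∈ L) : Nat.card F ^ 2 ≤ Nat.card (Kt l) := by
  classical
  have G := K.toGen
  have two := G.two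
  obtain ⟨m, hm, hlm⟩ := G.exists_opp hl
  obtain ⟨a, ha, ha1⟩ := G.ne hl
  have hw := G.nfix hl (K.k_one hl) hlm ha ha1
  obtain ⟨u, hu⟩ : ∃ u, u = a • m + m := ⟨_, rfl⟩
  have huI : u ∈ I l := hu ▸ G.comm hl ha m
  rw [← hu] at hw
  have hT : ∀ c : F, ∃ t ∈ Kt l, t • u = u + c • l := by
    intro c
    by_cases hc : c = 0
    · exact ⟨1, one_mem _, by rw [hc, zero_smul, add_zero, one_smul]⟩
    · have h1 : NP F l (c⁻¹ • u) := by
        intro d hd
        apply hw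
        have : u = c • c⁻¹ • u := by rw [smul_smul, mul_inv_cancel₀ hc, one_smul]
        rw [this, hd]
        exact Submodule.smul_mem _ _ (Submodule.smul_mem _ _ (Submodule.mem_span_singleton_self l))
      obtain ⟨t, ht, h2⟩ := K.Kt_hom hl ((I l).smul_mem c⁻¹ huI) h1
      refine ⟨t, ht, ?_⟩
      have h3 : c • t • (c⁻¹ • u) = c • (c⁻¹ • u + l) := by rw [h2]
      rwa [← G.lin, smul_smul, mul_inv_cancel₀ hc, one_smul, smul_add, smul_smul, mul_inv_cancel₀ hc, one_smul] at h3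
  choose T hT hTu using hT
  have h1 : Nat.card (F × A l) ≤ Nat.card (Kt l) := by
    refine Nat.card_le_card_of_injective
      (fun p : F × A l => (⟨T p.1 * p.2, mul_mem (hT p.1) (K.A_le_Kt hl p.2.2)⟩ : Kt l)) ?_
    rintro ⟨c, b⟩ ⟨c', b'⟩ h
    have h2 : T c * b = T c' * b' := congrArg Subtype.val h
    have h3 : (T c * b) • u = (T c' * b') • u := by rw [h2]
    rw [mul_smul, mul_smul, G.fix hl b.2 huI, G.fix hl b'.2 huI, hTu, hTu] at h3
    have h4 := add_left_cancel h3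
    have h5 : (c - c') • l = 0 := by rw [sub_smul, h4, sub_self]
    have h6 := sub_eq_zero.1 ((smul_eq_zero.1 h5).resolve_right (G.ne_zero hl))
    subst h6
    rw [Prod.mk.injEq]
    exact ⟨rfl, Subtype.ext (mul_left_cancel h2)⟩
  rwa [Nat.card_prod, G.card_A_one hl (K.k_one hl), ← sq] at h1

/-- `|K~_l| = q ^ 2` -/
theorem card_Kt (K : GenK F L A I al Kt) (hq : 3 ≤ Nat.card F) {l : M} (hl : l ∈ L) :
    Nat.card (Kt l) = Nat.card F ^ 2 := by
  classical
  have G := K.toGen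
  refine le_antisymm ?_ (K.card_Kt_ge hl)
  obtain ⟨m, hm, hlm⟩ := G.exists_opp hl
  have hNP := G.np_of_E hl hlm
  let s : Option (Kt l) → M := fun o => o.elim l fun t => (t : H) • m
  have h1 := K.spread hq (J := Option (Kt l)) s
    (by rintro (_ | t); exacts [hl, G.smul _ hm])
    (by
      have h2 : ∀ t : Kt l, NP F l ((t : H) • m) := by
        intro t c hc
        apply hNP c
        have : m = (t : H)⁻¹ • (t : H) • m := by rw [inv_smul_smul]
        rw [this, hc, G.lin]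
        congr 1
        rw [inv_smul_eq_iff]
        exact (K.Kt_fix hl t.2).symm
      rintro (_ | t) (_ | t') hne
      · exact absurd rfl hne
      · exact h2 t'
      · exact G.np_symm hl (G.smul _ hm) (h2 t)
      · intro c hc
        change (t' : H) • m = c • (t : H) • m at hc
        apply hne
        congr 1
        have h3 : ((t : H)⁻¹ * t') • m = c • m := by rw [mul_smul, hc, G.lin, inv_smul_smul]
        have h4 := K.semireg hq hl hm hlm (mul_mem (inv_mem t.2) t'.2) h3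
        exact Subtype.ext (inv_mul_eq_one.1 h4))
  rw [Finite.card_option] at h1
  omega

/-- `K~_l` is transitive on the points `≠ F l` -/
theorem orbit (K : GenK F L A I al Kt) (hq : 3 ≤ Nat.card F) {l m m' : M} (hl : l ∈ L) (hm : m ∈ L)
    (hlm : al l m ≠ 1) (hm' : m' ∈ L) (hlm' : NP F l m') : ∃ t ∈ Kt l, ∃ c : F, m' = c • t • m := by
  classical
  have G := K.toGen
  by_contra hcon
  push Not at hcon
  have hNP := G.np_of_E hl hlm
  let s : Option (Option (Kt l)) → M := fun o => o.elim m' fun o => o.elim l fun t => (t : H) • m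
  have h1 := K.spread hq (J := Option (Option (Kt l))) s
    (by rintro (_ | _ | t); exacts [hm', hl, G.smul _ hm])
    (by
      have h2 : ∀ t : Kt l, NP F l ((t : H) • m) := by
        intro t c hc
        apply hNP c
        have : m = (t : H)⁻¹ • (t : H) • m := by rw [inv_smul_smul]
        rw [this, hc, G.lin]
        congr 1
        rw [inv_smul_eq_iff]
        exact (K.Kt_fix hl t.2).symm
      have h5 : ∀ t : Kt l, NP F ((t : H) • m) m' := fun t c => hcon t t.2 c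
      rintro (_ | _ | t) (_ | _ | t') hne
      · exact absurd rfl hne
      · exact G.np_symm hl hm' hlm'
      · exact G.np_symm (G.smul _ hm) hm' (h5 t')
      · exact hlm'
      · exact absurd rfl hne
      · exact h2 t'
      · exact h5 t
      · exact G.np_symm hl (G.smul _ hm) (h2 t)
      · intro c hc
        change (t' : H) • m = c • (t : H) • m at hc
        apply hne
        congr 2
        have h3 : ((t : H)⁻¹ * t') • m = c • m := by rw [mul_smul, hc, G.lin, inv_smul_smul]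
        have h4 := K.semireg hq hl hm hlm (mul_mem (inv_mem t.2) t'.2) h3
        exact Subtype.ext (inv_mul_eq_one.1 h4))
  rw [Finite.card_option, Finite.card_option, K.card_Kt hq hl] at h1
  omega

/-- no other point is in `Ebar_l` -/
theorem np_E (K : GenK F L A I al Kt) (hq : 3 ≤ Nat.card F) {l m : M} (hl : l ∈ L) (hm : m ∈ L)
    (hlm : NP F l m) : al l m ≠ 1 := by
  have G := K.toGen
  obtain ⟨m₀, hm₀, h0⟩ := G.exists_opp hl
  obtain ⟨t, ht, c, rfl⟩ := K.orbit hq hl hm₀ h0 hm hlm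
  intro h1
  have hc : c ≠ 0 := by
    rintro rfl
    exact G.ne_zero hm (zero_smul _ _)
  have h2 := G.al_sm_one hl c⁻¹ h1
  rw [smul_smul, inv_mul_cancel₀ hc, one_smul, G.al_conj hl (K.Kt_fix hl ht)] at h2
  apply h0
  calc al l m₀ = t⁻¹ * (t * al l m₀ * t⁻¹) * t := by group
    _ = 1 := by rw [h2]; group

/-- THEOREM Z, the pure part -/
theorem fin (K : GenK F L A I al Kt) (hq : 3 ≤ Nat.card F) {l : M} (hl : l ∈ L) :
    finrank F M = 4 ∧ finrank F (I l) = 2 ∧ Nat.card (A l) = Nat.card F ∧ Nat.card (Kt l) = Nat.card F ^ 2 ∧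
      (∀ m ∈ L, m ∈ I l → ∃ c : F, m = c • l) ∧
      (∀ m ∈ L, NP F l m → I l ⊓ I m = ⊥) ∧
      (∀ m ∈ L, NP F l m → ∀ (t : H) (n : ℕ) (c d : F), t ^ 2 ^ n = 1 → t • l = c • l → t • m = d • m → t = 1) ∧
      (∀ m ∈ L, NP F l m → ∀ m' ∈ L, NP F l m' → ∃ t ∈ Kt l, ∃ c : F, m' = c • t • m) :=
  ⟨K.toGen.fr_four hl (K.k_one hl), K.toGen.fr_two hl (K.k_one hl), K.toGen.card_A_one hl (K.k_one hl),
    K.card_Kt hq hl, fun _ hm h => K.no_plane hq hl hm h, fun _ hm h => K.e2 hq hl hm h,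
    fun _ hm h _ _ _ _ ht h1 h2 => K.two_fix hq hl hm (K.np_E hq hl hm h) ht (K.fix_vec hl ht h1) (K.fix_vec hm ht h2),
    fun _ hm h _ hm' h' => K.orbit hq hl hm (K.np_E hq hl hm h) hm' h'⟩

end fin

end GenK

end Cfsg.Agent.Omega.NO3S.OneQ.TIq

end

-- merged: Cfsg.Agent.Mrg.Omega.NO3S.OneQ.TIq.CoEnd
section

section


/-!
# NO-3S, `OneSz`: the end over the frame `Co` (bb OMEGA #19637 (E4))

`r : C_G(Z) → H` onto, `H` acts faithfully on `MF = W_Z / rd` through `r`; `Ar r` = the image of `W_{Yp}`.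

* `Co.mem_soc` : `r(lx V Z Z) = ⟨(Ar r)^H⟩`;
* `Co.exists_szMod` : if `rd = Z`, `dim_F MF = 4`, `⟨(Ar r)^H⟩` is a Suzuki group with a Sylow 2-subgroup of order `|F|²` whose
  involutions are in `Ar r`, then `W_Z / Z` is natural for `Sz(|F|)` (`SzMod` over `F` for `N_G(Z)`).
-/

set_option autoImplicit false
set_option linter.unusedSectionVars false

namespace Cfsg.Agent.Omega.NO3S.OneQ

open Subgroup Cfsg.Agent.Omega.NO3S.PT Cfsg.Agent.Omega.NoFF.Basic
open Cfsg.Agent.WeakTI.QuotInv (soc le_soc)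
open scoped Pointwise

universe u

namespace Co

variable {G : Type u} [Group G] [Finite G] {F : Type} [Field F] [CharP F 2] {S : Sylow 2 G} {B P V Z : Subgroup G}
  (h : Co F S B P V Z)
variable {H : Type u} [Group H] [DistribMulAction H h.MF] (r : centralizer (Z : Set G) →* H)

/-- the image of `W_{Yp}` -/
def Ar : Subgroup H := ((ws V h.Yp).subgroupOf (centralizer (Z : Set G))).map r

theorem mem_Ar {x : H} : x ∈ h.Ar r ↔ ∃ g : centralizer (Z : Set G), (g : G) ∈ ws V h.Yp ∧ r g = x := Iff.rfl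

variable (hr : ∀ (g : centralizer (Z : Set G)) (m : h.MF), r g • m = h.rep g m)
  (hf : ∀ x : H, (∀ m : h.MF, x • m = m) → x = 1)
include hr hf

/-- the kernel of `r` -/
theorem r_eq_one {g : centralizer (Z : Set G)} : r g = 1 ↔ ∀ w ∈ ws V Z, (g : G) * w * (g : G)⁻¹ * w⁻¹ ∈ rd V Z := by
  constructor
  · intro h1 w hw
    have h2 := hr g (h.fm ⟨w, hw⟩)
    rw [h1, one_smul, h.rep_fm] at h2
    have h3 : h.fm (⟨g * w * (g : G)⁻¹, h.W_conj (centralizer_le_normalizer _ g.2) hw⟩ * (⟨w, hw⟩ : ws V Z)⁻¹) = 0 := by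
      have h4 := h.fm_mul (⟨g * w * (g : G)⁻¹, h.W_conj (centralizer_le_normalizer _ g.2) hw⟩ * (⟨w, hw⟩ : ws V Z)⁻¹)
        ⟨w, hw⟩
      rw [inv_mul_cancel_right, ← h2] at h4
      exact (right_eq_add.1 h4)
    exact (h.fm_eq_zero _).1 h3
  · intro h1
    refine hf _ fun m => ?_
    obtain ⟨w, rfl⟩ := h.fm_surj m
    rw [hr, h.rep_fm]
    have h2 := (h.fm_eq_zero (⟨g * w * (g : G)⁻¹ * (w : G)⁻¹, mul_mem
      (h.W_conj (centralizer_le_normalizer _ g.2) w.2) (inv_mem w.2)⟩)).2 (h1 w w.2)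
    have h3 := h.fm_mul (⟨g * w * (g : G)⁻¹ * (w : G)⁻¹, mul_mem
      (h.W_conj (centralizer_le_normalizer _ g.2) w.2) (inv_mem w.2)⟩) w
    rw [h2, zero_add] at h3
    rw [← h3]
    exact congrArg h.fm (Subtype.ext (by simp))

/-- `K_Z` is in the kernel -/
theorem r_kx {g : centralizer (Z : Set G)} (hg : (g : G) ∈ kx V Z) : r g = 1 :=
  (h.r_eq_one r hr hf).2 fun _ hw => h.Z_le_rd ((mem_kx.1 hg).2 _ hw)

/-- `r(L_Z) ≤ ⟨(Ar r)^H⟩` -/
theorem lx_soc {g : centralizer (Z : Set G)} (hg : (g : G) ∈ lx V Z Z) : r g ∈ soc (h.Ar r) := by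
  have h1 : lx V Z Z ≤ ((soc (h.Ar r)).comap r).map (centralizer (Z : Set G)).subtype := by
    refine (closure_le _).2 ?_
    rintro a ⟨c, hc, Y, hY, hne, ha⟩
    have hcZ : PT.cj c Z = Z := cj_eq_iff.2 hc
    obtain ⟨c', hc', hcc'⟩ := h.line_eq (L := PT.cj c V) ⟨c, rfl⟩ (by
      have := cj_le_cj (g := c) |>.2 h.one.pl.ZV
      rwa [hcZ] at this)
    have hcZ' : PT.cj c' Z = Z := cj_eq_iff.2 (centralizer_le_normalizer _ hc')
    have hd : PT.cj (c'⁻¹ * c) V = V := by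
      rw [← cj_cj, hcc', cj_cj, inv_mul_cancel, cj_one]
    have hdZ : PT.cj (c'⁻¹ * c) Z = Z := by
      rw [← cj_cj, hcZ]
      have := congrArg (PT.cj c'⁻¹) hcZ'
      rw [cj_cj, inv_mul_cancel, cj_one] at this
      exact this.symm
    have hY1 : Pnt V Z (PT.cj (c'⁻¹ * c) Y) := hY.conj (cj_eq_iff.1 hd)
    have hY1Z : PT.cj (c'⁻¹ * c) Y ≠ Z := by
      intro e
      apply hne
      rw [← hdZ] at e
      exact cj_inj.1 e
    obtain ⟨k, hk, hkY⟩ := h.one.move h.one.self h.pY hY1 h.Yp_ne hY1Z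
    -- `a = c' k w k⁻¹ c'⁻¹`
    have h2 : (c' * k)⁻¹ * a * (c' * k) ∈ ws V h.Yp := by
      have h3 : a ∈ PT.cj (c' * k) (ws V h.Yp) := by
        rw [← ws_cj, ← cj_cj, hkY, cj_cj, mul_inv_cancel_left, ws_cj, PT.mem_cj]
        exact ha
      exact PT.mem_cj.1 h3
    have hkC : k ∈ centralizer (Z : Set G) := kx_le_cent hk
    have h4 : (c' * k)⁻¹ * a * (c' * k) ∈ centralizer (Z : Set G) := 
      centralizer_le h.one.pl.ZV (h.one.W_le_cent h.pY h2)
    have h5 : a = c' * k * ((c' * k)⁻¹ * a * (c' * k)) * (c' * k)⁻¹ := by group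
    have haC : a ∈ centralizer (Z : Set G) := by
      rw [h5]
      exact mul_mem (mul_mem (mul_mem hc' hkC) h4) (inv_mem (mul_mem hc' hkC))
    refine ⟨⟨a, haC⟩, ?_, rfl⟩
    rw [SetLike.mem_coe, mem_comap]
    have h6 : (⟨a, haC⟩ : centralizer (Z : Set G)) =
        ⟨c', hc'⟩ * ⟨k, hkC⟩ * ⟨_, h4⟩ * (⟨c', hc'⟩ * ⟨k, hkC⟩)⁻¹ := Subtype.ext h5
    rw [h6, map_mul, map_mul, map_inv]
    refine normalClosure_normal.conj_mem _ (le_soc ?_) _
    exact ⟨⟨_, h4⟩, h2, rfl⟩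
  obtain ⟨g', hg', e⟩ := h1 hg
  have : g' = g := Subtype.ext e
  rw [← this]
  exact hg'

omit hr hf in
/-- `⟨(Ar r)^H⟩ ≤ r(L_Z)` -/
theorem exists_lx (hs : Function.Surjective r) {x : H} (hx : x ∈ soc (h.Ar r)) :
    ∃ g : centralizer (Z : Set G), (g : G) ∈ lx V Z Z ∧ r g = x := by
  have hn : (((lx V Z Z).subgroupOf (centralizer (Z : Set G))).map r).Normal := by
    refine ⟨?_⟩
    rintro _ ⟨g, hg, rfl⟩ y
    obtain ⟨c, rfl⟩ := hs y
    refine ⟨c * g * c⁻¹, ?_, by rw [map_mul, map_mul, map_inv]⟩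
    exact (mem_normalizer_iff.1 (norm_lx V Z Z (centralizer_le_normalizer _ c.2)) _).1 hg
  have h1 : soc (h.Ar r) ≤ ((lx V Z Z).subgroupOf (centralizer (Z : Set G))).map r := by
    refine normalClosure_le_normal ?_
    rintro _ ⟨g, hg, rfl⟩
    exact ⟨g, W_le_lx h.pY h.Yp_ne hg, rfl⟩
  exact h1 hx

/-- **The end of `OneSz` over `Co`** -/
theorem exists_szMod [Finite F] [Finite H] (hs : Function.Surjective r) (hrd : rd V Z = Z)
    (h4 : Module.finrank F h.MF = 4) (hcomm : ∀ a ∈ h.Ar r, ∀ b ∈ h.Ar r, ∀ m : h.MF, a • (b • m + m) = b • m + m)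
    (hne : h.Ar r ≠ ⊥) (hJ : Cfsg.Lie.IsoSuzuki (soc (h.Ar r))) (Q : Sylow 2 (soc (h.Ar r)))
    (hQ : Nat.card Q = Nat.card F ^ 2) (hQA : ∀ x ∈ Q, x * x = 1 → (x : H) ∈ h.Ar r) :
    ∃ (θ : F →+* F) (e m : ℕ) (T : Cfsg.Agent.LieRecognition.SzMatrix.Good F θ e), 1 ≤ m ∧
      Nat.card F = 2 ^ (2 * m + 1) ∧
      Nonempty (Cfsg.Agent.Omega.TwoFFour.SzMod T (normalizer (Z : Set G)) (ws V Z) Z) := by
  have hLC : lx V Z Z ≤ centralizer (Z : Set G) := h.one.lx_le_C h.one.self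
  have hconj : ∀ {U : Subgroup G}, normalizer (Z : Set G) ≤ normalizer (U : Set G) → ∀ g ∈ normalizer (Z : Set G),
      ∀ x ∈ U, g * x * g⁻¹ ∈ U := fun hU g hg x hx => (mem_normalizer_iff.1 (hU hg) x).1 hx
  let ρ : lx V Z Z →* soc (h.Ar r) :=
    { toFun := fun l => ⟨r ⟨l, hLC l.2⟩, h.lx_soc r hr hf l.2⟩
      map_one' := Subtype.ext (map_one r)
      map_mul' := fun a b => Subtype.ext (map_mul r ⟨a, hLC a.2⟩ ⟨b, hLC b.2⟩) }
  have hρ : Function.Surjective ρ := by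
    rintro ⟨x, hx⟩
    obtain ⟨g, hg, rfl⟩ := h.exists_lx r hs hx
    exact ⟨⟨g, hg⟩, Subtype.ext rfl⟩
  have hZW : Z ≤ ws V Z := h.one.pl.Z_le_ws
  have hsm : ∀ (l : lx V Z Z) (w : ws V Z), r ⟨l, hLC l.2⟩ • h.fm w =
      h.fm ⟨l * w * (l : G)⁻¹, h.W_conj (centralizer_le_normalizer _ (hLC l.2)) w.2⟩ := by
    intro l w
    rw [hr, h.rep_fm]
  have hfmZ : ∀ w : ws V Z, h.fm w = 0 ↔ (w : G) ∈ Z := by
    intro w
    rw [h.fm_eq_zero, hrd]
  refine TIq.exists_szMod_of hJ Q F hQ ρ hρ (hLC.trans (centralizer_le_normalizer _)) (hconj (norm_lx V Z Z))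
    (hconj (normalizer_le_ws V Z)) (hconj le_rfl) hZW ?_ ?_ ?_ ?_ ?_ ?_
  · intro x hx z hz
    rw [h.Z_comm_W hz hx, mul_inv_cancel_right]
    exact hz
  · intro x hx
    rw [h.one.sq_W h.one.self hx]
    exact one_mem _
  · intro l hl x hx
    have h1 : r ⟨l, hLC l.2⟩ = 1 := congrArg Subtype.val hl
    have := (h.r_eq_one r hr hf).1 h1 x hx
    rwa [hrd] at this
  · intro l l' hl hll hl' hll' x hx
    have ha : r ⟨l, hLC l.2⟩ ∈ h.Ar r := hQA _ hl hll
    have hb : r ⟨l', hLC l'.2⟩ ∈ h.Ar r := hQA _ hl' hll'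
    have hW : ∀ {g : G} {y : G}, g ∈ lx V Z Z → y ∈ ws V Z → g * y * g⁻¹ ∈ ws V Z := fun hg hy =>
      h.W_conj (centralizer_le_normalizer _ (hLC hg)) hy
    have hy : (l' : G) * x * (l' : G)⁻¹ * x⁻¹ ∈ ws V Z := mul_mem (hW l'.2 hx) (inv_mem hx)
    have h1 := hcomm _ ha _ hb (h.fm ⟨x, hx⟩)
    have h2 : r ⟨l', hLC l'.2⟩ • h.fm ⟨x, hx⟩ + h.fm ⟨x, hx⟩ = h.fm ⟨_, hy⟩ := by
      rw [hsm l' ⟨x, hx⟩]
      have h3 : h.fm ⟨x, hx⟩ = h.fm ⟨x⁻¹, inv_mem hx⟩ := by
        congr 1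
        exact Subtype.ext (h.one.inv_eq_W h.one.self hx).symm
      rw [h3]
      exact (h.fm_mul ⟨_, hW l'.2 hx⟩ ⟨x⁻¹, inv_mem hx⟩).symm
    rw [h2, hsm l ⟨_, hy⟩] at h1
    have h3 : h.fm ⟨(l : G) * ((l' : G) * x * (l' : G)⁻¹ * x⁻¹) * (l : G)⁻¹ * ((l' : G) * x * (l' : G)⁻¹ * x⁻¹)⁻¹,
        mul_mem (hW l.2 hy) (inv_mem hy)⟩ = 0 := by
      have h4 := h.fm_mul ⟨(l : G) * ((l' : G) * x * (l' : G)⁻¹ * x⁻¹) * (l : G)⁻¹ *
        ((l' : G) * x * (l' : G)⁻¹ * x⁻¹)⁻¹, mul_mem (hW l.2 hy) (inv_mem hy)⟩ ⟨_, hy⟩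
      have h5 : (⟨(l : G) * ((l' : G) * x * (l' : G)⁻¹ * x⁻¹) * (l : G)⁻¹ *
        ((l' : G) * x * (l' : G)⁻¹ * x⁻¹)⁻¹, mul_mem (hW l.2 hy) (inv_mem hy)⟩ : ws V Z) * ⟨_, hy⟩ =
          ⟨(l : G) * ((l' : G) * x * (l' : G)⁻¹ * x⁻¹) * (l : G)⁻¹, hW l.2 hy⟩ :=
        Subtype.ext (inv_mul_cancel_right _ _)
      rw [h5, h1] at h4
      exact right_eq_add.1 h4
    exact (hfmZ _).1 h3
  · intro ht
    apply hne
    rw [Subgroup.eq_bot_iff_forall]
    rintro _ ⟨g, hg, rfl⟩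
    refine (h.r_eq_one r hr hf).2 fun w hw => ?_
    rw [hrd]
    exact ht _ (W_le_lx h.pY h.Yp_ne hg) w hw
  · -- the order of `W / Z`
    have : Finite h.MF := Finite.of_surjective h.fm h.fm_surj
    have h1 : Nat.card h.MF = Nat.card F ^ 4 := by
      rw [← h4]
      exact Module.natCard_eq_pow_finrank
    have h2 : Z.relIndex (ws V Z) = Nat.card h.MF := by
      have hN : (Z.subgroupOf (ws V Z)).Normal := by
        refine ⟨fun n hn g => ?_⟩
        rw [mem_subgroupOf] at hn ⊢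
        have : ((g * n * g⁻¹ : ws V Z) : G) = n := by
          show (g : G) * n * (g : G)⁻¹ = n
          rw [h.Z_comm_W hn g.2, mul_inv_cancel_right]
        rw [this]
        exact hn
      rw [Subgroup.relIndex, Subgroup.index]
      refine Nat.card_congr (Equiv.ofBijective (fun q : ws V Z ⧸ Z.subgroupOf (ws V Z) =>
        Quotient.liftOn' q h.fm fun a b hab => ?_) ⟨?_, ?_⟩)
      · have h3 : a⁻¹ * b ∈ Z.subgroupOf (ws V Z) := QuotientGroup.leftRel_apply.1 hab
        have h4 := h.fm_mul a (a⁻¹ * b)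
        rw [mul_inv_cancel_left, (hfmZ _).2 (mem_subgroupOf.1 h3), add_zero] at h4
        exact h4.symm
      · intro p q
        refine Quotient.inductionOn₂' p q fun a b hab => ?_
        have h3 : h.fm a = h.fm b := hab
        refine Quotient.sound' (QuotientGroup.leftRel_apply.2 ?_)
        rw [mem_subgroupOf]
        refine (hfmZ _).1 ?_
        have h4 := h.fm_mul a (a⁻¹ * b)
        rw [mul_inv_cancel_left, ← h3] at h4
        exact left_eq_add.1 h4
      · intro m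
        obtain ⟨w, hw⟩ := h.fm_surj m
        exact ⟨QuotientGroup.mk w, hw⟩
    rw [h2, h1]

end Co

end Cfsg.Agent.Omega.NO3S.OneQ

end

section


/-!
# NO-3S, `OneSz`: `TIq.Gen` with `dim_F = 4` over the frame `Co` gives `SzMod` (bb OMEGA #19637 (E4))

* `Co.szMod_of_gen` : from an instance of `TIq.Gen` on `MF`, all pairs opposite, `Kt l` regular of order `|F|²`,
  `|A l| = |F|`, `dim_F MF = 4`.
-/

set_option autoImplicit false
set_option linter.unusedSectionVars false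

namespace Cfsg.Agent.Omega.NO3S.OneQ

open Subgroup Cfsg.Agent.Omega.NO3S.PT Cfsg.Agent.Omega.NoFF.Basic
open Cfsg.Agent.WeakTI.FlatBorel (CritAll BenderAll)
open scoped Pointwise

universe u

namespace Co

variable {G : Type u} [Group G] [Finite G] {F : Type} [Field F] [CharP F 2] {S : Sylow 2 G} {B P V Z : Subgroup G}
  (h : Co F S B P V Z)
variable {H : Type u} [Group H] [DistribMulAction H h.MF] (r : centralizer (Z : Set G) →* H)

theorem szMod_of_gen [Finite F] [Finite H] (hcrit : CritAll.{u}) (hbend : BenderAll.{u})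
    (hr : ∀ (g : centralizer (Z : Set G)) (m : h.MF), r g • m = h.rep g m)
    (hf : ∀ x : H, (∀ m : h.MF, x • m = m) → x = 1) (hs : Function.Surjective r) (hrd : rd V Z = Z)
    {L : Set h.MF} {A : h.MF → Subgroup H} {I : h.MF → Submodule F h.MF} {al : h.MF → h.MF → H}
    (g : TIq.Gen F L A I al) {l m : h.MF} (hl : l ∈ L) (hA : A l = h.Ar r) (ho : TIq.Opp F L A)
    (h4 : Module.finrank F h.MF = 4) (hm : m ∈ L) (hlm : TIq.NP F l m) (hF : 4 ≤ Nat.card F)
    (hAc : Nat.card (A l) = Nat.card F) {Kt : h.MF → Subgroup H} (hfix : ∀ t ∈ Kt l, t • l = l)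
    (hR : TIq.Reg F L Kt l) (hKt : Nat.card (Kt l) = Nat.card F ^ 2) :
    ∃ (θ : F →+* F) (e m : ℕ) (T : Cfsg.Agent.LieRecognition.SzMatrix.Good F θ e), 1 ≤ m ∧
      Nat.card F = 2 ^ (2 * m + 1) ∧
      Nonempty (Cfsg.Agent.Omega.TwoFFour.SzMod T (normalizer (Z : Set G)) (ws V Z) Z) := by
  obtain ⟨hJ, Q, hQ, hQA, -⟩ := g.isoSuzuki hcrit hbend hf ho h4 hl hm hlm (by rw [hAc]; exact hF) hfix hR
    (by rw [hKt, hAc])
  rw [hAc] at hQ
  have hcomm : ∀ a ∈ A l, ∀ b ∈ A l, ∀ m : h.MF, a • (b • m + m) = b • m + m := fun a ha b hb m =>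
    g.fix hl ha (g.comm hl hb m)
  have hne : A l ≠ ⊥ := by
    intro h0
    rw [h0, Subgroup.card_bot] at hAc
    omega
  clear hR hKt hfix ho
  have key : ∀ D : Subgroup H, A l = D → Cfsg.Lie.IsoSuzuki (Cfsg.Agent.WeakTI.QuotInv.soc D) ∧
      ∃ Q : Sylow 2 (Cfsg.Agent.WeakTI.QuotInv.soc D), Nat.card Q = Nat.card F ^ 2 ∧
        ∀ x ∈ Q, x * x = 1 → (x : H) ∈ D := by
    rintro D rfl
    exact ⟨hJ, Q, hQ, hQA⟩
  obtain ⟨hJ', Q', hQ', hQA'⟩ := key _ hA
  rw [hA] at hcomm hne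
  exact h.exists_szMod r hr hf hs hrd h4 hcomm hne hJ' Q' hQ' hQA'

end Co

end Cfsg.Agent.Omega.NO3S.OneQ

end

section


/-!
# NO-3S, `OneSz`: `TIq.GenK` over the frame `Co` gives `SzMod` (bb OMEGA #19637, #19856)

* `GenK.opp`, `GenK.reg` : the inputs of `Gen.isoSuzuki`
* `Co.szMod_of_genK` : the plug
-/

set_option autoImplicit false
set_option linter.unusedSectionVars false

namespace Cfsg.Agent.Omega.NO3S.OneQ

open Subgroup Cfsg.Agent.Omega.NO3S.PT Cfsg.Agent.Omega.NoFF.Basic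
open Cfsg.Agent.WeakTI.FlatBorel (CritAll BenderAll)
open scoped Pointwise

universe u

namespace TIq.GenK

variable {F M H : Type*} [Field F] [AddCommGroup M] [Module F M] [Group H] [DistribMulAction H M] {L : Set M}
    {A : M → Subgroup H} {I : M → Submodule F M} {al : M → M → H} {Kt : M → Subgroup H}

theorem opp [Finite F] [Finite M] [Finite H] (K : GenK F L A I al Kt) (hq : 3 ≤ Nat.card F) : Opp F L A :=
  fun hl hm hlm ha h => K.opp' hq hl hm hlm ha h

theorem reg [Finite F] [Finite M] [Finite H] (K : GenK F L A I al Kt) (hq : 3 ≤ Nat.card F) {l : M} (hl : l ∈ L) :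
    Reg F L Kt l where
  trans := by
    intro m hm m' hm' h h'
    obtain ⟨t, ht, c, hc⟩ := K.orbit hq hl hm (K.np_E hq hl hm h) hm' h'
    have hc0 : c ≠ 0 := by
      rintro rfl
      exact K.toGen.ne_zero hm' (by rw [hc, zero_smul])
    exact ⟨t, ht, c⁻¹, inv_ne_zero hc0, by rw [hc, smul_smul, inv_mul_cancel₀ hc0, one_smul]⟩
  eq_one := fun _ hm h _ ht _ e => K.semireg hq hl hm (K.np_E hq hl hm h) ht e

end TIq.GenK

namespace Co

variable {G : Type u} [Group G] [Finite G] {F : Type} [Field F] [CharP F 2] {S : Sylow 2 G} {B P V Z : Subgroup G}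
  (h : Co F S B P V Z)
variable {H : Type u} [Group H] [DistribMulAction H h.MF] (r : centralizer (Z : Set G) →* H)

/-- the end of case (N), `D_x = I`, TI: from an instance of `TIq.GenK` on `MF` -/
theorem szMod_of_genK [Finite F] [Finite H] [Finite h.MF] (hcrit : CritAll.{u}) (hbend : BenderAll.{u})
    (hr : ∀ (g : centralizer (Z : Set G)) (m : h.MF), r g • m = h.rep g m)
    (hs : Function.Surjective r) (hrd : rd V Z = Z)
    {L : Set h.MF} {A : h.MF → Subgroup H} {I : h.MF → Submodule F h.MF} {al : h.MF → h.MF → H}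
    {Kt : h.MF → Subgroup H} (K : TIq.GenK F L A I al Kt) {l : h.MF} (hl : l ∈ L) (hA : A l = h.Ar r)
    (hF : 4 ≤ Nat.card F) :
    ∃ (θ : F →+* F) (e m : ℕ) (T : Cfsg.Agent.LieRecognition.SzMatrix.Good F θ e), 1 ≤ m ∧
      Nat.card F = 2 ^ (2 * m + 1) ∧
      Nonempty (Cfsg.Agent.Omega.TwoFFour.SzMod T (normalizer (Z : Set G)) (ws V Z) Z) := by
  have hq : 3 ≤ Nat.card F := by omega
  obtain ⟨m, hm, hlm⟩ := K.toGen.exists_opp hl
  exact h.szMod_of_gen r hcrit hbend hr K.faith hs hrd K.toGen hl hA (K.opp hq) (K.toGen.fr_four hl (K.k_one hl))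
    hm (K.toGen.np_of_E hl hlm) hF (K.toGen.card_A_one hl (K.k_one hl)) (fun _ ht => K.Kt_fix hl ht) (K.reg hq hl)
    (K.card_Kt hq hl)

end Co

end Cfsg.Agent.Omega.NO3S.OneQ

end

end

-- merged: Cfsg.Agent.Mrg.Omega.NO3S.OneQ.CaseN
section

/-!
# NO-3S, `OneQ`, case (N), `D_x = I`, TI: `W_Z / Z` is natural for `Sz(q)`

* **`Co.szMod`** `(hG) (hN : NTr V Z) (hD : dd V Z Z ≤ IV V Z) (hTI : TIw V Z) (hF : 4 ≤ |F|)`.
-/

set_option autoImplicit false
set_option linter.unusedSectionVars false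

namespace Cfsg.Agent.Omega.NO3S.OneQ

open Subgroup Cfsg Cfsg.Agent.Omega.NO3S.PT Cfsg.Agent.Omega.NoFF.Basic
open Cfsg.Agent.WeakTI.FlatBorel (CritAll BenderAll)
open scoped Pointwise

universe u

variable {G : Type u} [Group G]

namespace Co

variable [Finite G] {F : Type} [Field F] [CharP F 2] {S : Sylow 2 G} {B P V Z : Subgroup G} (h : Co F S B P V Z)

theorem v0_LL : h.v0 ∈ h.LL := ⟨1, 1, one_ne_zero, by rw [one_smul, one_smul]⟩

theorem At_v0 (hrd : rd V Z = Z) : h.At h.v0 = h.Ar h.hm.rangeRestrict := by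
  ext x
  rw [h.mem_At hrd (x := 1) (c := 1) one_ne_zero (by rw [one_smul, one_smul]), inv_one, one_mul, mul_one, h.mem_AI,
    h.mem_Ar]
  constructor
  · rintro ⟨a, ha, rfl⟩
    exact ⟨⟨a, h.one.W_le_C h.pY ha⟩, ha, (h.ph_eq _).symm⟩
  · rintro ⟨⟨a, haC⟩, ha, rfl⟩
    exact ⟨a, ha, h.ph_eq haC⟩

include h in
/-- **case (N), `D_x = I`, TI** -/
theorem szMod (hcrit : CritAll.{u}) (hbend : BenderAll.{u}) (hG : IsCharacteristicTwoType G) (hN : NTr V Z)
    (hD : dd V Z Z ≤ IV V Z) (hTI : TIw V Z) (hF : 4 ≤ Nat.card F) :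
    ∃ (θ : F →+* F) (e m : ℕ) (T : Cfsg.Agent.LieRecognition.SzMatrix.Good F θ e), 1 ≤ m ∧
      Nat.card F = 2 ^ (2 * m + 1) ∧
      Nonempty (Cfsg.Agent.Omega.TwoFFour.SzMod T (normalizer (Z : Set G)) (ws V Z) Z) := by
  have := h.finF
  have := h.finMF
  exact h.szMod_of_genK h.hm.rangeRestrict hcrit hbend (fun g m => rfl) h.hm.rangeRestrict_surjective (h.rd_eq hN hD)
    (h.genK hN hD hG hTI) h.v0_LL (h.At_v0 (h.rd_eq hN hD)) hF

end Co

end Cfsg.Agent.Omega.NO3S.OneQ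

end

-- merged: Cfsg.Agent.Mrg.Omega.NO3S.OneQ.CaseN1
section

/-!
# NO-3S, `OneQ`, case (N), `dim MF / Ē = 1`: `W_Z / Z` is natural for `Sz(q)`

* `Co.nn_of` : `NTr V Z → NN V Z`; `Co.preN` : the record `TIq.Pre` if `D_Z ≤ I`; `Co.preIN` : helper248's `PreI`;
* **`Co.szMod_one`** : case (N), `dim MF / Ē = 1`.
-/

set_option autoImplicit false
set_option linter.unusedSectionVars false

namespace Cfsg.Agent.Omega.NO3S.OneQ

open Subgroup Cfsg Cfsg.Agent.Omega.NO3S.PT Cfsg.Agent.Omega.NoFF.Basic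
open Cfsg.Agent.WeakTI.FlatBorel (CritAll BenderAll)
open scoped Pointwise

universe u

variable {G : Type u} [Group G]

namespace Co

section

variable [Finite G] {F : Type*} [Field F] [CharP F 2] {S : Sylow 2 G} {B P V Z : Subgroup G} (h : Co F S B P V Z)

include h in
theorem nn_of (hN : NTr V Z) : NN V Z := h.n0_le_ee h.pY h.Yp_ne (hN _ h.pY h.Yp_ne)

theorem preN (hN : NTr V Z) (hD : dd V Z Z ≤ IV V Z) : TIq.Pre F h.LL h.At (h.It hN hD) h.alt h.Kt where
  two := h.add_self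
  lin := h.hh_lin
  zero := h.LL_zero
  fsm := h.LL_fsm
  A_sm := h.At_sm (h.rd_eq hN hD)
  A_conj := h.At_conj (h.rd_eq hN hD)
  sq _ ha := h.At_sq ha
  self := h.It_self hN hD
  comm _ ha m := h.At_comm hN hD ha m
  fix _ ha hu := h.At_fix hN hD ha hu
  al_mem _ m := h.alt_mem _ m
  al_add _ := h.alt_add hN _
  al_surj _ ha := h.alt_surj hN ha
  al_ker hl := h.alt_ker hN hl
  phl _ c e x he := h.alt_phl hN c e x he
  bl hl := h.alt_bl hN hl
  dual hl f hf := h.alt_dual hN hl f hf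
  faith x hx := h.faith fun m => by rw [hx, one_smul]
  Kt_sm := h.Kt_sm (h.rd_eq hN hD)
  Kt_fix := h.Kt_fix
  Kt_A _ ht ha := h.Kt_A ht ha
  Kt_hom := h.Kt_hom hN hD

theorem v0_LL' : h.v0 ∈ h.LL := ⟨1, 1, one_ne_zero, by rw [one_smul, one_smul]⟩

theorem preIN (hN : NTr V Z) (hD : dd V Z Z ≤ IV V Z) :
    h.PreI h.hm.rangeRestrict h.LL h.At (h.It hN hD) h.alt h.Kt where
  pre := h.preN hN hD
  act _ _ := rfl
  v0_mem := h.v0_LL'
  smul_mem _ _ hl := h.LL_smul _ hl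
  orbit := by
    rintro l ⟨x, c, hc, rfl⟩
    obtain ⟨g, hg⟩ := h.hm.rangeRestrict_surjective x
    exact ⟨g, c, hc, by rw [hg]⟩
  A_zero x := by
    rw [h.mem_At (h.rd_eq hN hD) (x := 1) (c := 1) one_ne_zero (by rw [one_smul, one_smul]), inv_one, one_mul, mul_one,
      h.mem_AI]
    constructor
    · rintro ⟨a, ha, rfl⟩
      exact ⟨a, ha, (h.ph_eq _).symm⟩
    · rintro ⟨a, ha, rfl⟩
      exact ⟨a, ha, h.ph_eq _⟩

/-- TI, `dim MF / Ē = 1` -/
theorem tiw_one (hN : NTr V Z) (hD : dd V Z Z ≤ IV V Z) (hq : ∃ c : F, c ≠ 0 ∧ c ≠ 1)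
    (one : ∀ x y : h.MF, x ∉ h.Eb → ∃ c : F, y + c • x ∈ h.Eb) : TIw V Z :=
  h.tiw_of ((h.preIN hN hD).ti (h.nn_of hN) (h.rd_eq hN hD) hq one)

include h in
theorem exists_ne_zero_one (hF : 3 ≤ Nat.card F) : ∃ c : F, c ≠ 0 ∧ c ≠ 1 := by
  have := h.finF
  by_contra hcon
  push Not at hcon
  have h1 : Nat.card F ≤ 2 := by
    classical
    have h2 : (Set.univ : Set F) ⊆ {0, 1} := fun c _ => by
      by_cases hc : c = 0
      · exact Or.inl hc
      · exact Or.inr (hcon c hc)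
    rw [← Set.ncard_univ]
    exact (Set.ncard_le_ncard h2).trans ((Set.ncard_insert_le _ _).trans (by rw [Set.ncard_singleton]))
  omega

end

section

variable [Finite G] {F : Type} [Field F] [CharP F 2] {S : Sylow 2 G} {B P V Z : Subgroup G} (h : Co F S B P V Z)

include h in
/-- **case (N), `dim MF / Ē = 1`** -/
theorem szMod_one (hcrit : CritAll.{u}) (hbend : BenderAll.{u}) (hG : IsCharacteristicTwoType G) (hN : NTr V Z)
    (hone : ∀ x y : h.MF, x ∉ h.Eb → ∃ c : F, y + c • x ∈ h.Eb) (hF : 4 ≤ Nat.card F) :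
    ∃ (θ : F →+* F) (e m : ℕ) (T : Cfsg.Agent.LieRecognition.SzMatrix.Good F θ e), 1 ≤ m ∧
      Nat.card F = 2 ^ (2 * m + 1) ∧
      Nonempty (Cfsg.Agent.Omega.TwoFFour.SzMod T (normalizer (Z : Set G)) (ws V Z) Z) := by
  have := h.finF
  have hD : dd V Z Z ≤ IV V Z := h.dd_le_of_one hN fun m n hn => by
    obtain ⟨c, hc⟩ := hone n m hn
    exact ⟨c, by rw [h.sub_eq]; exact hc⟩
  exact h.szMod hcrit hbend hG hN hD (h.tiw_one hN hD (h.exists_ne_zero_one (by omega)) hone) hF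

end

end Co

end Cfsg.Agent.Omega.NO3S.OneQ

end
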